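import Cfsg.Agent.Lib.Leech.Aut.Cols
import Cfsg.Agent.Lib.Schur.PathCert

/-!
Checked evaluation of words in elements of Co0 given by packed columns, and of images of tuples of vectors.
-/

set_option autoImplicit false

namespace CfsgLib.SchurLeech

open Cfsg CfsgLib CfsgLib.Leech CfsgLib.Leech.Stab CfsgLib.Leech.Aut

/-- The image of a packed vector, computed in natural numbers. -/
def stepN (A : List ℕ) (n : ℕ) : ℕ :=
  ((sumFC A n + 392 * offN) - (offN * sumF A n + 16 * A.sum)) / 8

/-- All products are exact. -/
def mulOK (A B : List ℕ) : Bool := B.all fun n => applyB A n (stepN A n)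

theorem mulC_eq {A B : List ℕ} (h : mulOK A B = true) : mulC A B = B.map (stepN A) := by
  simp only [mulOK, List.all_eq_true] at h
  refine List.map_congr_left fun n hn => ?_
  rw [applyC_of_applyB (h n hn), packL, Int.mul_ediv_cancel_left _ (by norm_num), colZ, offN_eq]
  omega

/-- The columns of a word. -/
def evalC (L : List (List ℕ)) : List ℕ → List ℕ
  | [] => idC
  | a :: w => (evalC L w).map (stepN (L.getD a idC))

/-- The evaluation of a word is exact and gives the stated columns. -/
def evalB (L : List (List ℕ)) : List ℕ → Bool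
  | [] => true
  | a :: w => Nat.blt a L.length && mulOK (L.getD a idC) (evalC L w) && evalB L w

theorem valid_evalC {L : List (List ℕ)} (e : ℕ → Co0)
    (he : ∀ a < L.length, Valid (e a) (L.getD a idC)) :
    ∀ w, evalB L w = true → Valid (SchurPath.wv e w) (evalC L w)
  | [], _ => valid_one
  | a :: w, h => by
    simp only [evalB, Bool.and_eq_true, Nat.blt_eq] at h
    have hv := valid_mul (he a h.1.1) (valid_evalC e he w h.2)
    rw [mulC_eq h.1.2] at hv
    exact hv

/-- The image of a vector under a word. -/
def evalV (L : List (List ℕ)) : List ℕ → ℕ → ℕ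
  | [], n => n
  | a :: w, n => stepN (L.getD a idC) (evalV L w n)

/-- The image of a vector under a word is exact. -/
def vecB (L : List (List ℕ)) : List ℕ → ℕ → Bool
  | [], _ => true
  | a :: w, n => Nat.blt a L.length && applyB (L.getD a idC) (evalV L w n) (stepN (L.getD a idC) (evalV L w n)) &&
      vecB L w n

theorem rep_evalV {L : List (List ℕ)} (e : ℕ → Co0) (he : ∀ a < L.length, Valid (e a) (L.getD a idC))
    {v : leechLattice} (hv : sqNorm (v : GolayPt → ℤ) ≤ 80) :
    ∀ w n, Stab.Rep (v : GolayPt → ℤ) n → vecB L w n = true →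
      Stab.Rep ((SchurPath.wv e w • v : leechLattice) : GolayPt → ℤ) (evalV L w n)
  | [], n, hn, _ => by
    show Stab.Rep (((1 : Co0) • v : leechLattice) : GolayPt → ℤ) n
    rw [one_smul]
    exact hn
  | a :: w, n, hn, h => by
    simp only [vecB, Bool.and_eq_true, Nat.blt_eq] at h
    have ih := rep_evalV e he hv w n hn h.2
    show Stab.Rep (((e a * SchurPath.wv e w) • v : leechLattice) : GolayPt → ℤ) _
    rw [mul_smul]
    exact rep_smul (he a h.1.1) ih (by rw [sqNorm_smul]; exact hv) (applyC_of_applyB h.1.2)

/-- The checked key of a word on a list of packed vectors. -/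
def keyV (L : List (List ℕ)) (base : List ℕ) (w : List ℕ) : ℕ :=
  base.foldr (fun n k => evalV L w n + 2 ^ 128 * k) 0

/-- A strictly increasing list. -/
def incr : List ℕ → Bool
  | a :: b :: l => Nat.blt a b && incr (b :: l)
  | _ => true

theorem incr_pairwise : ∀ l : List ℕ, incr l = true → l.Pairwise (· < ·)
  | [], _ => List.Pairwise.nil
  | [_], _ => List.pairwise_singleton _ _
  | a :: b :: l, h => by
    simp only [incr, Bool.and_eq_true, Nat.blt_eq] at h
    have ih := incr_pairwise (b :: l) h.2
    refine List.pairwise_cons.2 ⟨fun c hc => ?_, ih⟩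
    rcases List.mem_cons.1 hc with rfl | hc
    · exact h.1
    · exact h.1.trans ((List.pairwise_cons.1 ih).1 c hc)

/-- Equal elements move a packed vector to the same packed vector. -/
theorem evalV_eq {L : List (List ℕ)} (e : ℕ → Co0) (he : ∀ a < L.length, Valid (e a) (L.getD a idC))
    {n : ℕ} (hn : ∃ v : leechLattice, sqNorm (v : GolayPt → ℤ) ≤ 80 ∧ Stab.Rep (v : GolayPt → ℤ) n)
    (u w : List ℕ) (h : SchurPath.wv e u = SchurPath.wv e w)
    (hu : vecB L u n = true) (hw : vecB L w n = true) : evalV L u n = evalV L w n := by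
  obtain ⟨v, hv, hr⟩ := hn
  have e1 := rep_evalV e he hv u n hr hu
  have e2 := rep_evalV e he hv w n hr hw
  rw [h] at e1
  have e3 : colZ (evalV L u n) = colZ (evalV L w n) := e1.symm.trans e2
  simp only [colZ] at e3
  omega

theorem keyV_eq {L : List (List ℕ)} (e : ℕ → Co0) (he : ∀ a < L.length, Valid (e a) (L.getD a idC))
    (u w : List ℕ) (h : SchurPath.wv e u = SchurPath.wv e w) : ∀ base : List ℕ,
    (∀ n ∈ base, (∃ v : leechLattice, sqNorm (v : GolayPt → ℤ) ≤ 80 ∧ Stab.Rep (v : GolayPt → ℤ) n) ∧
      vecB L u n = true ∧ vecB L w n = true) → keyV L base u = keyV L base w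
  | [], _ => rfl
  | n :: base, hb => by
    obtain ⟨hn, hu, hw⟩ := hb n List.mem_cons_self
    have ih := keyV_eq e he u w h base fun m hm => hb m (List.mem_cons_of_mem _ hm)
    simp only [keyV, List.foldr_cons] at ih ⊢
    rw [ih, evalV_eq e he hn u w h hu hw]

end CfsgLib.SchurLeech
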