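import Cfsg.Agent.Lib.Schur.PathCert

/-!
Certificates for the splitting of central extensions of the group Co3 over its Sylow subgroups.
-/

set_option autoImplicit false
set_option maxRecDepth 20000

namespace CfsgLib.SchurCoThree

/-- Part of a closed path for the prime 5. -/
def path5_4_0 : List SchurPath.Step :=
  [([], [2, 2, 2, 2], 11, false),
    ([1, 2, 2, 2, 2], [2, 2, 2], 11, false),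
    ([1, 2, 2, 2, 2, 1, 2, 2, 2, 2], [2, 2], 11, false),
    ([1, 2, 2, 2, 2, 1, 2, 2, 2, 2, 1, 2, 2, 2, 2], [2], 11, false),
    ([1, 2, 2, 2, 2, 1, 2, 2, 2, 2, 1, 2, 2, 2, 2, 1, 2, 2, 2, 2], [], 11, false),
    ([1, 2, 2, 2], [2, 2, 2, 2, 1, 2, 2, 2, 2, 1, 2, 2, 2, 2, 1, 2, 2, 2, 2, 4], 4, false),
    ([1, 2, 2, 2, 0, 0, 0, 1, 2, 2, 2, 2, 2, 1, 2, 2, 2, 2, 1, 2, 2, 2], [2, 2, 2, 2, 4], 4, false),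
    ([1, 2, 2, 2, 0, 0, 0, 1, 2, 2, 2, 2, 2, 1, 2, 2, 2, 2, 1, 2, 2, 2, 0, 0, 0, 1], [4], 5, false),
    ([1, 2, 2, 2, 0, 0, 0, 1, 2, 2, 2, 2, 2, 1, 2, 2, 2, 2, 1, 2, 2], [0, 0, 1, 4], 3, false),
    ([1, 2, 2, 2, 0, 0, 0, 1, 2, 2, 2, 2, 2, 1, 2, 2, 2, 2, 1, 2, 2, 0], [0, 1, 4], 3, false),
    ([1, 2, 2, 2, 0, 0, 0, 1, 2, 2, 2, 2, 2, 1, 2, 2, 2, 2, 1, 2, 2, 0, 0], [1, 4], 3, false),
    ([1, 2, 2, 2, 0, 0, 0, 1, 2, 2, 2, 2, 2, 1, 2, 2, 2, 2, 1, 2, 2, 0, 0, 0], [4], 4, false),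
    ([1, 2, 2, 2, 0, 0, 0, 1, 2, 2, 2, 2, 2, 1, 2, 2, 2, 2, 1, 2, 2, 0], [1, 2, 4], 0, false),
    ([1, 2, 2, 2, 0, 0, 0, 1, 2, 2, 2, 2, 2, 1, 2, 2, 2, 2, 1, 2], [1, 2, 4], 3, false),
    ([1, 2, 2, 2, 0, 0, 0, 1, 2, 2, 2, 2, 2, 1, 2, 2, 2, 2, 1, 2, 0], [2, 4], 4, false),
    ([1, 2, 2, 2, 0, 0, 0, 1, 2, 2, 2, 2, 2, 1, 2, 2, 2, 2, 1], [0, 0, 0, 1, 2, 2, 4], 3, false),
    ([1, 2, 2, 2, 0, 0, 0, 1, 2, 2, 2, 2, 2, 1, 2, 2, 2, 2, 1, 0], [0, 0, 1, 2, 2, 4], 3, false),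
    ([1, 2, 2, 2, 0, 0, 0, 1, 2, 2, 2, 2, 2, 1, 2, 2, 2, 2, 1, 0, 0], [0, 1, 2, 2, 4], 3, false),
    ([1, 2, 2, 2, 0, 0, 0, 1, 2, 2, 2, 2, 2, 1, 2, 2, 2, 2, 1, 0, 0, 0], [1, 2, 2, 4], 3, false),
    ([1, 2, 2, 2, 0, 0, 0, 1, 2, 2, 2, 2, 2, 1, 2, 2, 2, 2, 1, 0, 0, 0, 0], [2, 2, 4], 4, false),
    ([1, 2, 2, 2, 0, 0, 0, 1, 2, 2, 2, 2, 2, 1, 2, 2, 2, 2, 1, 0, 0], [1, 2, 2, 2, 4], 0, false),
    ([1, 2, 2, 2, 0, 0, 0, 1, 2, 2, 2, 2, 2, 1, 2, 2, 2, 2], [0, 1, 2, 2, 2, 4], 1, false),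
    ([1, 2, 2, 2, 0, 0, 0, 1, 2, 2, 2, 2, 2, 1, 2, 2, 2, 2, 0], [1, 2, 2, 2, 4], 1, false),
    ([1, 2, 2, 2, 0, 0, 0, 1, 2, 2, 2, 2, 2, 1, 2, 2, 2], [0, 1, 1, 2, 2, 2, 4], 3, false),
    ([1, 2, 2, 2, 0, 0, 0, 1, 2, 2, 2, 2, 2, 1, 2, 2, 2, 0], [1, 1, 2, 2, 2, 4], 3, false),
    ([1, 2, 2, 2, 0, 0, 0, 1, 2, 2, 2, 2, 2, 1, 2, 2, 2, 0, 0], [1, 2, 2, 2, 4], 4, false),
    ([1, 2, 2, 2, 0, 0, 0, 1, 2, 2, 2, 2, 2, 1, 2, 2, 2, 0, 0, 0, 0, 0, 1], [2, 2, 2, 4], 4, false),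
    ([1, 2, 2, 2, 0, 0, 0, 1, 2, 2, 2, 2, 2, 1, 2, 2, 2, 0, 0, 0, 0, 0], [0, 0, 1, 2, 2, 2, 2, 4], 1, false),
    ([1, 2, 2, 2, 0, 0, 0, 1, 2, 2, 2, 2, 2, 1, 2, 2, 2, 0, 0, 0, 0, 0, 0], [0, 1, 2, 2, 2, 2, 4], 1, false),
    ([1, 2, 2, 2, 0, 0, 0, 1, 2, 2, 2, 2, 2, 1, 2, 2, 2, 0, 0, 0, 0, 0, 0, 0], [1, 2, 2, 2, 2, 4], 1, false),
    ([1, 2, 2, 2, 0, 0, 0, 1, 2, 2, 2, 2, 2, 1, 2, 2, 2, 0, 0, 0], [1, 1, 2, 2, 2, 2, 4], 0, false),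
    ([1, 2, 2, 2, 0, 0, 0, 1, 2, 2, 2, 2, 2, 1, 2, 2], [0, 0, 1, 1, 2, 2, 2, 2, 4], 3, false),
    ([1, 2, 2, 2, 0, 0, 0, 1, 2, 2, 2, 2, 2, 1, 2, 2, 0], [0, 1, 1, 2, 2, 2, 2, 4], 3, false),
    ([1, 2, 2, 2, 0, 0, 0, 1, 2, 2, 2, 2, 2, 1, 2, 2, 0, 0], [1, 1, 2, 2, 2, 2, 4], 3, false),
    ([1, 2, 2, 2, 0, 0, 0, 1, 2, 2, 2, 2, 2, 1, 2, 2, 0, 0, 0], [1, 2, 2, 2, 2, 4], 4, false),
    ([1, 2, 2, 2, 0, 0, 0, 1, 2, 2, 2, 2, 2, 1, 2, 2, 0, 0, 0, 0, 0, 0, 1], [2, 2, 2, 2, 4], 4, false),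
    ([1, 2, 2, 2, 0, 0, 0, 1, 2, 2, 2, 2, 2, 1, 2, 2, 0, 0, 0, 0, 0, 0, 1, 0, 0, 0, 1], [4], 5, false),
    ([1, 2, 2, 2, 0, 0, 0, 1, 2, 2, 2, 2, 2, 1, 2, 2, 0, 0, 0, 0, 0, 0], [0, 0, 1, 4], 1, false),
    ([1, 2, 2, 2, 0, 0, 0, 1, 2, 2, 2, 2, 2, 1, 2, 2, 0, 0, 0, 0, 0, 0, 0], [0, 1, 4], 1, false),
    ([1, 2, 2, 2, 0, 0, 0, 1, 2, 2, 2, 2, 2, 1, 2, 2, 0, 0, 0, 0, 0, 0, 0, 0], [1, 4], 1, false),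
    ([1, 2, 2, 2, 0, 0, 0, 1, 2, 2, 2, 2, 2, 1, 2, 2, 0, 0, 0, 0], [1, 1, 4], 0, false),
    ([1, 2, 2, 2, 0, 0, 0, 1, 2, 2, 2, 2, 2, 1, 2], [0, 0, 0, 1, 1, 4], 3, false),
    ([1, 2, 2, 2, 0, 0, 0, 1, 2, 2, 2, 2, 2, 1, 2, 0], [0, 0, 1, 1, 4], 3, false),
    ([1, 2, 2, 2, 0, 0, 0, 1, 2, 2, 2, 2, 2, 1, 2, 0, 0], [0, 1, 1, 4], 3, false),
    ([1, 2, 2, 2, 0, 0, 0, 1, 2, 2, 2, 2, 2, 1, 2, 0, 0, 0], [1, 1, 4], 3, false),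
    ([1, 2, 2, 2, 0, 0, 0, 1, 2, 2, 2, 2, 2, 1, 2, 0, 0, 0, 0], [1, 4], 4, false),
    ([1, 2, 2, 2, 0, 0, 0, 1, 2, 2, 2, 2, 2, 1, 2, 0, 0, 0, 0, 0, 0, 0, 1], [4], 4, false),
    ([1, 2, 2, 2, 0, 0, 0, 1, 2, 2, 2, 2, 2, 1, 2, 0, 0, 0, 0, 0, 0, 0], [0, 0, 1, 2, 4], 1, false),
    ([1, 2, 2, 2, 0, 0, 0, 1, 2, 2, 2, 2, 2, 1, 2, 0, 0, 0, 0, 0, 0, 0, 0], [0, 1, 2, 4], 1, false),
    ([1, 2, 2, 2, 0, 0, 0, 1, 2, 2, 2, 2, 2, 1, 2, 0, 0, 0, 0, 0, 0, 0, 0, 0], [1, 2, 4], 1, false),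
    ([1, 2, 2, 2, 0, 0, 0, 1, 2, 2, 2, 2, 2, 1, 2, 0, 0, 0, 0, 0], [1, 1, 2, 4], 0, false),
    ([1, 2, 2, 2, 0, 0, 0, 1, 2, 2, 2, 2, 2, 1, 2], [1, 1, 2, 4], 0, false),
    ([1, 2, 2, 2, 0, 0, 0, 1, 2, 2, 2, 2, 2, 1], [1, 2, 4], 4, false),
    ([1, 2, 2, 2, 0, 0, 0, 1, 2, 2, 2, 2, 2, 1, 0, 0, 0, 1], [2, 4], 4, false),
    ([1, 2, 2, 2, 0, 0, 0, 1, 2, 2, 2, 2, 2, 1, 0, 0, 0], [0, 0, 1, 2, 2, 4], 1, false),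
    ([1, 2, 2, 2, 0, 0, 0, 1, 2, 2, 2, 2, 2, 1, 0, 0, 0, 0], [0, 1, 2, 2, 4], 1, false),
    ([1, 2, 2, 2, 0, 0, 0, 1, 2, 2, 2, 2, 2, 1, 0, 0, 0, 0, 0], [1, 2, 2, 4], 1, false),
    ([1, 2, 2, 2, 0, 0, 0, 1, 2, 2, 2, 2, 2, 1, 0], [1, 1, 2, 2, 4], 0, false),
    ([1, 2, 2, 2, 0, 0, 0, 1, 2, 2, 2, 2, 2], [1, 1, 2, 2, 4], 1, false),
    ([1, 2, 2, 2, 0, 0, 0, 1, 2, 2, 2, 2], [1, 1, 1, 2, 2, 4], 3, false)]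

/-- Part of a closed path for the prime 5. -/
def path5_4_1 : List SchurPath.Step :=
  [([1, 2, 2, 2, 0, 0, 0, 1, 2, 2, 2, 2, 0], [1, 1, 2, 2, 4], 4, false),
    ([1, 2, 2, 2, 0, 0, 0, 1, 2, 2, 2, 2, 0, 0, 0, 0, 1], [1, 2, 2, 4], 4, false),
    ([1, 2, 2, 2, 0, 0, 0, 1, 2, 2, 2, 2, 0, 0, 0, 0, 1, 0, 0, 0, 1], [2, 2, 4], 4, false),
    ([1, 2, 2, 2, 0, 0, 0, 1, 2, 2, 2, 2, 0, 0, 0, 0, 1, 0, 0, 0], [0, 0, 1, 2, 2, 2, 4], 1, false),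
    ([1, 2, 2, 2, 0, 0, 0, 1, 2, 2, 2, 2, 0, 0, 0, 0, 1, 0, 0, 0, 0], [0, 1, 2, 2, 2, 4], 1, false),
    ([1, 2, 2, 2, 0, 0, 0, 1, 2, 2, 2, 2, 0, 0, 0, 0, 1, 0, 0, 0, 0, 0], [1, 2, 2, 2, 4], 1, false),
    ([1, 2, 2, 2, 0, 0, 0, 1, 2, 2, 2, 2, 0, 0, 0, 0, 1, 0], [1, 1, 2, 2, 2, 4], 0, false),
    ([1, 2, 2, 2, 0, 0, 0, 1, 2, 2, 2, 2, 0, 0, 0, 0], [1, 1, 2, 2, 2, 4], 1, false),
    ([1, 2, 2, 2, 0, 0, 0, 1, 2, 2, 2, 2], [1, 1, 1, 2, 2, 2, 4], 0, false),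
    ([1, 2, 2, 2, 0, 0, 0, 1, 2, 2, 2], [1, 1, 2, 2, 2, 4], 4, false),
    ([1, 2, 2, 2, 0, 0, 0, 1, 2, 2, 2, 0, 0, 0, 1], [1, 2, 2, 2, 4], 4, false),
    ([1, 2, 2, 2, 0, 0, 0, 1, 2, 2, 2, 0, 0, 0, 1, 0, 0, 0, 1], [2, 2, 2, 4], 4, false),
    ([1, 2, 2, 2, 0, 0, 0, 1, 2, 2, 2, 0, 0, 0, 1, 0, 0, 0], [0, 0, 1, 2, 2, 2, 2, 4], 1, false),
    ([1, 2, 2, 2, 0, 0, 0, 1, 2, 2, 2, 0, 0, 0, 1, 0, 0, 0, 0], [0, 1, 2, 2, 2, 2, 4], 1, false),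
    ([1, 2, 2, 2, 0, 0, 0, 1, 2, 2, 2, 0, 0, 0, 1, 0, 0, 0, 0, 0], [1, 2, 2, 2, 2, 4], 1, false),
    ([1, 2, 2, 2, 0, 0, 0, 1, 2, 2, 2, 0, 0, 0, 1, 0], [1, 1, 2, 2, 2, 2, 4], 0, false),
    ([1, 2, 2, 2, 0, 0, 0, 1, 2, 2, 2, 0, 0, 0], [1, 1, 2, 2, 2, 2, 4], 1, false),
    ([1, 2, 2, 2, 0, 0, 0, 1, 2, 2], [0, 0, 0, 1, 1, 1, 2, 2, 2, 2, 4], 3, false),
    ([1, 2, 2, 2, 0, 0, 0, 1, 2, 2, 0], [0, 0, 1, 1, 1, 2, 2, 2, 2, 4], 3, false),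
    ([1, 2, 2, 2, 0, 0, 0, 1, 2, 2, 0, 0], [0, 1, 1, 1, 2, 2, 2, 2, 4], 3, false),
    ([1, 2, 2, 2, 0, 0, 0, 1, 2, 2, 0, 0, 0], [1, 1, 1, 2, 2, 2, 2, 4], 3, false),
    ([1, 2, 2, 2, 0, 0, 0, 1, 2, 2, 0, 0, 0, 0], [1, 1, 2, 2, 2, 2, 4], 4, false),
    ([1, 2, 2, 2, 0, 0, 0, 1, 2, 2, 0, 0, 0, 0, 0, 0, 0, 1], [1, 2, 2, 2, 2, 4], 4, false),
    ([1, 2, 2, 2, 0, 0, 0, 1, 2, 2, 0, 0, 0, 0, 0, 0, 0, 1, 0, 0, 0, 1], [2, 2, 2, 2, 4], 4, false),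
    ([1, 2, 2, 2, 0, 0, 0, 1, 2, 2, 0, 0, 0, 0, 0, 0, 0, 1, 0, 0, 0, 1, 0, 0, 0, 1], [4], 5, false),
    ([1, 2, 2, 2, 0, 0, 0, 1, 2, 2, 0, 0, 0, 0, 0, 0, 0, 1, 0, 0, 0], [0, 0, 1, 4], 1, false),
    ([1, 2, 2, 2, 0, 0, 0, 1, 2, 2, 0, 0, 0, 0, 0, 0, 0, 1, 0, 0, 0, 0], [0, 1, 4], 1, false),
    ([1, 2, 2, 2, 0, 0, 0, 1, 2, 2, 0, 0, 0, 0, 0, 0, 0, 1, 0, 0, 0, 0, 0], [1, 4], 1, false),
    ([1, 2, 2, 2, 0, 0, 0, 1, 2, 2, 0, 0, 0, 0, 0, 0, 0, 1, 0], [1, 1, 4], 0, false),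
    ([1, 2, 2, 2, 0, 0, 0, 1, 2, 2, 0, 0, 0, 0, 0, 0, 0], [1, 1, 4], 1, false),
    ([1, 2, 2, 2, 0, 0, 0, 1, 2, 2, 0, 0, 0], [1, 1, 1, 4], 0, false),
    ([1, 2, 2, 2, 0, 0, 0, 1, 2], [0, 0, 1, 1, 1, 4], 3, false),
    ([1, 2, 2, 2, 0, 0, 0, 1, 2, 0], [0, 1, 1, 1, 4], 3, false),
    ([1, 2, 2, 2, 0, 0, 0, 1, 2, 0, 0], [1, 1, 1, 4], 3, false),
    ([1, 2, 2, 2, 0, 0, 0, 1, 2, 0, 0, 0], [1, 1, 4], 4, false),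
    ([1, 2, 2, 2, 0, 0, 0, 1, 2, 0, 0, 0, 0, 0, 0, 1], [1, 4], 4, false),
    ([1, 2, 2, 2, 0, 0, 0, 1, 2, 0, 0, 0, 0, 0, 0, 1, 0, 0, 0, 1], [4], 4, false),
    ([1, 2, 2, 2, 0, 0, 0, 1, 2, 0, 0, 0, 0, 0, 0, 1, 0, 0, 0], [0, 0, 1, 2, 4], 1, false),
    ([1, 2, 2, 2, 0, 0, 0, 1, 2, 0, 0, 0, 0, 0, 0, 1, 0, 0, 0, 0], [0, 1, 2, 4], 1, false),
    ([1, 2, 2, 2, 0, 0, 0, 1, 2, 0, 0, 0, 0, 0, 0, 1, 0, 0, 0, 0, 0], [1, 2, 4], 1, false),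
    ([1, 2, 2, 2, 0, 0, 0, 1, 2, 0, 0, 0, 0, 0, 0, 1, 0], [1, 1, 2, 4], 0, false),
    ([1, 2, 2, 2, 0, 0, 0, 1, 2, 0, 0, 0, 0, 0, 0], [1, 1, 2, 4], 1, false),
    ([1, 2, 2, 2, 0, 0, 0, 1, 2, 0, 0], [1, 1, 1, 2, 4], 0, false),
    ([1, 2, 2, 2, 0, 0, 0, 1], [0, 1, 1, 1, 2, 4], 3, false),
    ([1, 2, 2, 2, 0, 0, 0, 1, 0], [1, 1, 1, 2, 4], 3, false),
    ([1, 2, 2, 2, 0, 0, 0, 1, 0, 0], [1, 1, 2, 4], 4, false),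
    ([1, 2, 2, 2, 0, 0, 0, 1, 0, 0, 0, 0, 0, 1], [1, 2, 4], 4, false),
    ([1, 2, 2, 2, 0, 0, 0, 1, 0, 0, 0, 0, 0, 1, 0, 0, 0, 1], [2, 4], 4, false),
    ([1, 2, 2, 2, 0, 0, 0, 1, 0, 0, 0, 0, 0, 1, 0, 0, 0], [0, 0, 1, 2, 2, 4], 1, false),
    ([1, 2, 2, 2, 0, 0, 0, 1, 0, 0, 0, 0, 0, 1, 0, 0, 0, 0], [0, 1, 2, 2, 4], 1, false),
    ([1, 2, 2, 2, 0, 0, 0, 1, 0, 0, 0, 0, 0, 1, 0, 0, 0, 0, 0], [1, 2, 2, 4], 1, false),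
    ([1, 2, 2, 2, 0, 0, 0, 1, 0, 0, 0, 0, 0, 1, 0], [1, 1, 2, 2, 4], 0, false),
    ([1, 2, 2, 2, 0, 0, 0, 1, 0, 0, 0, 0, 0], [1, 1, 2, 2, 4], 1, false),
    ([1, 2, 2, 2, 0, 0, 0, 1, 0], [1, 1, 1, 2, 2, 4], 0, false),
    ([1, 2, 2, 2, 0, 0, 0], [1, 1, 1, 2, 2, 4], 1, false),
    ([1, 2, 2], [0, 0, 0, 1, 1, 1, 1, 2, 2, 4], 3, false),
    ([1, 2, 2, 0], [0, 0, 1, 1, 1, 1, 2, 2, 4], 3, false),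
    ([1, 2, 2, 0, 0], [0, 1, 1, 1, 1, 2, 2, 4], 3, false),
    ([1, 2, 2, 0, 0, 0], [1, 1, 1, 1, 2, 2, 4], 3, false),
    ([1, 2, 2, 0, 0, 0, 0], [1, 1, 1, 2, 2, 4], 4, false)]

/-- Part of a closed path for the prime 5. -/
def path5_4_2 : List SchurPath.Step :=
  [([1, 2, 2, 0, 0, 0, 0, 0, 0, 0, 1], [1, 1, 2, 2, 4], 4, false),
    ([1, 2, 2, 0, 0, 0, 0, 0, 0, 0, 1, 0, 0, 0, 1], [1, 2, 2, 4], 4, false),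
    ([1, 2, 2, 0, 0, 0, 0, 0, 0, 0, 1, 0, 0, 0, 1, 0, 0, 0, 1], [2, 2, 4], 4, false),
    ([1, 2, 2, 0, 0, 0, 0, 0, 0, 0, 1, 0, 0, 0, 1, 0, 0, 0], [0, 0, 1, 2, 2, 2, 4], 1, false),
    ([1, 2, 2, 0, 0, 0, 0, 0, 0, 0, 1, 0, 0, 0, 1, 0, 0, 0, 0], [0, 1, 2, 2, 2, 4], 1, false),
    ([1, 2, 2, 0, 0, 0, 0, 0, 0, 0, 1, 0, 0, 0, 1, 0, 0, 0, 0, 0], [1, 2, 2, 2, 4], 1, false),
    ([1, 2, 2, 0, 0, 0, 0, 0, 0, 0, 1, 0, 0, 0, 1, 0], [1, 1, 2, 2, 2, 4], 0, false),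
    ([1, 2, 2, 0, 0, 0, 0, 0, 0, 0, 1, 0, 0, 0], [1, 1, 2, 2, 2, 4], 1, false),
    ([1, 2, 2, 0, 0, 0, 0, 0, 0, 0], [0, 0, 0, 1, 1, 1, 2, 2, 2, 4], 1, false),
    ([1, 2, 2, 0, 0, 0, 0, 0, 0, 0, 0], [0, 0, 1, 1, 1, 2, 2, 2, 4], 1, false),
    ([1, 2, 2, 0, 0, 0, 0, 0, 0, 0, 0, 0], [0, 1, 1, 1, 2, 2, 2, 4], 1, false),
    ([1, 2, 2, 0, 0, 0, 0, 0, 0, 0, 0, 0, 0], [1, 1, 1, 2, 2, 2, 4], 1, false),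
    ([1, 2, 2, 0, 0, 0, 0, 0, 0], [1, 1, 1, 1, 2, 2, 2, 4], 0, false),
    ([1, 2, 2, 0], [1, 1, 1, 1, 2, 2, 2, 4], 0, false),
    ([1, 2], [1, 1, 1, 1, 2, 2, 2, 4], 3, false),
    ([1, 2, 0], [1, 1, 1, 2, 2, 2, 4], 4, false),
    ([1, 2, 0, 0, 0, 0, 1], [1, 1, 2, 2, 2, 4], 4, false),
    ([1, 2, 0, 0, 0, 0, 1, 0, 0, 0, 1], [1, 2, 2, 2, 4], 4, false),
    ([1, 2, 0, 0, 0, 0, 1, 0, 0, 0, 1, 0, 0, 0, 1], [2, 2, 2, 4], 4, false),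
    ([1, 2, 0, 0, 0, 0, 1, 0, 0, 0, 1, 0, 0, 0], [0, 0, 1, 2, 2, 2, 2, 4], 1, false),
    ([1, 2, 0, 0, 0, 0, 1, 0, 0, 0, 1, 0, 0, 0, 0], [0, 1, 2, 2, 2, 2, 4], 1, false),
    ([1, 2, 0, 0, 0, 0, 1, 0, 0, 0, 1, 0, 0, 0, 0, 0], [1, 2, 2, 2, 2, 4], 1, false),
    ([1, 2, 0, 0, 0, 0, 1, 0, 0, 0, 1, 0], [1, 1, 2, 2, 2, 2, 4], 0, false),
    ([1, 2, 0, 0, 0, 0, 1, 0, 0, 0], [1, 1, 2, 2, 2, 2, 4], 1, false),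
    ([1, 2, 0, 0, 0, 0], [0, 0, 0, 1, 1, 1, 2, 2, 2, 2, 4], 1, false),
    ([1, 2, 0, 0, 0, 0, 0], [0, 0, 1, 1, 1, 2, 2, 2, 2, 4], 1, false),
    ([1, 2, 0, 0, 0, 0, 0, 0], [0, 1, 1, 1, 2, 2, 2, 2, 4], 1, false),
    ([1, 2, 0, 0, 0, 0, 0, 0, 0], [1, 1, 1, 2, 2, 2, 2, 4], 1, false),
    ([1, 2, 0, 0, 0], [1, 1, 1, 1, 2, 2, 2, 2, 4], 0, false),
    ([1], [0, 0, 1, 1, 1, 1, 2, 2, 2, 2, 4], 3, false),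
    ([1, 0], [0, 1, 1, 1, 1, 2, 2, 2, 2, 4], 3, false),
    ([1, 0, 0], [1, 1, 1, 1, 2, 2, 2, 2, 4], 3, false),
    ([1, 0, 0, 0], [1, 1, 1, 2, 2, 2, 2, 4], 4, false),
    ([1, 0, 0, 0, 0, 0, 0, 1], [1, 1, 2, 2, 2, 2, 4], 4, false),
    ([1, 0, 0, 0, 0, 0, 0, 1, 0, 0, 0, 1], [1, 2, 2, 2, 2, 4], 4, false),
    ([1, 0, 0, 0, 0, 0, 0, 1, 0, 0, 0, 1, 0, 0, 0, 1], [2, 2, 2, 2, 4], 4, false),
    ([1, 0, 0, 0, 0, 0, 0, 1, 0, 0, 0, 1, 0, 0, 0, 1, 0, 0, 0, 1], [4], 5, false),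
    ([1, 0, 0, 0, 0, 0, 0, 1, 0, 0, 0, 1, 0, 0, 0], [0, 0, 1, 4], 1, false),
    ([1, 0, 0, 0, 0, 0, 0, 1, 0, 0, 0, 1, 0, 0, 0, 0], [0, 1, 4], 1, false),
    ([1, 0, 0, 0, 0, 0, 0, 1, 0, 0, 0, 1, 0, 0, 0, 0, 0], [1, 4], 1, false),
    ([1, 0, 0, 0, 0, 0, 0, 1, 0, 0, 0, 1, 0], [1, 1, 4], 0, false),
    ([1, 0, 0, 0, 0, 0, 0, 1, 0, 0, 0], [1, 1, 4], 1, false),
    ([1, 0, 0, 0, 0, 0, 0], [0, 0, 0, 1, 1, 1, 4], 1, false),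
    ([1, 0, 0, 0, 0, 0, 0, 0], [0, 0, 1, 1, 1, 4], 1, false),
    ([1, 0, 0, 0, 0, 0, 0, 0, 0], [0, 1, 1, 1, 4], 1, false),
    ([1, 0, 0, 0, 0, 0, 0, 0, 0, 0], [1, 1, 1, 4], 1, false),
    ([1, 0, 0, 0, 0, 0], [1, 1, 1, 1, 4], 0, false),
    ([1], [1, 1, 1, 1, 4], 0, false),
    ([], [4], 2, false),
    ([4], [], 5, true)]

/-- Words of elements. -/
def elts5_0 : List (List ℕ) :=
  [[1, 1, 2], [0, 2, 2, 2, 2], [0, 0, 1, 1, 1, 2, 2], [0, 0, 0, 1, 2, 2], [0, 1, 1, 1, 1, 2, 2, 2], [0, 0, 1, 1, 2, 2, 2], [1, 2], [0, 0, 1, 1, 1, 1], [0, 0, 1, 1, 1, 2, 2, 2, 2], [0, 1, 2, 2, 2, 2], [0, 0, 0, 0, 1], [0, 0, 0, 0, 1, 1, 1, 1, 2, 2], [0, 0, 0, 1, 1, 1, 1, 2], [1, 1, 1, 2, 2, 2, 2], [0, 1, 1, 1, 2, 2], [0, 1, 1], [0, 0, 0, 0], [0, 1, 1, 1, 1, 2, 2], [0, 0, 1, 1, 1, 2], [0, 0, 0, 0, 2], [0,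 0, 0, 0, 2, 2], [0, 0, 0, 0, 1, 2, 2, 2], [], [0, 1, 1, 2, 2, 2, 2], [0, 0, 0, 0, 1, 1, 1, 1, 2, 2, 2], [0, 0, 0, 1, 1, 2, 2, 2, 2], [0, 0, 0, 1, 1, 2, 2, 2], [0, 0, 0, 1, 2], [0, 0, 0, 0, 1, 1, 1, 2, 2, 2], [0, 0], [0, 0, 0, 0, 1, 1, 1, 1, 2, 2, 2, 2], [0, 0, 0, 0, 1, 1, 2, 2], [0, 0, 0, 1, 1, 1, 1], [0, 0, 1, 1, 1, 1, 2], [0, 0, 1, 1, 1, 1, 2, 2, 2, 2], [1, 2, 2], [0, 0, 1, 1, 2, 2, 2, 2], [0, 0, 0, 0, 1, 1, 1, 2, 2], [1, 1], [1, 1, 1, 1], [0, 1], [1, 1, 1, 2, 2, 2], [0, 1, 1, 1, 1, 2], [0, 0, 1, 2, 2, 2], [0, 0, 0, 2], [0, 0, 1, 1, 1], [0, 0, 0, 1, 1, 2, 2], [0, 0, 1, 2, 2, 2, 2], [0, 0, 1], [0, 0, 0, 0, 2, 2, 2], [0, 0, 0, 1, 1, 1], [0, 1, 1, 1, 2], [0, 0, 0, 0, 2, 2, 2, 2], [0, 0, 1, 1, 1, 1, 2, 2], [0, 0, 0, 1, 1, 1, 2, 2, 2, 2], [0, 0, 0, 0, 1, 1, 1, 2], [0], [0, 1, 1, 1, 1,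 2, 2, 2, 2], [0, 0, 0, 2, 2], [2], [1, 1, 1], [0, 0, 0, 2, 2, 2], [0, 0, 1, 1, 2, 2], [1, 2, 2, 2, 2], [0, 0, 2, 2, 2], [0, 0, 2, 2, 2, 2], [0, 0, 0, 0, 1, 1, 1, 1, 2], [1, 1, 2, 2, 2, 2], [0, 0, 0, 1, 1], [0, 0, 0, 1, 1, 2], [0, 0, 0, 1, 1, 1, 2, 2, 2], [1, 2, 2, 2], [2, 2], [0, 0, 0, 0, 1, 1, 1], [0, 1, 2, 2, 2], [0, 0, 1, 1], [0, 0, 0, 1, 1, 1, 1, 2, 2, 2], [0, 0, 0, 0, 1, 1, 2, 2, 2], [0, 0, 1, 1, 1, 2, 2, 2], [0, 0, 0, 0, 1, 2], [0, 2, 2, 2], [0, 0, 2, 2], [0, 0, 0, 2, 2, 2, 2], [1, 1, 2, 2], [0, 2, 2], [2, 2, 2], [0, 0, 0, 0, 1, 2, 2, 2, 2], [1, 1, 1, 2], [0, 0, 0, 1, 1, 1, 1, 2, 2, 2, 2], [0, 0, 0, 0, 1, 2, 2], [0, 0, 2], [0, 0, 1, 1, 2], [0, 0, 0, 1], [0, 1, 1, 1, 2, 2, 2], [0, 1, 2, 2], [0, 0, 1, 2, 2], [0, 0, 0, 1, 1, 1, 1, 2, 2], [0, 0, 1, 2], [0, 0, 0, 1, 1, 1, 2], [0,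 1, 1, 1, 2, 2, 2, 2], [0, 0, 0, 1, 2, 2, 2], [1, 1, 1, 1, 2, 2, 2, 2], [0, 1, 1, 1, 1], [0, 1, 1, 2, 2, 2], [0, 1, 1, 2, 2], [0, 2], [0, 0, 0, 0, 1, 1, 2], [0, 0, 0, 1, 2, 2, 2, 2], [0, 0, 1, 1, 1, 1, 2, 2, 2], [0, 0, 0, 0, 1, 1, 1, 2, 2, 2, 2], [0, 0, 0, 0, 1, 1, 1, 1], [0, 1, 1, 1], [0, 1, 2], [1, 1, 1, 1, 2, 2], [1, 1, 1, 1, 2, 2, 2], [1, 1, 2, 2, 2], [1], [0, 1, 1, 2], [0, 0, 0, 0, 1, 1], [1, 1, 1, 2, 2], [1, 1, 1, 1, 2], [0, 0, 0, 1, 1, 1, 2, 2], [2, 2, 2, 2], [0, 0, 0, 0, 1, 1, 2, 2, 2, 2], [0, 0, 0]]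

/-- Words of the letters for the prime 5. -/
def letters5 : List (List ℕ) :=
  [[4, 0, 6, 5, 2, 0, 5, 0, 5, 6, 2, 1, 5, 2, 5, 0, 0, 6, 0, 0, 4, 2, 4, 0, 6, 1, 5],
    [0, 6, 3, 0, 2, 6, 5, 2, 0, 0, 2, 0, 4, 4, 2, 4, 0, 4, 6, 3, 6, 0, 6, 1, 1, 4, 1, 3, 3, 4, 1, 5, 0, 5],
    [1, 4, 3, 4, 3, 6, 2, 6, 1, 1, 1, 6, 0, 5, 2, 1, 6, 3, 5, 0, 4, 0, 3, 0, 0, 4, 1, 1, 5, 5, 2, 1, 6],
    [3, 3, 0, 4, 4, 1, 1, 2, 2, 2, 0, 2, 0, 0, 2, 6, 1, 6, 0, 2, 4, 0, 5, 2, 1],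
    [6, 5, 2, 2, 0, 4, 4, 3, 4, 6, 4, 4, 1, 5, 0, 3, 3, 5, 2, 5, 5, 6, 5, 3, 0, 6, 2, 1, 6, 0, 3, 6, 0, 4, 4, 0, 6, 5, 3, 0, 0],
    [3, 3, 3, 5, 3, 1, 4, 2, 5, 1, 3, 6, 3, 0, 3, 3, 3, 0, 4, 2, 5, 1, 4, 2, 2, 5, 2, 5, 6, 3, 3, 3, 3, 0, 6, 3, 4, 2, 4, 1, 3, 5]]

/-- Their columns. -/
def lcols5 : List (List ℕ) :=
  [[726254126659716362978738521350063727, 645857267124035290173564411346202161, 726254121862547595024801127051281903, 812005695989913153478789767647116845, 726416381139527919499595653003593203, 812005695840006208740193990658801073, 726416380984785414732897431928292847, 726254285115890271312250449390192115, 726416539441105872936613306833552879, 726254280164281229758569589857961583, 731446423672988968539632063919801839, 731446418566491176432377351470826995, 726254121707805233072036699841349103,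 811843431766159490859513627492793905, 726254280323859437943201302033450479, 645857267124035290173564402756275761, 645847125919233464338352437720567345, 731608677848004829768319565668271727, 726254121712787182286125975521969647, 731446418566491033609726904021534191, 806813240679889005211587881863790129, 726254126664552209219323009118488047, 726254121707951478858912331682268787, 812005695994904699462869138638683697],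
    [817197990297614427859164819845791279, 726254124263620735381018299128657521, 726254282719950338562612177736877549, 645857269520277454089875964141489711, 645852194120707625784132181851491887, 726249212117544850996591094870230513, 726411312783311253287117687797368305, 726254124258638638746094423185606129, 726254282565056865638192726045935089, 645857264568366033651458443899813427, 726416383540449801175101620279100913, 726254124263625457752145364289893869, 645852193966120958967398881262288431, 726254277768190329139158714154534513, 726416378588694513825256454951060977, 726249053656388841411965810007131761, 645852199077308208426479479711841843, 726416383540303555387944513469597293, 726254124108882805267375242155181681, 806813396580544781825475864042126895, 726416541991943996365608614459127281,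 726254119311865300610620008246461937, 645852193970800971586259302850608687, 897599920595274774105197161397929457],
    [852125449718914800912430404915970574, 686134209522629677592824239614345874, 686134209677372034929407982297436686, 771723524532743944803763426932767312, 686139438586191174743470607344091662, 685972113653890224692018628207854098, 766531222722302562065560453209733712, 766531227519315644115564756898236880, 766536293170112090407128148807862864, 691164247109170847562332745513976338, 771728594980251232476062627645573712, 691326664837489386176077470659920398, 771728590183238454797335540156283344, 685972108706961196036430163253674638, 771723519426246148080319233872316880, 686134367979105674279365925723980306, 685972108861703553373286309942546962, 686134209527465237908875584884720146,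 685971950250787135665894154339631630, 685972108702125349795845675493638670, 766536298276610173055105484374751696, 686134214479230112805338533790761486, 685977020848201229573090598386680338, 852287867456904746083100959821021714],
    [771644850967294152883398623468339794, 686055694418486867734039606420126352, 686055694413655739248111511423896080, 766452553954016824960385214992368206, 686055694573082831853905917485070864, 766452712565084358255613346159542738, 686217953695164965370120230576540176, 771807268545705889869155716343284174, 686050623811103858177151416880675344, 605653769227333915278679128377147986, 686055699365260058439953696558762512, 686050623811250251682090428289075732, 766614966735410762132474687029527122, 686055852869980915494995071884278288, 686050623815939566211265867108796944,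 771645004316965403636927553826472530, 691242920674625357237635133259467280, 766614808433828381481242072036426194, 686050623816085807391240692561295888, 771645004471854306515755864037016014, 771807110089380865947799291792208338, 766609901239512654229324511673074254, 771807105287527510442995805191684686, 852209193891606074357754421599357456],
    [686139359275824068162437643392993872, 766531301873242728366053459535348242, 766531306820167034659803524969808402, 771723598731626440271772203725767182, 766373954742338283668785322862854674, 771723445227061421166413999040381458, 685972029396593942025555408375593552, 766536218971078769901004697876578702, 685972034507932302744521398876060240, 691164326409871274564758297203263952, 685972187857754669076887901368306128, 766536377427252535123917002414506510,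 771728510877853288198012624366486034, 686134288828165803117770899496450640, 605575174812819419578896764648309266, 685972029556323265798023095578479184, 771728669334178321342741085772329486, 771723445072470179696898204643115534, 686134288828165655687937896072301008, 686134288678258854060222942416554576, 686134288678258858667405498659584468, 771728674285787510326254948720329234, 686134288833001363434103445125675472, 852287788306111125324571046046157392],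
    [766614890137946386835322923165235730, 771807186841587741404185245788883346, 771644927564909643768386096340744722, 766447560258565292549444906940713490, 766614889983052913919910670729034254, 771807186996330241842924087526504978, 771644927719652148823033218859481614, 686212806340557177000495412643643984, 771807181889978700129727563153623566, 771644769263176004418428152914201102, 605653687523366878073585253780900370, 686055776122458475264229265780527696, 686050700563461849500596256782172752, 686050700568297409816929077020869072, 686055612709537738501213207940055636, 766614890133110831135461333124205070, 691243002373751968941898544823419472, 766452630706370093912984456387840530, 686055612714368567232053850816397904, 686055771325436252852536439009198544, 686055617661297748212896772796203472,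 686055776117618197193240610846949840, 686050547063883797119352647646200272, 852209275595573111562839500110971472]]

/-- Vectors with a regular orbit. -/
def base5 : List ℕ := [769129988159304149728193634881784338]

/-- Words of the elements of the Sylow 5-subgroup, by increasing keys. -/
def elts5 : List (List ℕ) :=
  elts5_0

/-- The certificate for the prime 5. -/
def cert5 : SchurPath.Cert where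
  m := 3
  rels := [([0, 0, 0, 0, 0], []),
    ([1, 0], [0, 1]),
    ([1, 1, 1, 1, 1], []),
    ([2, 0], [0, 2]),
    ([2, 1], [0, 0, 0, 1, 2]),
    ([2, 2, 2, 2, 2], []),
    ([3, 0], [0, 3]),
    ([3, 1], [0, 0, 0, 0, 1, 3]),
    ([3, 2], [2, 3]),
    ([4, 0], [0, 0, 0, 0, 4]),
    ([4, 1], [0, 0, 0, 1, 4]),
    ([4, 2], [1, 2, 2, 2, 2, 4]),
    ([5, 0], [0, 0, 0, 0, 5]),
    ([5, 1], [0, 0, 2, 2, 2, 2, 5]),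
    ([5, 2], [1, 1, 1, 1, 5])]
  paths := [([4, 0, 0, 0, 0, 0], [([], [0, 0, 0, 0], 9, false),
      ([0, 0, 0, 0], [0, 0, 0], 9, false),
      ([0, 0, 0, 0, 0, 0, 0, 0], [0, 0], 9, false),
      ([0, 0, 0, 0, 0, 0, 0, 0, 0, 0, 0, 0], [0], 9, false),
      ([0, 0, 0, 0, 0, 0, 0, 0, 0, 0, 0, 0, 0, 0, 0, 0], [], 9, false),
      ([], [0, 0, 0, 0, 0, 0, 0, 0, 0, 0, 0, 0, 0, 0, 0, 4], 0, false),
      ([0, 0, 0, 0, 0, 0, 0, 0, 0, 0], [4], 0, false),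
      ([0, 0, 0, 0, 0], [4], 0, false),
      ([], [4], 0, false),
      ([4], [], 0, true)]),
    ([5, 2, 2, 2, 2, 2], [([], [2, 2, 2, 2], 14, false),
      ([1, 1, 1, 1], [2, 2, 2], 14, false),
      ([1, 1, 1, 1, 1, 1, 1, 1], [2, 2], 14, false),
      ([1, 1, 1, 1, 1, 1, 1, 1, 1, 1, 1, 1], [2], 14, false),
      ([1, 1, 1, 1, 1, 1, 1, 1, 1, 1, 1, 1, 1, 1, 1, 1], [], 14, false),
      ([], [1, 1, 1, 1, 1, 1, 1, 1, 1, 1, 1, 1, 1, 1, 1, 5], 2, false),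
      ([1, 1, 1, 1, 1, 1, 1, 1, 1, 1], [5], 2, false),
      ([1, 1, 1, 1, 1], [5], 2, false),
      ([], [5], 2, false),
      ([5], [], 5, true)]),
    ([4, 1, 0], [([], [0], 10, false),
      ([0, 0, 0, 1], [], 9, false),
      ([0, 0, 0], [0, 0, 0, 4], 1, false),
      ([0, 0, 0, 0], [0, 0, 4], 1, false),
      ([0, 0, 0, 0, 0], [0, 4], 1, false),
      ([0, 0, 0, 0, 0, 0], [4], 1, false),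
      ([0, 0], [1, 4], 0, false),
      ([], [0, 0, 1, 4], 0, true),
      ([0, 0, 0, 0], [], 10, true),
      ([], [1], 9, true),
      ([4], [], 1, true)]),
    ([5, 2, 0], [([], [0], 14, false),
      ([1, 1, 1, 1], [], 12, false),
      ([1, 1, 1], [0, 0, 0, 5], 1, false),
      ([1, 1, 1, 0], [0, 0, 5], 1, false),
      ([1, 1, 1, 0, 0], [0, 5], 1, false),
      ([1, 1, 1, 0, 0, 0], [5], 1, false),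
      ([1, 1], [0, 0, 0, 1, 5], 1, false),
      ([1, 1, 0], [0, 0, 1, 5], 1, false),
      ([1, 1, 0, 0], [0, 1, 5], 1, false),
      ([1, 1, 0, 0, 0], [1, 5], 1, false),
      ([1], [0, 0, 0, 1, 1, 5], 1, false),
      ([1, 0], [0, 0, 1, 1, 5], 1, false),
      ([1, 0, 0], [0, 1, 1, 5], 1, false),
      ([1, 0, 0, 0], [1, 1, 5], 1, false),
      ([], [0, 0, 0, 1, 1, 1, 5], 1, false),
      ([0], [0, 0, 1, 1, 1, 5], 1, false),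
      ([0, 0], [0, 1, 1, 1, 5], 1, false),
      ([0, 0, 0], [1, 1, 1, 5], 1, false),
      ([0, 0, 0, 0], [], 14, true),
      ([], [2], 12, true),
      ([5], [], 3, true)]),
    ([4, 2, 2, 2, 2, 2], path5_4_0 ++ path5_4_1 ++ path5_4_2)]
  rows := [[3, 0, 0, 0, 0, 0, 0, 0, 0, 0, 0, 0, 0, 0, 0],
    [0, 0, 4, 0, 0, 4, 0, 0, 0, 0, 0, 0, 0, 0, 0],
    [0, 3, 0, 0, 0, 0, 0, 0, 0, 0, 0, 0, 0, 0, 0],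
    [0, 1, 0, 4, 0, 0, 0, 0, 0, 0, 0, 0, 0, 0, 0],
    [4, 0, 1, 0, 0, 3, 0, 0, 0, 0, 0, 0, 0, 0, 0]]
  mu := [[0, 0, 0, 0, 2, 0, 0, 0, 0, 0, 0, 0, 0, 0, 0],
    [0, 0, 0, 0, 0, 0, 0, 0, 0, 0, 0, 0, 0, 0, 0],
    [0, 0, 0, 0, 0, 0, 0, 0, 0, 0, 0, 0, 0, 0, 0]]
  comb := [[2, 0, 0, 0, 0],
    [0, 0, 2, 0, 0],
    [4, 1, 0, 0, 2],
    [0, 0, 2, 4, 0],
    [0, 0, 0, 0, 0],
    [1, 3, 0, 0, 3]]

/-- Part of a closed path for the prime 3. -/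
def path3_24_0 : List SchurPath.Step :=
  [([], [3], 47, false),
    ([0, 1, 1, 6], [], 44, false),
    ([0, 1, 1], [2, 2, 3, 3, 10], 21, false),
    ([0, 1, 1, 0], [2, 3, 3, 10], 23, false),
    ([0, 1, 1, 0, 2], [3, 3, 10], 23, false),
    ([0, 1, 1, 0, 2, 2], [3, 10], 24, false),
    ([0, 1, 1, 0, 2, 2, 1, 2, 3], [10], 24, false),
    ([0, 1, 1, 0, 2, 2, 1, 2], [2, 3, 6, 10], 7, false),
    ([0, 1, 1, 0, 2, 2, 1, 2, 0, 0, 1], [3, 6, 10], 8, false),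
    ([0, 1, 1, 0, 2, 2, 1], [0, 1, 2, 3, 3, 6, 10], 3, false),
    ([0, 1, 1, 0, 2, 2, 1, 0], [1, 2, 3, 3, 6, 10], 3, false),
    ([0, 1, 1, 0, 2, 2, 1, 0, 0], [2, 3, 3, 6, 10], 4, false),
    ([0, 1, 1, 0, 2, 2], [0, 1, 2, 2, 3, 3, 6, 10], 1, false),
    ([0, 1, 1, 0, 2, 2, 0], [1, 2, 2, 3, 3, 6, 10], 1, false),
    ([0, 1, 1, 0, 2], [0, 1, 1, 2, 2, 3, 3, 6, 10], 3, false),
    ([0, 1, 1, 0, 2, 0], [1, 1, 2, 2, 3, 3, 6, 10], 3, false),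
    ([0, 1, 1, 0, 2, 0, 0], [1, 2, 2, 3, 3, 6, 10], 4, false),
    ([0, 1, 1, 0, 2, 0, 0, 1], [2, 2, 3, 3, 6, 10], 4, false),
    ([0, 1, 1, 0, 2, 0, 0, 1, 1], [3, 3, 6, 10], 5, false),
    ([0, 1, 1, 0], [0, 1, 1, 3, 3, 6, 10], 3, false),
    ([0, 1, 1, 0, 0], [1, 1, 3, 3, 6, 10], 3, false),
    ([0, 1, 1, 0, 0, 0], [1, 3, 3, 6, 10], 4, false),
    ([0, 1, 1, 0, 0, 0, 1], [3, 3, 6, 10], 4, false),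
    ([0, 1, 1], [1, 1, 2, 3, 3, 6, 10], 0, false),
    ([0, 1], [2, 3, 3, 6, 10], 2, false),
    ([0], [1, 2, 3, 3, 6, 10], 0, true),
    ([0, 0, 0], [2, 3, 3, 6, 10], 1, true),
    ([0, 0], [0, 2, 3, 3, 6, 10], 1, true),
    ([0, 0, 1, 0, 0], [2, 3, 3, 6, 10], 2, true),
    ([0, 0, 1, 0], [1, 1, 2, 3, 3, 6, 10], 1, true),
    ([0, 0, 1, 0, 1, 0, 1], [3, 3, 6, 10], 4, true),
    ([0, 0, 1, 0, 1, 0], [1, 3, 3, 6, 10], 4, true),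
    ([0, 0, 1, 0, 1], [1, 1, 3, 3, 6, 10], 3, true),
    ([0, 0, 1, 0, 1, 2, 0, 1, 1], [3, 3, 6, 10], 5, true),
    ([0, 0, 1, 0, 1, 2, 0, 1], [2, 2, 3, 3, 6, 10], 4, true),
    ([0, 0, 1, 0, 1, 2, 0], [1, 2, 2, 3, 3, 6, 10], 4, true),
    ([0, 0, 1, 0, 1, 2], [1, 1, 2, 2, 3, 3, 6, 10], 3, true),
    ([0, 0, 1, 0, 1, 2, 2, 0, 1], [2, 3, 3, 6, 10], 4, true),
    ([0, 0, 1, 0, 1, 2, 2, 0], [1, 2, 3, 3, 6, 10], 4, true),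
    ([0, 0, 1, 0, 1, 2, 2, 0, 2, 1], [3, 3, 6, 10], 4, true),
    ([0, 0, 1, 0, 1, 2, 2, 0, 2], [1, 3, 3, 6, 10], 4, true),
    ([0, 0, 1, 0, 1, 2, 2, 0, 2, 2], [1, 1, 3, 3, 6, 10], 0, true),
    ([0, 0, 1, 0, 1, 2, 2, 0, 2, 2, 0, 0, 0], [1, 1, 3, 3, 6, 10], 0, true),
    ([0, 0, 1, 0, 1, 2, 2, 0, 2, 2, 0, 0, 0, 0, 0], [1, 3, 3, 6, 10], 1, true),
    ([0, 0, 1, 0, 1, 2, 2, 0, 2, 2, 0, 0, 0, 0], [0, 1, 3, 3, 6, 10], 1, true),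
    ([0, 0, 1, 0, 1, 2, 2, 0, 2, 2, 0, 0, 0, 0, 1], [3, 6, 10], 7, true),
    ([0, 0, 1, 0, 1, 2, 2, 0, 2, 2, 0, 0], [1, 3, 6, 10], 7, true),
    ([0, 0, 1, 0, 1, 2, 2, 0, 2, 2, 0], [1, 1, 3, 6, 10], 6, true),
    ([0, 0, 1, 0, 1, 2, 2, 0, 2, 2], [0, 1, 1, 3, 6, 10], 6, true),
    ([0, 0, 1, 0, 1, 2, 2, 0, 2, 2, 3, 0, 0], [1, 1, 3, 6, 10], 0, true),
    ([0, 0, 1, 0, 1, 2, 2, 0, 2, 2, 3, 0, 0, 0, 0], [1, 3, 6, 10], 1, true),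
    ([0, 0, 1, 0, 1, 2, 2, 0, 2, 2, 3, 0, 0, 0], [0, 1, 3, 6, 10], 1, true),
    ([0, 0, 1, 0, 1, 2, 2, 0, 2, 2, 3, 0, 0, 0, 1], [6, 10], 7, true),
    ([0, 0, 1, 0, 1, 2, 2, 0, 2, 2, 3, 0], [1, 6, 10], 7, true),
    ([0, 0, 1, 0, 1, 2, 2, 0, 2, 2, 3], [1, 1, 6, 10], 6, true),
    ([0, 0, 1], [2, 2, 0, 2, 2, 3, 3, 0, 1, 1, 6, 10], 1, true),
    ([0, 0, 1, 1, 0, 2, 2, 0, 2, 2, 3, 3], [], 47, true),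
    ([0, 0, 1, 1, 0, 2, 2], [6], 44, true),
    ([0, 0, 1, 1], [3, 6], 43, true),
    ([], [2, 3, 6], 42, true)]

/-- Part of a closed path for the prime 3. -/
def path3_24_1 : List SchurPath.Step :=
  [([10], [], 24, true)]

/-- Part of a closed path for the prime 3. -/
def path3_25_0 : List SchurPath.Step :=
  [([], [3], 46, false),
    ([0, 0, 1, 1, 2, 5], [], 44, false),
    ([0, 0, 1, 1, 2], [2, 2, 3, 3, 10], 15, false),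
    ([0, 0, 1, 1, 2, 0], [2, 3, 3, 10], 17, false),
    ([0, 0, 1, 1, 2, 0, 2], [3, 3, 10], 17, false),
    ([0, 0, 1, 1, 2, 0, 2, 2], [3, 10], 18, false),
    ([0, 0, 1, 1, 2, 0, 2, 2, 0, 2, 2, 3], [10], 18, false),
    ([0, 0, 1, 1, 2, 0, 2, 2, 0, 2, 2], [2, 2, 3, 5, 10], 6, false),
    ([0, 0, 1, 1, 2, 0, 2, 2, 0, 2, 2, 0], [2, 3, 5, 10], 8, false),
    ([0, 0, 1, 1, 2, 0, 2, 2, 0, 2, 2, 0, 2], [3, 5, 10], 8, false),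
    ([0, 0, 1, 1, 2, 0, 2, 2, 0, 2], [2, 2, 3, 3, 5, 10], 3, false),
    ([0, 0, 1, 1, 2, 0, 2, 2, 0, 2, 0], [3, 3, 5, 10], 5, false),
    ([0, 0, 1, 1, 2, 0, 2, 2, 0], [3, 3, 5, 10], 3, false),
    ([0, 0, 1, 1, 2, 0, 2], [0, 2, 3, 3, 5, 10], 3, false),
    ([0, 0, 1, 1, 2, 0, 2, 0], [2, 3, 3, 5, 10], 3, false),
    ([0, 0, 1, 1, 2, 0], [0, 2, 2, 3, 3, 5, 10], 3, false),
    ([0, 0, 1, 1, 2, 0, 0], [2, 2, 3, 3, 5, 10], 3, false),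
    ([0, 0, 1, 1, 2, 0, 0, 0], [3, 3, 5, 10], 5, false),
    ([0, 0, 1, 1, 2], [3, 3, 5, 10], 0, false),
    ([0, 0, 1], [3, 3, 5, 10], 4, true),
    ([0, 0], [1, 3, 3, 5, 10], 4, true),
    ([0, 0, 2], [1, 1, 3, 3, 5, 10], 0, true),
    ([0, 0, 2, 0, 0, 0, 1, 1], [3, 3, 5, 10], 5, true),
    ([0, 0, 2, 0, 0, 0, 1], [2, 2, 3, 3, 5, 10], 4, true),
    ([0, 0, 2, 0, 0, 0], [1, 2, 2, 3, 3, 5, 10], 4, true),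
    ([0, 0, 2, 0, 0], [1, 1, 2, 2, 3, 3, 5, 10], 3, true),
    ([0, 0, 2, 0], [0, 1, 1, 2, 2, 3, 3, 5, 10], 3, true),
    ([0, 0, 2, 0, 2, 0, 0, 1], [2, 3, 3, 5, 10], 4, true),
    ([0, 0, 2, 0, 2, 0, 0], [1, 2, 3, 3, 5, 10], 4, true),
    ([0, 0, 2, 0, 2, 0], [1, 1, 2, 3, 3, 5, 10], 3, true),
    ([0, 0, 2, 0, 2], [0, 1, 1, 2, 3, 3, 5, 10], 3, true),
    ([0, 0, 2, 0, 2, 2, 0, 0, 1], [3, 3, 5, 10], 4, true),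
    ([0, 0, 2, 0, 2, 2, 0, 0], [1, 3, 3, 5, 10], 4, true),
    ([0, 0, 2, 0, 2, 2, 0], [1, 1, 3, 3, 5, 10], 3, true),
    ([0, 0, 2, 0, 2, 2], [0, 1, 1, 3, 3, 5, 10], 3, true),
    ([0, 0, 2, 0, 2, 2, 2, 0, 0, 1, 1], [3, 3, 5, 10], 5, true),
    ([0, 0, 2, 0, 2, 2, 2, 0, 0, 1], [2, 2, 3, 3, 5, 10], 4, true),
    ([0, 0, 2, 0, 2, 2, 2, 0, 0], [1, 2, 2, 3, 3, 5, 10], 4, true),
    ([0, 0, 2, 0, 2, 2, 2, 0], [1, 1, 2, 2, 3, 3, 5, 10], 3, true),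
    ([0, 0, 2, 0, 2, 2, 2, 0, 2, 0, 1], [2, 3, 3, 5, 10], 4, true),
    ([0, 0, 2, 0, 2, 2, 2, 0, 2, 0], [1, 2, 3, 3, 5, 10], 4, true),
    ([0, 0, 2, 0, 2, 2, 2, 0, 2], [1, 1, 2, 3, 3, 5, 10], 3, true),
    ([0, 0, 2, 0, 2, 2, 2, 0, 2, 2, 0], [1, 1, 2, 3, 3, 5, 10], 0, true),
    ([0, 0, 2, 0, 2, 2, 2, 0, 2, 2, 0, 0, 0], [1, 2, 3, 3, 5, 10], 1, true),
    ([0, 0, 2, 0, 2, 2, 2, 0, 2, 2, 0, 0], [0, 1, 2, 3, 3, 5, 10], 1, true),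
    ([0, 0, 2, 0, 2, 2, 2, 0, 2, 2, 0, 0, 1, 0, 0, 1], [3, 5, 10], 8, true),
    ([0, 0, 2, 0, 2, 2, 2, 0, 2, 2, 0, 0, 1], [2, 3, 5, 10], 7, true),
    ([0, 0, 2, 0, 2, 2, 2, 0, 2, 2], [1, 2, 3, 5, 10], 7, true),
    ([0, 0, 2, 0, 2, 2, 2, 0, 2, 2, 3], [1, 1, 2, 3, 5, 10], 0, true),
    ([0, 0, 2, 0, 2, 2, 2, 0, 2, 2, 3, 0, 0, 0], [1, 1, 2, 3, 5, 10], 0, true),
    ([0, 0, 2, 0, 2, 2, 2, 0, 2, 2, 3, 0, 0, 0, 0, 0], [1, 2, 3, 5, 10], 1, true),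
    ([0, 0, 2, 0, 2, 2, 2, 0, 2, 2, 3, 0, 0, 0, 0], [0, 1, 2, 3, 5, 10], 1, true),
    ([0, 0, 2, 0, 2, 2, 2, 0, 2, 2, 3, 0, 0, 0, 0, 1, 0, 0, 1], [5, 10], 8, true),
    ([0, 0, 2, 0, 2, 2, 2, 0, 2, 2, 3, 0, 0, 0, 0, 1], [2, 5, 10], 7, true),
    ([0, 0, 2, 0, 2, 2, 2, 0, 2, 2, 3, 0, 0], [1, 2, 5, 10], 7, true),
    ([0, 0, 2, 0, 2, 2, 2, 0, 2, 2, 3, 0], [1, 1, 2, 5, 10], 6, true),
    ([0, 0, 2, 0, 2, 2, 2, 0, 2, 2, 3], [0, 1, 1, 2, 5, 10], 6, true),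
    ([0, 0, 2], [2, 2, 0, 2, 2, 3, 3, 0, 0, 1, 1, 2, 5, 10], 3, true),
    ([0, 0, 2, 2, 0, 2, 2, 0, 2, 2, 3, 3], [], 46, true),
    ([0, 0, 2, 2, 0, 2, 2], [5], 44, true)]

/-- Part of a closed path for the prime 3. -/
def path3_25_1 : List SchurPath.Step :=
  [([0, 0, 2, 2], [3, 5], 43, true),
    ([0], [2, 3, 5], 43, true),
    ([], [2, 2, 3, 5], 41, true),
    ([10], [], 18, true)]

/-- Part of a closed path for the prime 3. -/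
def path3_26_0 : List SchurPath.Step :=
  [([], [4], 47, false),
    ([0, 1, 1, 6], [], 45, false),
    ([0, 1, 1], [1, 2, 2, 4, 4, 10], 22, false),
    ([0, 1, 1, 1], [2, 2, 4, 4, 10], 22, false),
    ([0, 1, 1, 1, 1], [2, 4, 4, 10], 23, false),
    ([0, 1, 1, 1, 1, 2], [4, 4, 10], 23, false),
    ([0, 1, 1, 1, 1, 2, 2], [4, 10], 25, false),
    ([0, 1, 1, 1, 1, 2, 2, 0, 0, 2, 2, 4], [10], 25, false),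
    ([0, 1, 1, 1, 1, 2, 2, 0, 0, 2, 2], [0, 2, 2, 4, 6, 10], 10, false),
    ([0, 1, 1, 1, 1, 2, 2, 0, 0, 2, 2, 0], [2, 2, 4, 6, 10], 10, false),
    ([0, 1, 1, 1, 1, 2, 2, 0, 0, 2, 2, 0, 0], [2, 4, 6, 10], 12, false),
    ([0, 1, 1, 1, 1, 2, 2, 0, 0, 2, 2, 0, 0, 0, 0, 2], [4, 6, 10], 12, false),
    ([0, 1, 1, 1, 1, 2, 2, 0, 0, 2, 2, 0, 0, 0, 0], [0, 2, 4, 4, 6, 10], 3, false),
    ([0, 1, 1, 1, 1, 2, 2, 0, 0, 2, 2, 0, 0, 0, 0, 0], [2, 4, 4, 6, 10], 3, false),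
    ([0, 1, 1, 1, 1, 2, 2, 0, 0, 2, 2, 0, 0, 0], [2, 2, 4, 4, 6, 10], 0, false),
    ([0, 1, 1, 1, 1, 2, 2, 0, 0, 2, 2], [2, 2, 4, 4, 6, 10], 0, false),
    ([0, 1, 1, 1, 1, 2, 2, 0, 0, 2], [4, 4, 6, 10], 5, false),
    ([0, 1, 1, 1, 1, 2], [0, 2, 4, 4, 6, 10], 3, false),
    ([0, 1, 1, 1, 1, 2, 0], [2, 4, 4, 6, 10], 3, false),
    ([0, 1, 1, 1, 1], [0, 2, 2, 4, 4, 6, 10], 3, false),
    ([0, 1, 1, 1, 1, 0], [2, 2, 4, 4, 6, 10], 3, false),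
    ([0, 1, 1, 1, 1, 0, 0], [4, 4, 6, 10], 5, false),
    ([0, 1, 1, 1], [0, 4, 4, 6, 10], 1, false),
    ([0, 1, 1, 1, 0], [4, 4, 6, 10], 1, false),
    ([0, 1, 1], [0, 1, 4, 4, 6, 10], 1, false),
    ([0, 1, 1, 0], [1, 4, 4, 6, 10], 1, false),
    ([0, 1], [0, 1, 1, 4, 4, 6, 10], 1, false),
    ([0, 1, 0], [1, 1, 4, 4, 6, 10], 1, false),
    ([0, 1, 0, 0], [4, 4, 6, 10], 2, false),
    ([0], [0, 4, 4, 6, 10], 1, false),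
    ([0, 0], [4, 4, 6, 10], 1, false),
    ([], [1, 4, 4, 6, 10], 0, false),
    ([1], [4, 4, 6, 10], 5, true),
    ([], [2, 2, 4, 4, 6, 10], 4, true),
    ([2], [2, 4, 4, 6, 10], 4, true),
    ([2, 2], [1, 2, 4, 4, 6, 10], 0, true),
    ([2, 2, 0, 0, 0], [4, 4, 6, 10], 4, true),
    ([2, 2, 0, 0], [1, 4, 4, 6, 10], 3, true),
    ([2, 2, 0], [0, 1, 4, 4, 6, 10], 3, true),
    ([2, 2, 0, 2, 0, 0, 1], [4, 4, 6, 10], 5, true),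
    ([2, 2, 0, 2, 0, 0], [2, 2, 4, 4, 6, 10], 4, true),
    ([2, 2, 0, 2, 0], [1, 2, 2, 4, 4, 6, 10], 3, true),
    ([2, 2, 0, 2], [0, 1, 2, 2, 4, 4, 6, 10], 3, true),
    ([2, 2, 0, 2, 2, 0], [2, 2, 4, 4, 6, 10], 1, true),
    ([2, 2, 0, 2, 2], [0, 2, 2, 4, 4, 6, 10], 1, true),
    ([2, 2, 0, 2, 2, 1, 0, 0], [2, 2, 4, 4, 6, 10], 2, true),
    ([2, 2, 0, 2, 2, 1, 0], [1, 1, 2, 2, 4, 4, 6, 10], 1, true),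
    ([2, 2, 0, 2, 2, 1], [0, 1, 1, 2, 2, 4, 4, 6, 10], 1, true),
    ([2, 2, 0, 2, 2, 1, 1, 0, 0, 1], [2, 4, 4, 6, 10], 4, true),
    ([2, 2, 0, 2, 2, 1, 1, 0, 0], [1, 2, 4, 4, 6, 10], 4, true),
    ([2, 2, 0, 2, 2, 1, 1, 0], [1, 1, 2, 4, 4, 6, 10], 3, true),
    ([2, 2, 0, 2, 2, 1, 1], [0, 1, 1, 2, 4, 4, 6, 10], 3, true),
    ([2, 2, 0, 2, 2, 1, 1, 2, 0, 0, 1], [4, 4, 6, 10], 4, true),
    ([2, 2, 0, 2, 2, 1, 1, 2, 0, 0], [1, 4, 4, 6, 10], 4, true),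
    ([2, 2, 0, 2, 2, 1, 1, 2, 0], [1, 1, 4, 4, 6, 10], 3, true),
    ([2, 2, 0, 2, 2, 1, 1, 2], [0, 1, 1, 4, 4, 6, 10], 3, true),
    ([2, 2, 0, 2, 2, 1, 1, 2, 2, 0], [1, 4, 4, 6, 10], 1, true),
    ([2, 2, 0, 2, 2, 1, 1, 2, 2, 0, 1], [4, 6, 10], 11, true),
    ([2, 2, 0, 2, 2, 1, 1, 2, 2], [1, 4, 6, 10], 11, true),
    ([2, 2, 0, 2, 2, 1, 1, 2, 2, 4], [1, 1, 4, 6, 10], 0, true)]

/-- Part of a closed path for the prime 3. -/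
def path3_26_1 : List SchurPath.Step :=
  [([2, 2, 0, 2, 2, 1, 1, 2, 2, 4, 0, 0], [1, 4, 6, 10], 1, true),
    ([2, 2, 0, 2, 2, 1, 1, 2, 2, 4, 0, 0, 1], [6, 10], 11, true),
    ([2, 2, 0, 2, 2, 1, 1, 2, 2, 4, 0], [1, 6, 10], 11, true),
    ([2, 2, 0, 2, 2, 1, 1, 2, 2, 4], [1, 1, 6, 10], 10, true),
    ([], [2, 2, 0, 2, 2, 1, 1, 2, 2, 4, 4, 0, 1, 1, 6, 10], 0, true),
    ([0, 0, 0, 2, 2, 0, 2, 2, 1, 1, 2, 2, 4, 4], [], 47, true),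
    ([0, 0, 0, 2, 2, 0, 2, 2], [6], 45, true),
    ([0, 0, 0, 2, 2], [4, 6], 43, true),
    ([0, 0], [2, 4, 6], 43, true),
    ([0], [2, 2, 4, 6], 41, true),
    ([], [0, 2, 2, 4, 6], 41, true),
    ([10], [], 25, true)]

/-- Part of a closed path for the prime 3. -/
def path3_27_0 : List SchurPath.Step :=
  [([], [4], 46, false),
    ([0, 0, 1, 1, 2, 5], [], 45, false),
    ([0, 0, 1, 1, 2], [1, 2, 2, 4, 4, 10], 16, false),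
    ([0, 0, 1, 1, 2, 1], [2, 2, 4, 4, 10], 16, false),
    ([0, 0, 1, 1, 2, 1, 1], [2, 4, 4, 10], 17, false),
    ([0, 0, 1, 1, 2, 1, 1, 2], [4, 4, 10], 17, false),
    ([0, 0, 1, 1, 2, 1, 1, 2, 2], [4, 10], 19, false),
    ([0, 0, 1, 1, 2, 1, 1, 2, 2, 0, 0, 1, 1, 2, 2, 4], [10], 19, false),
    ([0, 0, 1, 1, 2, 1, 1, 2, 2, 0, 0, 1, 1, 2, 2], [0, 1, 1, 2, 2, 4, 5, 10], 10, false),
    ([0, 0, 1, 1, 2, 1, 1, 2, 2, 0, 0, 1, 1, 2, 2, 0], [1, 1, 2, 2, 4, 5, 10], 10, false),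
    ([0, 0, 1, 1, 2, 1, 1, 2, 2, 0, 0, 1, 1, 2, 2, 0, 0], [1, 2, 2, 4, 5, 10], 11, false),
    ([0, 0, 1, 1, 2, 1, 1, 2, 2, 0, 0, 1, 1, 2, 2, 0, 0, 0, 1], [2, 2, 4, 5, 10], 11, false),
    ([0, 0, 1, 1, 2, 1, 1, 2, 2, 0, 0, 1, 1, 2, 2, 0, 0, 0, 1, 0, 1], [2, 4, 5, 10], 12, false),
    ([0, 0, 1, 1, 2, 1, 1, 2, 2, 0, 0, 1, 1, 2, 2, 0, 0, 0, 1, 0, 1, 0, 0, 2], [4, 5, 10], 12, false),
    ([0, 0, 1, 1, 2, 1, 1, 2, 2, 0, 0, 1, 1, 2, 2, 0, 0, 0, 1, 0, 1, 0, 0], [0, 2, 4, 4, 5, 10], 3, false),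
    ([0, 0, 1, 1, 2, 1, 1, 2, 2, 0, 0, 1, 1, 2, 2, 0, 0, 0, 1, 0, 1, 0, 0, 0], [2, 4, 4, 5, 10], 3, false),
    ([0, 0, 1, 1, 2, 1, 1, 2, 2, 0, 0, 1, 1, 2, 2, 0, 0, 0, 1, 0, 1, 0], [2, 2, 4, 4, 5, 10], 0, false),
    ([0, 0, 1, 1, 2, 1, 1, 2, 2, 0, 0, 1, 1, 2, 2, 0, 0, 0, 1, 0], [2, 2, 4, 4, 5, 10], 1, false),
    ([0, 0, 1, 1, 2, 1, 1, 2, 2, 0, 0, 1, 1, 2, 2, 0, 0, 0], [0, 1, 2, 2, 4, 4, 5, 10], 1, false),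
    ([0, 0, 1, 1, 2, 1, 1, 2, 2, 0, 0, 1, 1, 2, 2, 0, 0, 0, 0], [1, 2, 2, 4, 4, 5, 10], 1, false),
    ([0, 0, 1, 1, 2, 1, 1, 2, 2, 0, 0, 1, 1, 2, 2, 0, 0], [1, 1, 2, 2, 4, 4, 5, 10], 0, false),
    ([0, 0, 1, 1, 2, 1, 1, 2, 2, 0, 0, 1, 1, 2], [0, 1, 1, 2, 2, 4, 4, 5, 10], 3, false),
    ([0, 0, 1, 1, 2, 1, 1, 2, 2, 0, 0, 1, 1, 2, 0], [1, 1, 2, 2, 4, 4, 5, 10], 3, false),
    ([0, 0, 1, 1, 2, 1, 1, 2, 2, 0, 0, 1, 1, 2, 0, 0], [1, 2, 2, 4, 4, 5, 10], 4, false),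
    ([0, 0, 1, 1, 2, 1, 1, 2, 2, 0, 0, 1, 1, 2, 0, 0, 1], [2, 2, 4, 4, 5, 10], 4, false),
    ([0, 0, 1, 1, 2, 1, 1, 2, 2, 0, 0, 1, 1, 2, 0, 0, 1, 1], [4, 4, 5, 10], 5, false),
    ([0, 0, 1, 1, 2, 1, 1, 2, 2, 0, 0, 1, 1], [0, 1, 1, 4, 4, 5, 10], 3, false),
    ([0, 0, 1, 1, 2, 1, 1, 2, 2, 0, 0, 1, 1, 0], [1, 1, 4, 4, 5, 10], 3, false),
    ([0, 0, 1, 1, 2, 1, 1, 2, 2, 0, 0, 1, 1, 0, 0], [1, 4, 4, 5, 10], 4, false),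
    ([0, 0, 1, 1, 2, 1, 1, 2, 2, 0, 0, 1, 1, 0, 0, 1], [4, 4, 5, 10], 4, false),
    ([0, 0, 1, 1, 2, 1, 1, 2, 2, 0, 0, 1], [0, 1, 1, 2, 4, 4, 5, 10], 1, false),
    ([0, 0, 1, 1, 2, 1, 1, 2, 2, 0, 0, 1, 0], [1, 1, 2, 4, 4, 5, 10], 1, false),
    ([0, 0, 1, 1, 2, 1, 1, 2, 2, 0, 0, 1, 0, 0], [2, 4, 4, 5, 10], 2, false),
    ([0, 0, 1, 1, 2, 1, 1, 2, 2, 0, 0], [0, 2, 4, 4, 5, 10], 1, false),
    ([0, 0, 1, 1, 2, 1, 1, 2, 2, 0, 0, 0], [2, 4, 4, 5, 10], 1, false),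
    ([0, 0, 1, 1, 2, 1, 1, 2, 2, 0], [1, 2, 4, 4, 5, 10], 0, false),
    ([0, 0, 1, 1, 2, 1, 1, 2], [1, 2, 4, 4, 5, 10], 3, false),
    ([0, 0, 1, 1, 2, 1, 1, 2, 0], [2, 4, 4, 5, 10], 4, false),
    ([0, 0, 1, 1, 2, 1, 1], [1, 2, 2, 4, 4, 5, 10], 3, false),
    ([0, 0, 1, 1, 2, 1, 1, 0], [2, 2, 4, 4, 5, 10], 4, false),
    ([0, 0, 1, 1, 2, 1, 1, 0, 1], [4, 4, 5, 10], 5, false),
    ([0, 0, 1, 1, 2, 1], [1, 4, 4, 5, 10], 1, false),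
    ([0, 0, 1, 1, 2], [1, 1, 4, 4, 5, 10], 1, false),
    ([0, 0, 1, 1, 2, 0], [4, 4, 5, 10], 2, false),
    ([0, 0, 1, 1], [4, 4, 5, 10], 3, false),
    ([0, 0, 1], [2, 4, 4, 5, 10], 1, false),
    ([0, 0], [1, 2, 4, 4, 5, 10], 1, false),
    ([], [1, 1, 2, 4, 4, 5, 10], 0, false),
    ([], [1, 1, 2, 4, 4, 5, 10], 0, true),
    ([0, 0], [1, 2, 4, 4, 5, 10], 1, true),
    ([0], [0, 1, 2, 4, 4, 5, 10], 1, true),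
    ([0, 1, 0], [2, 4, 4, 5, 10], 1, true),
    ([0, 1], [0, 2, 4, 4, 5, 10], 1, true),
    ([0, 1, 1, 0, 0], [2, 4, 4, 5, 10], 2, true),
    ([0, 1, 1, 0, 0, 1, 1], [1, 2, 4, 4, 5, 10], 0, true),
    ([0, 1, 1, 0, 0, 1, 1, 0, 0, 0], [4, 4, 5, 10], 4, true),
    ([0, 1, 1, 0, 0, 1, 1, 0, 0], [1, 4, 4, 5, 10], 3, true),
    ([0, 1, 1, 0, 0, 1, 1, 0], [0, 1, 4, 4, 5, 10], 3, true),
    ([0, 1, 1, 0, 0, 1, 1, 0, 2, 0, 0, 1], [4, 4, 5, 10], 5, true),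
    ([0, 1, 1, 0, 0, 1, 1, 0, 2, 0, 0], [2, 2, 4, 4, 5, 10], 4, true)]

/-- Part of a closed path for the prime 3. -/
def path3_27_1 : List SchurPath.Step :=
  [([0, 1, 1, 0, 0, 1, 1, 0, 2, 0], [1, 2, 2, 4, 4, 5, 10], 3, true),
    ([0, 1, 1, 0, 0, 1, 1, 0, 2], [0, 1, 2, 2, 4, 4, 5, 10], 3, true),
    ([0, 1, 1, 0, 0, 1, 1, 0, 2, 2, 0, 0], [2, 4, 4, 5, 10], 4, true),
    ([0, 1, 1, 0, 0, 1, 1, 0, 2, 2, 0], [1, 2, 4, 4, 5, 10], 3, true),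
    ([0, 1, 1, 0, 0, 1, 1, 0, 2, 2, 0, 2, 0], [4, 4, 5, 10], 4, true),
    ([0, 1, 1, 0, 0, 1, 1, 0, 2, 2, 0, 2], [1, 4, 4, 5, 10], 3, true),
    ([0, 1, 1, 0, 0, 1, 1, 0, 2, 2, 0, 2, 2], [4, 4, 5, 10], 1, true),
    ([0, 1, 1, 0, 0, 1, 1, 0, 2, 2, 0, 2, 2, 1, 0], [4, 4, 5, 10], 2, true),
    ([0, 1, 1, 0, 0, 1, 1, 0, 2, 2, 0, 2, 2, 1], [1, 1, 4, 4, 5, 10], 1, true),
    ([0, 1, 1, 0, 0, 1, 1, 0, 2, 2, 0, 2, 2, 1, 1, 0, 1, 1], [4, 4, 5, 10], 5, true),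
    ([0, 1, 1, 0, 0, 1, 1, 0, 2, 2, 0, 2, 2, 1, 1, 0, 1], [2, 2, 4, 4, 5, 10], 4, true),
    ([0, 1, 1, 0, 0, 1, 1, 0, 2, 2, 0, 2, 2, 1, 1, 0], [1, 2, 2, 4, 4, 5, 10], 4, true),
    ([0, 1, 1, 0, 0, 1, 1, 0, 2, 2, 0, 2, 2, 1, 1], [1, 1, 2, 2, 4, 4, 5, 10], 3, true),
    ([0, 1, 1, 0, 0, 1, 1, 0, 2, 2, 0, 2, 2, 1, 1, 2, 0, 1], [2, 4, 4, 5, 10], 4, true),
    ([0, 1, 1, 0, 0, 1, 1, 0, 2, 2, 0, 2, 2, 1, 1, 2, 0], [1, 2, 4, 4, 5, 10], 4, true),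
    ([0, 1, 1, 0, 0, 1, 1, 0, 2, 2, 0, 2, 2, 1, 1, 2], [1, 1, 2, 4, 4, 5, 10], 3, true),
    ([0, 1, 1, 0, 0, 1, 1, 0, 2, 2, 0, 2, 2, 1, 1, 2, 2, 0, 1], [1, 2, 4, 4, 5, 10], 0, true),
    ([0, 1, 1, 0, 0, 1, 1, 0, 2, 2, 0, 2, 2, 1, 1, 2, 2, 0, 1, 0, 0], [2, 4, 4, 5, 10], 1, true),
    ([0, 1, 1, 0, 0, 1, 1, 0, 2, 2, 0, 2, 2, 1, 1, 2, 2, 0, 1, 0], [0, 2, 4, 4, 5, 10], 1, true),
    ([0, 1, 1, 0, 0, 1, 1, 0, 2, 2, 0, 2, 2, 1, 1, 2, 2, 0, 1, 0, 1], [4, 5, 10], 12, true),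
    ([0, 1, 1, 0, 0, 1, 1, 0, 2, 2, 0, 2, 2, 1, 1, 2, 2, 0, 1], [2, 4, 5, 10], 11, true),
    ([0, 1, 1, 0, 0, 1, 1, 0, 2, 2, 0, 2, 2, 1, 1, 2, 2], [1, 2, 4, 5, 10], 11, true),
    ([0, 1, 1, 0, 0, 1, 1, 0, 2, 2, 0, 2, 2, 1, 1, 2, 2, 4], [1, 1, 2, 4, 5, 10], 0, true),
    ([0, 1, 1, 0, 0, 1, 1, 0, 2, 2, 0, 2, 2, 1, 1, 2, 2, 4, 0, 0, 0, 1], [1, 2, 4, 5, 10], 0, true),
    ([0, 1, 1, 0, 0, 1, 1, 0, 2, 2, 0, 2, 2, 1, 1, 2, 2, 4, 0, 0, 0, 1, 0, 0], [2, 4, 5, 10], 1, true),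
    ([0, 1, 1, 0, 0, 1, 1, 0, 2, 2, 0, 2, 2, 1, 1, 2, 2, 4, 0, 0, 0, 1, 0], [0, 2, 4, 5, 10], 1, true),
    ([0, 1, 1, 0, 0, 1, 1, 0, 2, 2, 0, 2, 2, 1, 1, 2, 2, 4, 0, 0, 0, 1, 0, 1], [5, 10], 12, true),
    ([0, 1, 1, 0, 0, 1, 1, 0, 2, 2, 0, 2, 2, 1, 1, 2, 2, 4, 0, 0, 0, 1], [2, 5, 10], 11, true),
    ([0, 1, 1, 0, 0, 1, 1, 0, 2, 2, 0, 2, 2, 1, 1, 2, 2, 4, 0, 0], [1, 2, 5, 10], 11, true),
    ([0, 1, 1, 0, 0, 1, 1, 0, 2, 2, 0, 2, 2, 1, 1, 2, 2, 4, 0], [1, 1, 2, 5, 10], 10, true),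
    ([0, 1, 1, 0, 0, 1, 1, 0, 2, 2, 0, 2, 2, 1, 1, 2, 2, 4], [0, 1, 1, 2, 5, 10], 10, true),
    ([], [0, 1, 1, 0, 0, 1, 1, 0, 2, 2, 0, 2, 2, 1, 1, 2, 2, 4, 4, 0, 0, 1, 1, 2, 5, 10], 0, true),
    ([0, 0, 0, 0, 1, 1, 0, 0, 1, 1, 0, 2, 2, 0, 2, 2, 1, 1, 2, 2, 4, 4], [], 46, true),
    ([0, 0, 0, 0, 1, 1, 0, 0, 1, 1, 0, 2, 2, 0, 2, 2], [5], 45, true),
    ([0, 0, 0, 0, 1, 1, 0, 0, 1, 1, 0, 2, 2], [4, 5], 43, true),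
    ([0, 0, 0, 0, 1, 1, 0, 0, 1, 1], [2, 4, 5], 43, true),
    ([0, 0, 0, 0, 1, 1], [2, 2, 4, 5], 42, true),
    ([0, 0], [1, 2, 2, 4, 5], 42, true),
    ([0], [1, 1, 2, 2, 4, 5], 41, true),
    ([], [0, 1, 1, 2, 2, 4, 5], 41, true),
    ([10], [], 19, true)]

/-- Words of elements. -/
def elts3_0 : List (List ℕ) :=
  [[0, 0, 3, 5, 5], [0, 0, 3, 4, 4, 5, 5], [0, 0, 3, 4, 5, 5], [0, 0, 3, 3, 4, 4, 5, 5], [0, 0, 3, 3, 5, 5], [0, 0, 4, 4, 5, 5], [0, 0, 3, 3, 4, 5, 5], [0, 0, 5, 5], [0, 0, 4, 5, 5], [0, 0, 1, 2, 3, 5, 5, 6], [0, 1, 2, 2, 3, 4, 4, 5, 5, 6], [0, 1, 1, 2, 2, 3, 3, 5, 5, 6], [1, 1, 3, 3, 4, 4, 5, 5, 6], [0, 1, 3, 4, 5, 5, 6], [0, 2, 4, 4, 5, 5, 6], [1, 1, 2, 3, 3, 4, 5, 5, 6], [0, 2, 2, 4, 5, 5, 6], [0, 0, 5, 5, 6], [0, 0, 1, 1, 2, 2, 3, 5, 5, 6, 6], [0, 1, 3, 3, 4, 4, 5,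 5, 6, 6], [1, 1, 3, 4, 5, 5, 6, 6], [1, 1, 2, 3, 4, 4, 5, 5, 6, 6], [0, 1, 2, 2, 3, 3, 4, 5, 5, 6, 6], [1, 2, 3, 3, 5, 5, 6, 6], [2, 2, 4, 4, 5, 5, 6, 6], [0, 0, 5, 5, 6, 6], [2, 4, 5, 5, 6, 6], [2, 2, 3], [0, 0], [1, 2, 2, 3, 3, 4, 4], [1, 3, 4, 4], [1, 2, 4, 4], [0, 1, 1, 2, 2, 4], [0, 2, 3, 3], [1, 1, 2, 3, 4], [0, 0, 1, 1, 3, 3, 4], [1, 2, 3, 5, 5], [1, 2, 3, 4, 5, 5], [1, 2, 5, 5], [1, 2, 4, 5, 5], [1, 2, 3, 4, 4, 5, 5], [1, 2, 3, 3, 4, 5, 5], [1, 2, 4, 4, 5, 5], [1, 2, 3, 3, 4, 4, 5, 5], [1, 2, 3, 3, 5, 5], [1, 2, 2, 3, 5, 6, 6], [1, 2, 3, 3, 4, 5, 6, 6], [0, 0, 1, 1, 3, 3, 4, 4, 5, 6, 6], [0, 1, 1, 2, 2, 5, 6, 6], [0, 1, 4, 4, 5, 6, 6], [2, 4, 5, 6, 6], [0, 1, 1, 2, 3, 4, 5, 6, 6], [0, 3, 4, 4, 5, 6, 6], [2, 2, 3, 3, 5, 6, 6], [0, 1, 1, 3, 4, 4, 5], [0, 1, 2, 2, 3, 4, 5], [0,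 2, 3, 5], [0, 1, 1, 2, 3, 3, 4, 4, 5], [1, 2, 4, 5], [0, 0, 5], [0, 0, 1, 3, 3, 4, 5], [2, 2, 3, 3, 5], [0, 1, 1, 2, 2, 4, 4, 5], [0, 2, 2, 3, 5, 6, 6], [0, 0, 4, 4, 5, 6, 6], [0, 2, 3, 3, 4, 5, 6, 6], [0, 1, 1, 2, 2, 3, 3, 5, 6, 6], [0, 0, 1, 2, 2, 5, 6, 6], [0, 1, 1, 2, 4, 5, 6, 6], [0, 0, 1, 2, 3, 4, 5, 6, 6], [0, 0, 1, 1, 3, 4, 4, 5, 6, 6], [1, 3, 3, 4, 4, 5, 6, 6], [0, 1, 1, 2, 2, 4, 4, 5, 6, 6], [1, 2, 3, 3, 5, 6, 6], [1, 1, 2, 3, 5, 6, 6], [1, 4, 5, 6, 6], [0, 0, 2, 2, 3, 3, 4, 4, 5, 6, 6], [0, 1, 2, 2, 3, 4, 4, 5, 6, 6], [0, 3, 4, 5, 6, 6], [1, 1, 3, 3, 4, 5, 6, 6], [0, 2, 5, 6, 6], [0, 2, 4, 5, 5], [0, 2, 3, 3, 4, 5, 5], [0, 2, 3, 5, 5], [0, 2, 4, 4, 5, 5], [0, 2, 3, 3, 5, 5], [0, 2, 5, 5], [0, 2, 3, 4, 5, 5], [0, 2, 3, 4, 4, 5, 5], [0, 2, 3, 3, 4, 4, 5, 5], [0, 1, 1, 2,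 2, 4, 4, 5, 5, 6, 6], [0, 0, 2, 2, 3, 3, 4, 5, 5, 6, 6], [1, 2, 2, 3, 5, 5, 6, 6], [0, 1, 2, 3, 4, 4, 5, 5, 6, 6], [0, 1, 1, 2, 4, 5, 5, 6, 6], [0, 1, 3, 4, 5, 5, 6, 6], [0, 0, 3, 3, 4, 4, 5, 5, 6, 6], [0, 2, 3, 3, 5, 5, 6, 6], [1, 1, 5, 5, 6, 6], [0, 0, 1, 1, 2, 2, 3, 3, 4, 5, 5, 6], [4, 5, 5, 6], [0, 1, 2, 2, 3, 5, 5, 6], [1, 1, 3, 3, 5, 5, 6], [0, 2, 5, 5, 6], [2, 2, 4, 4, 5, 5, 6], [1, 2, 3, 4, 5, 5, 6], [1, 3, 4, 4, 5, 5, 6], [0, 0, 1, 1, 2, 3, 3, 4, 4, 5, 5, 6], [0, 1, 1, 2, 3, 5, 5, 6], [1, 2, 4, 4, 5, 5, 6], [1, 1, 3, 4, 5, 5, 6], [0, 0, 3, 3, 4, 4, 5, 5, 6], [2, 2, 3, 3, 5, 5, 6], [0, 1, 5, 5, 6], [1, 1, 2, 2, 3, 4, 4, 5, 5, 6], [0, 0, 2, 3, 3, 4, 5, 5, 6], [1, 2, 2, 4, 5, 5, 6], [0, 0, 1, 3, 4, 6], [0, 0, 1, 1, 2, 4, 4, 6], [1, 1, 2, 2, 3, 6], [2, 2, 3, 3, 6], [4, 6], [0,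 0, 1, 2, 2, 6], [1, 1, 3, 3, 4, 6], [0, 0, 2, 3, 4, 4, 6], [0, 1, 2, 3, 3, 4, 4, 6], [0, 1, 3, 5], [0, 2, 4, 4, 5], [0, 0, 1, 1, 2, 2, 3, 3, 4, 5], [1, 1, 4, 5], [0, 1, 1, 2, 3, 4, 5], [1, 2, 3, 3, 5], [0, 0, 1, 2, 2, 5], [0, 3, 3, 4, 4, 5], [0, 2, 2, 3, 4, 4, 5], [1, 1, 3, 5], [0, 2, 2, 3, 3, 4, 5], [0, 1, 1, 2, 2, 5], [1, 2, 2, 3, 4, 4, 5], [2, 3, 4, 5], [1, 3, 3, 4, 4, 5], [1, 2, 4, 4, 5], [0, 0, 4, 5], [0, 0, 1, 1, 2, 3, 3, 5], [1, 3, 6], [1, 2, 3, 3, 4, 6], [1, 1, 2, 4, 6], [0, 0, 6], [1, 1, 3, 3, 6], [0, 0, 1, 1, 2, 2, 3, 4, 4, 6], [0, 0, 2, 3, 4, 6], [0, 2, 2, 3, 3, 4, 4, 6], [0, 0, 1, 2, 2, 4, 4, 6], [0, 1, 1, 2, 3, 6], [1, 2, 2, 3, 4, 6], [1, 2, 6], [0, 2, 3, 3, 6], [0, 0, 1, 3, 3, 4, 4, 6], [3, 4, 4, 6], [0, 1, 1, 2, 2, 3, 3, 4, 6], [1, 1, 4, 4, 6], [0, 2, 2, 4, 6], [1,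 1, 3, 3, 4, 5, 5], [1, 1, 4, 4, 5, 5], [1, 1, 3, 5, 5], [1, 1, 3, 4, 5, 5], [1, 1, 3, 3, 5, 5], [1, 1, 4, 5, 5], [1, 1, 3, 3, 4, 4, 5, 5], [1, 1, 3, 4, 4, 5, 5], [1, 1, 5, 5], [1, 1, 2, 3, 4, 4, 6], [0, 1, 2, 2, 3, 6], [0, 1, 1, 2, 2, 3, 3, 6], [0, 0, 2, 3, 3, 4, 4, 6], [2, 2, 6], [0, 1, 3, 3, 4, 6], [1, 2, 4, 4, 6], [0, 1, 1, 4, 6], [3, 4, 6], [0, 0, 3, 3, 5], [1, 1, 4, 4, 5], [2, 2, 3, 5], [1, 3, 4, 5], [1, 1, 2, 2, 3, 3, 4, 4, 5], [0, 1, 2, 3, 3, 4, 5], [0, 0, 1, 2, 2, 4, 5], [1, 1, 2, 3, 4, 4, 5], [0, 2, 5], [3, 5, 5, 6, 6], [1, 2, 5, 5, 6, 6], [0, 2, 3, 4, 5, 5, 6, 6], [0, 1, 4, 4, 5, 5, 6, 6], [0, 2, 2, 3, 4, 4, 5, 5, 6, 6], [0, 0, 1, 1, 3, 3, 4, 5, 5, 6, 6], [0, 1, 2, 2, 4, 5, 5, 6, 6], [0, 0, 1, 1, 2, 3, 3, 4, 4, 5, 5, 6, 6], [0, 1, 1, 2, 2, 3, 3, 5, 5, 6, 6], [0, 0, 1, 1,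 3, 5, 6], [0, 3, 4, 5, 6]]

/-- Words of elements. -/
def elts3_1 : List (List ℕ) :=
  [[0, 2, 4, 4, 5, 6], [1, 1, 2, 2, 3, 3, 4, 4, 5, 6], [0, 1, 3, 4, 4, 5, 6], [2, 2, 3, 3, 5, 6], [1, 2, 5, 6], [1, 1, 2, 4, 5, 6], [0, 1, 2, 2, 3, 3, 4, 5, 6], [0, 1, 1, 3, 4, 6, 6], [0, 1, 1, 2, 2, 4, 4, 6, 6], [3, 6, 6], [0, 1, 3, 4, 4, 6, 6], [0, 0, 1, 1, 2, 3, 3, 6, 6], [0, 1, 2, 3, 3, 4, 6, 6], [0, 0, 2, 2, 4, 6, 6], [0, 0, 1, 2, 2, 6, 6], [0, 0, 2, 3, 3, 4, 4, 6, 6], [0, 0, 1, 2, 3, 5, 6], [0, 3, 3, 4, 5, 6], [1, 2, 2, 4, 5, 6], [0, 2, 3, 4, 4, 5, 6], [0, 1, 1, 2, 2, 4, 4, 5, 6], [1, 3, 3, 4, 4, 5, 6], [1, 1, 3, 3, 5, 6], [2, 2, 5, 6], [0, 1, 1, 2, 3, 4, 5, 6], [0, 1, 1, 2, 3, 5, 6], [2, 2, 4, 4, 5, 6], [1, 3, 3, 4, 5, 6], [0, 0, 1, 2, 2, 5, 6], [2, 3, 4, 5, 6], [0, 0, 3, 3, 5, 6], [0, 0, 1,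 1, 2, 2, 4, 5, 6], [0, 0, 1, 1, 3, 3, 4, 4, 5, 6], [1, 2, 3, 4, 4, 5, 6], [0, 0, 2, 3, 5, 6, 6], [1, 3, 4, 5, 6, 6], [2, 2, 4, 4, 5, 6, 6], [0, 1, 2, 2, 3, 3, 4, 4, 5, 6, 6], [1, 2, 5, 6, 6], [0, 0, 1, 1, 2, 3, 3, 5, 6, 6], [1, 1, 2, 2, 3, 4, 4, 5, 6, 6], [0, 0, 3, 3, 4, 5, 6, 6], [0, 0, 1, 1, 4, 5, 6, 6], [0, 0, 1, 2, 2, 3, 3, 4, 6], [0, 0, 1, 1, 2, 3, 3, 6], [0, 0, 1, 2, 3, 6], [0, 1, 1, 3, 4, 4, 6], [3, 3, 4, 4, 6], [0, 0, 1, 1, 2, 2, 4, 6], [0, 1, 4, 4, 6], [0, 2, 2, 3, 4, 6], [0, 2, 6], [3, 4, 6, 6], [1, 1, 3, 4, 4, 6, 6], [0, 0, 1, 3, 6, 6], [0, 1, 1, 2, 2, 6, 6], [0, 1, 2, 3, 3, 4, 4, 6, 6], [2, 2, 4, 4, 6, 6], [1, 1, 2, 3, 3, 4, 6, 6], [0, 1, 2, 2, 4, 6, 6], [0, 2, 3, 3, 6, 6], [0, 0, 1, 2, 2, 3, 5], [0, 0, 1, 1, 3, 4, 5], [0, 0, 4, 4, 5], [0, 0, 2, 3, 4, 4, 5], [0, 1, 3,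 3, 5], [0, 0, 2, 2, 3, 3, 4, 4, 5], [1, 2, 5], [0, 1, 1, 2, 2, 4, 5], [1, 1, 2, 3, 3, 4, 5], [0, 1, 3, 3, 6, 6], [3, 3, 4, 6, 6], [0, 0, 1, 1, 2, 2, 3, 6, 6], [0, 1, 1, 2, 4, 6, 6], [1, 2, 2, 3, 4, 6, 6], [2, 2, 3, 4, 4, 6, 6], [0, 1, 1, 3, 3, 4, 4, 6, 6], [1, 2, 4, 4, 6, 6], [0, 2, 6, 6], [0, 0, 3, 5], [1, 2, 2, 3, 3, 4, 5], [2, 2, 5], [0, 0, 1, 1, 2, 4, 4, 5], [0, 1, 4, 5], [0, 0, 1, 1, 2, 2, 3, 4, 4, 5], [0, 2, 3, 3, 5], [0, 0, 1, 1, 3, 3, 4, 4, 5], [0, 0, 1, 2, 3, 4, 5], [1, 1, 2, 3, 6, 6], [0, 0, 1, 1, 2, 2, 3, 3, 4, 4, 6, 6], [0, 1, 4, 4, 6, 6], [0, 2, 3, 4, 4, 6, 6], [0, 2, 2, 3, 3, 4, 6, 6], [0, 0, 1, 1, 4, 6, 6], [0, 0, 6, 6], [0, 1, 2, 3, 4, 6, 6], [0, 0, 1, 2, 2, 3, 3, 6, 6], [0, 2, 2, 3, 6, 6], [0, 0, 1, 1, 2, 2, 3, 4, 6, 6], [1, 2, 6, 6], [0, 0, 1, 3, 3, 4, 6, 6], [0,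 0, 1, 2, 2, 3, 4, 4, 6, 6], [1, 1, 3, 3, 6, 6], [3, 3, 4, 4, 6, 6], [0, 0, 1, 1, 2, 4, 4, 6, 6], [2, 4, 6, 6], [0, 1, 1, 2, 2, 3, 3, 5, 6], [0, 0, 1, 1, 2, 4, 4, 5, 6], [1, 3, 5, 6], [0, 0, 3, 4, 4, 5, 6], [0, 0, 2, 2, 3, 3, 4, 5, 6], [0, 0, 1, 1, 3, 4, 5, 6], [0, 1, 2, 4, 5, 6], [0, 1, 2, 2, 3, 3, 4, 4, 5, 6], [0, 2, 5, 6], [0, 1, 3, 5, 5], [0, 1, 4, 4, 5, 5], [0, 1, 3, 4, 4, 5, 5], [0, 1, 3, 3, 4, 4, 5, 5], [0, 1, 3, 3, 5, 5], [0, 1, 5, 5], [0, 1, 3, 3, 4, 5, 5], [0, 1, 3, 4, 5, 5], [0, 1, 4, 5, 5], [0, 0, 2, 2, 3, 4, 4], [0, 0, 1, 3, 4], [0, 0, 1, 1, 2, 3], [0, 1, 1, 2, 2], [0, 0, 2, 3, 3, 4, 4], [0, 1, 2, 2, 3, 3, 4], [1, 2, 4], [0, 0, 4, 4], [1, 1, 3, 3], [1, 1, 2, 2, 3, 5, 5, 6], [1, 2, 5, 5, 6], [0, 0, 1, 1, 2, 3, 4, 5, 5, 6], [0, 0, 1, 2, 2, 4, 4, 5, 5, 6], [0, 0, 1, 4, 5,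 5, 6], [0, 0, 1, 1, 3, 4, 4, 5, 5, 6], [0, 2, 2, 3, 3, 4, 5, 5, 6], [0, 0, 3, 3, 5, 5, 6], [0, 2, 3, 3, 4, 4, 5, 5, 6], [1, 3, 3, 4, 5, 5, 6, 6], [0, 0, 2, 2, 4, 5, 5, 6, 6], [0, 1, 1, 3, 5, 5, 6, 6], [0, 0, 4, 4, 5, 5, 6, 6], [0, 0, 1, 1, 2, 3, 4, 5, 5, 6, 6], [0, 0, 1, 2, 2, 3, 3, 5, 5, 6, 6], [0, 0, 1, 1, 2, 2, 3, 4, 4, 5, 5, 6, 6], [0, 2, 5, 5, 6, 6], [1, 2, 3, 3, 4, 4, 5, 5, 6, 6], [3, 4], [1, 1, 4, 4], [1, 2, 3], [0, 1, 3, 3], [0, 2, 4], [1, 1, 2, 2, 3, 4, 4], [0, 0, 1, 2, 2], [0, 0, 2, 2, 3, 3, 4], [1, 1, 2, 3, 3, 4, 4], [0, 1, 1, 2, 3, 3, 4], [2, 2, 3, 3], [0, 0, 3], [1, 1, 4], [0, 0, 1, 1, 2, 2, 3, 4], [0, 0, 1, 3, 3, 4, 4], [0, 0, 1, 2, 2, 4, 4], [0, 0, 1, 2, 3, 4, 4], [0, 2], [0, 1, 1, 3, 4, 6], [0, 1, 2, 3, 4, 4, 6], [0, 0, 2, 2, 3, 6], [1, 1, 2, 3, 3, 4, 4, 6], [0, 2,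 4, 4, 6], [0, 0, 1, 4, 6], [0, 1, 1, 2, 2, 6], [0, 0, 3, 3, 4, 6], [0, 0, 1, 2, 2, 3, 3, 6], [0, 0, 1, 1, 2, 2, 3, 5, 6, 6], [0, 0, 1, 1, 2, 3, 3, 4, 5, 6, 6], [0, 3, 3, 4, 4, 5, 6, 6], [0, 0, 1, 2, 2, 3, 3, 5, 6, 6], [0, 0, 1, 2, 4, 5, 6, 6], [1, 1, 4, 4, 5, 6, 6], [2, 2, 5, 6, 6], [1, 3, 4, 4, 5, 6, 6], [2, 3, 4, 5, 6, 6], [0, 1, 3], [0, 2, 2, 3, 4], [0, 1, 1, 2, 3, 4, 4], [0, 1, 1, 3, 3, 4, 4], [1, 2], [2, 3, 3, 4], [0, 1, 1, 2, 2, 4, 4], [0, 0, 1, 2, 2, 3, 3], [0, 0, 4], [0, 1, 2, 2, 3, 4, 4], [0, 2, 3], [0, 1, 2, 3, 3, 4, 4], [0, 1, 4, 4]]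

/-- Words of elements. -/
def elts3_2 : List (List ℕ) :=
  [[0, 0, 1, 1, 2, 4], [2, 2], [0, 0, 3, 3], [1, 1, 2, 2, 3, 3, 4], [0, 1, 1, 3, 4], [1, 1, 2, 2, 3, 4, 5, 6], [2, 2, 3, 4, 4, 5, 6], [0, 1, 2, 2, 3, 5, 6], [0, 0, 5, 6], [0, 0, 1, 1, 2, 3, 3, 5, 6], [0, 0, 1, 2, 3, 3, 4, 4, 5, 6], [2, 3, 3, 4, 5, 6], [0, 0, 1, 4, 5, 6], [1, 1, 4, 4, 5, 6], [0, 2, 2, 3, 5, 5, 6, 6], [0, 0, 1, 2, 2, 4, 4, 5, 5, 6, 6], [0, 0, 1, 1, 2, 3, 3, 5, 5, 6, 6], [0, 0, 2, 3, 4, 4, 5, 5, 6, 6], [0, 0, 3, 4, 5, 5, 6, 6], [1, 1, 2, 2, 3, 3, 4, 5, 5, 6, 6], [0, 1, 5, 5, 6, 6], [1, 1, 3, 3, 4, 4, 5, 5, 6, 6], [0, 0, 1, 2, 4, 5, 5, 6, 6], [2, 3, 5, 6], [0, 0, 1, 1, 3, 3, 4, 5, 6], [0, 2, 2, 4, 5, 6], [0, 1, 1, 2, 2, 5, 6], [0, 0, 1, 2, 2, 4, 4, 5, 6], [0, 0, 1, 2, 3, 4, 5, 6], [0, 0, 1, 1, 2, 3, 4, 4, 5, 6],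 [0, 3, 3, 4, 4, 5, 6], [0, 1, 3, 3, 5, 6], [0, 0, 1, 2, 3, 4, 4, 5, 6, 6], [0, 0, 2, 2, 3, 4, 5, 6, 6], [0, 1, 1, 3, 5, 6, 6], [0, 0, 5, 6, 6], [2, 3, 3, 4, 4, 5, 6, 6], [0, 1, 2, 2, 4, 5, 6, 6], [0, 1, 1, 2, 2, 3, 3, 4, 5, 6, 6], [0, 1, 3, 3, 5, 6, 6], [0, 0, 1, 1, 2, 4, 4, 5, 6, 6], [0, 0, 1, 1, 2, 4, 4, 5, 5, 6], [0, 1, 2, 3, 3, 4, 5, 5, 6], [2, 3, 5, 5, 6], [0, 0, 3, 4, 5, 5, 6], [0, 0, 2, 2, 3, 4, 4, 5, 5, 6], [0, 1, 3, 3, 4, 4, 5, 5, 6], [0, 0, 1, 2, 2, 3, 3, 5, 5, 6], [0, 0, 1, 1, 2, 2, 4, 5, 5, 6], [1, 1, 5, 5, 6], [0, 0, 3, 4, 4, 6, 6], [0, 1, 1, 3, 6, 6], [1, 1, 2, 2, 4, 6, 6], [1, 2, 3, 3, 6, 6], [0, 0, 1, 3, 4, 6, 6], [1, 1, 2, 3, 3, 4, 4, 6, 6], [0, 0, 1, 2, 2, 4, 4, 6, 6], [0, 0, 2, 3, 3, 4, 6, 6], [2, 2, 6, 6], [0, 0, 1, 1, 3, 3, 4, 6], [0, 2, 3, 4, 4, 6], [0, 1, 1,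 2, 4, 4, 6], [0, 1, 3, 4, 6], [0, 0, 4, 6], [0, 0, 1, 1, 2, 2, 3, 6], [1, 2, 3, 3, 4, 4, 6], [0, 1, 2, 2, 6], [0, 0, 2, 2, 3, 3, 6], [0, 2, 2, 5, 6, 6], [0, 2, 3, 4, 5, 6, 6], [0, 0, 3, 3, 4, 4, 5, 6, 6], [1, 2, 2, 3, 3, 5, 6, 6], [1, 2, 4, 5, 6, 6], [0, 1, 3, 4, 4, 5, 6, 6], [0, 1, 1, 4, 4, 5, 6, 6], [1, 1, 2, 2, 3, 5, 6, 6], [1, 1, 2, 3, 3, 4, 5, 6, 6], [1, 2, 3, 3, 4, 6, 6], [1, 1, 3, 4, 6, 6], [1, 1, 2, 2, 4, 4, 6, 6], [1, 3, 4, 4, 6, 6], [0, 1, 2, 2, 6, 6], [0, 2, 3, 3, 4, 4, 6, 6], [0, 2, 2, 4, 6, 6], [0, 0, 3, 6, 6], [0, 1, 1, 2, 3, 3, 6, 6], [0, 2, 2, 5, 5, 6, 6], [0, 1, 1, 2, 3, 5, 5, 6, 6], [0, 0, 4, 5, 5, 6, 6], [1, 2, 2, 3, 3, 4, 4, 5, 5, 6, 6], [0, 0, 1, 3, 3, 5, 5, 6, 6], [0, 0, 1, 1, 2, 2, 3, 4, 5, 5, 6, 6], [0, 0, 2, 4, 4, 5, 5, 6, 6], [1, 2, 3, 3, 4, 5, 5, 6, 6],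 [0, 0, 1, 1, 3, 4, 4, 5, 5, 6, 6], [0, 1, 1, 2, 4, 5, 5, 6], [0, 1, 2, 3, 3, 5, 5, 6], [1, 3, 3, 4, 5, 5, 6], [1, 2, 2, 3, 3, 4, 4, 5, 5, 6], [0, 0, 1, 1, 2, 2, 5, 5, 6], [0, 1, 1, 4, 4, 5, 5, 6], [0, 0, 3, 5, 5, 6], [0, 2, 3, 4, 4, 5, 5, 6], [0, 2, 2, 3, 4, 5, 5, 6], [0, 0, 1, 3, 3, 5, 6], [0, 0, 2, 2, 4, 5, 6], [0, 0, 3, 3, 4, 4, 5, 6], [0, 0, 1, 1, 2, 2, 5, 6], [1, 2, 3, 4, 5, 6], [1, 1, 3, 3, 4, 5, 6], [1, 1, 2, 3, 4, 4, 5, 6], [1, 2, 2, 4, 4, 5, 6], [0, 2, 3, 5, 6], [2, 4, 4, 5, 6, 6], [0, 0, 2, 2, 3, 3, 4, 5, 6, 6], [0, 0, 1, 1, 3, 3, 5, 6, 6], [1, 2, 2, 3, 4, 5, 6, 6], [1, 1, 2, 3, 4, 4, 5, 6, 6], [0, 1, 2, 3, 3, 4, 4, 5, 6, 6], [0, 0, 1, 1, 2, 2, 4, 5, 6, 6], [1, 5, 6, 6], [0, 0, 3, 5, 6, 6], [1, 1, 3, 3, 4, 5], [0, 0, 2, 2, 4, 4, 5], [0, 1, 2, 2, 3, 3, 5], [0, 0, 3, 4, 4,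 5], [0, 0, 1, 1, 2, 2, 3, 4, 5], [0, 1, 1, 2, 4, 5], [0, 0, 2, 3, 3, 4, 4, 5], [0, 0, 1, 2, 3, 5], [1, 5], [0, 1, 1, 2, 2, 3, 3, 4, 4, 5, 6, 6], [0, 0, 2, 3, 3, 5, 6, 6], [1, 1, 2, 5, 6, 6], [0, 0, 4, 5, 6, 6], [2, 2, 3, 4, 4, 5, 6, 6], [0, 0, 1, 3, 3, 4, 5, 6, 6], [0, 0, 1, 2, 3, 5, 6, 6], [1, 1, 3, 4, 5, 6, 6], [1, 2, 2, 4, 4, 5, 6, 6], [1, 1, 2, 6], [0, 1, 2, 2, 4, 6], [0, 0, 1, 1, 3, 3, 4, 4, 6], [0, 1, 2, 3, 3, 6], [0, 2, 2, 3, 3, 4, 6], [1, 1, 2, 2, 3, 4, 6], [0, 2, 3, 6], [1, 3, 4, 4, 6], [4, 4, 6], [0, 2, 2, 5], [1, 2, 3, 4, 5], [0, 0, 2, 3, 3, 5], [1, 1, 3, 3, 4, 4, 5], [0, 0, 1, 4, 5], [3, 5], [1, 1, 2, 2, 3, 4, 4, 5], [1, 1, 2, 4, 4, 5], [0, 1, 2, 2, 3, 3, 4, 5], [0, 1, 1, 3, 3, 6], [1, 2, 2, 4, 4, 6], [0, 0, 2, 2, 3, 3, 4, 4, 6], [0, 1, 1, 2, 4, 6], [6], [2, 3, 4, 6],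 [0, 1, 2, 3, 3, 4, 6], [0, 1, 3, 6], [1, 1, 2, 2, 3, 4, 4, 6], [3, 3, 5, 5, 6, 6], [1, 1, 4, 5, 5, 6, 6], [0, 2, 3, 3, 4, 5, 5, 6, 6], [0, 0, 1, 1, 2, 2, 5, 5, 6, 6], [0, 2, 2, 3, 3, 4, 4, 5, 5, 6, 6], [1, 1, 2, 4, 4, 5, 5, 6, 6], [0, 0, 1, 2, 3, 5, 5, 6, 6], [1, 2, 2, 3, 4, 5, 5, 6, 6], [1, 3, 4, 4, 5, 5, 6, 6], [1, 1, 2, 2, 3, 3, 4, 4, 6], [0, 0, 1, 3, 3, 6], [0, 0, 1, 2, 4, 6], [0, 1, 1, 6], [0, 1, 2, 2, 3, 4, 4, 6], [0, 2, 2, 4, 4, 6], [0, 0, 3, 6], [0, 0, 2, 3, 3, 4, 6], [0, 1, 1, 2, 3, 4, 6], [1, 2, 2, 3, 4, 5, 6], [1, 4, 4, 5, 6], [1, 1, 2, 2, 3, 4, 4, 5, 6], [1, 1, 2, 3, 3, 4, 5, 6], [0, 0, 1, 2, 3, 3, 5, 6], [0, 0, 1, 1, 5, 6], [0, 0, 2, 3, 3, 4, 4, 5, 6], [0, 2, 2, 3, 5, 6], [0, 0, 4, 5, 6], [0, 1, 2, 2, 3, 4, 4, 5, 5], [0, 1, 2, 2, 3, 4, 5, 5], [0, 1, 2, 2, 3, 3, 4, 5,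 5], [0, 1, 2, 2, 4, 4, 5, 5], [0, 1, 2, 2, 3, 3, 4, 4, 5, 5], [0, 1, 2, 2, 5, 5]]

/-- Words of elements. -/
def elts3_3 : List (List ℕ) :=
  [[0, 1, 2, 2, 3, 3, 5, 5], [0, 1, 2, 2, 4, 5, 5], [0, 1, 2, 2, 3, 5, 5], [0, 2, 2, 3, 4, 5], [0, 1, 2, 2, 4, 4, 5], [0, 1, 3, 4, 4, 5], [0, 0, 3, 3, 4, 5], [0, 1, 2, 3, 3, 4, 4, 5], [0, 0, 1, 1, 5], [0, 1, 1, 2, 3, 5], [1, 1, 2, 2, 3, 3, 5], [2, 4, 5], [0, 0, 2, 3, 3], [0, 1, 2, 4, 4], [0, 1, 2, 2, 3, 3, 4, 4], [0, 0, 1, 1, 2, 2, 4], [], [1, 1, 3, 3, 4], [0, 1, 1, 2, 3, 4], [0, 2, 2, 3], [0, 1, 3, 4, 4], [0, 2, 2, 5, 5], [0, 2, 2, 3, 5, 5], [0, 2, 2, 3, 3, 4, 4, 5, 5], [0, 2, 2, 3, 3, 5, 5], [0, 2, 2, 4, 5, 5], [0, 2, 2, 3, 4, 5, 5], [0, 2, 2, 4, 4, 5, 5], [0, 2, 2, 3, 3, 4, 5, 5], [0, 2, 2, 3, 4, 4, 5, 5], [0, 0, 2, 3, 3, 4, 4, 5, 5, 6, 6],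 [0, 2, 2, 3, 3, 5, 5, 6, 6], [1, 1, 2, 5, 5, 6, 6], [0, 1, 1, 2, 2, 4, 5, 5, 6, 6], [0, 1, 2, 2, 3, 4, 4, 5, 5, 6, 6], [1, 3, 5, 5, 6, 6], [0, 1, 2, 3, 4, 5, 5, 6, 6], [0, 1, 1, 4, 4, 5, 5, 6, 6], [0, 0, 3, 3, 4, 5, 5, 6, 6], [1, 1, 2, 6, 6], [1, 2, 4, 6, 6], [3, 3, 6, 6], [1, 3, 3, 4, 4, 6, 6], [0, 0, 1, 1, 2, 2, 3, 4, 4, 6, 6], [0, 1, 2, 2, 3, 6, 6], [0, 0, 1, 1, 3, 3, 4, 6, 6], [0, 0, 2, 2, 3, 4, 6, 6], [0, 0, 2, 4, 4, 6, 6], [0, 0, 2, 2, 3, 3, 4, 4, 6, 6], [0, 0, 4, 6, 6], [0, 0, 1, 1, 2, 2, 3, 3, 6, 6], [0, 0, 1, 6, 6], [0, 1, 2, 3, 4, 4, 6, 6], [0, 1, 1, 2, 3, 4, 6, 6], [2, 3, 6, 6], [0, 1, 1, 4, 4, 6, 6], [0, 1, 2, 2, 3, 3, 4, 6, 6], [0, 2, 2, 5, 5, 6], [0, 1, 3, 5, 5, 6], [0, 0, 1, 1, 2, 2, 3, 3, 4, 4, 5, 5, 6], [1, 1, 2, 3, 3, 5, 5, 6], [2, 4, 5, 5, 6], [4, 4, 5, 5, 6], [1,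 2, 2, 3, 4, 5, 5, 6], [0, 0, 1, 1, 3, 3, 4, 5, 5, 6], [1, 2, 3, 4, 4, 5, 5, 6], [0, 1, 2, 3, 3, 4, 4, 5, 5, 6], [0, 0, 1, 3, 3, 5, 5, 6], [1, 1, 2, 5, 5, 6], [0, 0, 1, 1, 4, 5, 5, 6], [0, 0, 2, 3, 4, 5, 5, 6], [0, 0, 3, 4, 4, 5, 5, 6], [0, 0, 1, 1, 2, 2, 4, 4, 5, 5, 6], [2, 2, 3, 5, 5, 6], [0, 1, 2, 2, 3, 3, 4, 5, 5, 6], [0, 0, 1, 1, 2, 2, 4, 5, 5], [0, 0, 1, 1, 2, 2, 3, 3, 5, 5], [0, 0, 1, 1, 2, 2, 3, 3, 4, 5, 5], [0, 0, 1, 1, 2, 2, 3, 3, 4, 4, 5, 5], [0, 0, 1, 1, 2, 2, 5, 5], [0, 0, 1, 1, 2, 2, 4, 4, 5, 5], [0, 0, 1, 1, 2, 2, 3, 5, 5], [0, 0, 1, 1, 2, 2, 3, 4, 5, 5], [0, 0, 1, 1, 2, 2, 3, 4, 4, 5, 5], [1, 1, 2, 3, 3, 5], [4, 5], [0, 1, 3, 3, 4, 4, 5], [0, 0, 1, 1, 2, 2, 5], [0, 1, 2, 4, 4, 5], [0, 1, 2, 2, 3, 4, 4, 5], [0, 2, 3, 4, 5], [0, 0, 2, 2, 3, 3, 4, 5], [0, 1, 1, 3, 5],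 [1, 2, 2, 3, 3, 6, 6], [0, 0, 1, 4, 4, 6, 6], [1, 1, 4, 6, 6], [6, 6], [1, 1, 2, 2, 3, 3, 4, 4, 6, 6], [0, 0, 1, 2, 3, 4, 6, 6], [0, 0, 2, 2, 3, 3, 4, 6, 6], [0, 1, 1, 2, 3, 6, 6], [0, 0, 2, 3, 4, 4, 6, 6], [1, 1, 2, 3, 3, 5, 5], [1, 1, 2, 3, 3, 4, 4, 5, 5], [1, 1, 2, 5, 5], [1, 1, 2, 4, 5, 5], [1, 1, 2, 3, 4, 5, 5], [1, 1, 2, 3, 4, 4, 5, 5], [1, 1, 2, 4, 4, 5, 5], [1, 1, 2, 3, 5, 5], [1, 1, 2, 3, 3, 4, 5, 5], [0, 1, 2, 2, 3, 3, 4, 4, 6], [0, 0, 1, 6], [3, 3, 6], [2, 4, 6], [0, 0, 2, 2, 3, 4, 4, 6], [0, 0, 1, 1, 2, 2, 4, 4, 6], [0, 0, 1, 2, 3, 4, 6], [1, 1, 2, 3, 3, 4, 6], [1, 1, 3, 6], [2, 2, 3, 3, 4, 4, 5, 6], [1, 2, 2, 3, 3, 5, 6], [1, 1, 2, 5, 6], [2, 4, 5, 6], [0, 1, 1, 3, 4, 4, 5, 6], [0, 0, 3, 5, 6], [0, 1, 1, 2, 2, 3, 3, 4, 5, 6], [0, 1, 3, 4, 5, 6], [0, 1, 2, 4, 4, 5, 6],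 [0, 1, 2, 2, 3, 3, 4, 4, 6, 6], [0, 2, 2, 3, 3, 6, 6], [0, 1, 1, 6, 6], [0, 1, 4, 6, 6], [1, 1, 2, 2, 3, 3, 4, 6, 6], [1, 1, 2, 3, 4, 4, 6, 6], [4, 4, 6, 6], [0, 0, 1, 2, 3, 6, 6], [2, 3, 4, 6, 6], [1, 1, 2, 2, 3, 4, 5, 5, 6], [1, 1, 2, 3, 4, 4, 5, 5, 6], [0, 0, 3, 3, 4, 5, 5, 6], [1, 4, 4, 5, 5, 6], [0, 0, 2, 2, 3, 3, 4, 4, 5, 5, 6], [2, 3, 3, 5, 5, 6], [0, 1, 2, 2, 5, 5, 6], [1, 2, 4, 5, 5, 6], [0, 1, 1, 3, 5, 5, 6], [0, 0, 1, 4], [1, 1, 2], [0, 3, 3, 4, 4], [0, 0, 1, 1, 2, 2, 3, 3], [0, 1, 1, 3], [0, 2, 3, 4, 4], [0, 1, 2, 2, 3, 4], [1, 2, 3, 3, 4], [0, 2, 2, 4, 4], [0, 0, 1, 1, 2, 2, 3, 4, 5, 6, 6], [0, 0, 1, 2, 4, 4, 5, 6, 6], [0, 0, 2, 3, 4, 4, 5, 6, 6], [0, 1, 2, 2, 3, 3, 4, 5, 6, 6], [0, 1, 3, 5, 6, 6], [0, 3, 3, 5, 6, 6], [1, 1, 2, 3, 3, 4, 4, 5, 6, 6], [0, 0, 1, 1, 5, 6,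 6], [0, 2, 2, 4, 5, 6, 6], [0, 0, 3, 4, 4, 5, 5, 6, 6], [0, 0, 2, 2, 3, 4, 5, 5, 6, 6], [0, 0, 1, 2, 4, 4, 5, 5, 6, 6], [1, 1, 2, 3, 3, 4, 5, 5, 6, 6], [0, 0, 1, 1, 3, 3, 5, 5, 6, 6], [0, 1, 2, 2, 5, 5, 6, 6], [1, 1, 2, 2, 3, 3, 4, 4, 5, 5, 6, 6], [0, 0, 1, 4, 5, 5, 6, 6], [0, 2, 3, 5, 5, 6, 6], [1, 1, 2, 2, 3, 3, 4, 4], [0, 0, 1], [0, 1, 2, 3, 3], [0, 2, 2, 4], [2, 3, 4], [1, 1, 3, 4, 4], [1, 2, 2, 3], [1, 1, 2, 4, 4], [0, 0, 3, 3, 4], [0, 2, 2, 3, 3, 5, 6, 6], [0, 2, 4, 5, 6, 6], [1, 1, 3, 3, 4, 4, 5, 6, 6], [0, 0, 1, 1, 2, 2, 5, 6, 6], [0, 0, 1, 1, 2, 3, 4, 5, 6, 6], [0, 1, 2, 3, 3, 4, 5, 6, 6], [0, 0, 3, 4, 4, 5, 6, 6], [0, 0, 1, 4, 4, 5, 6, 6], [0, 1, 2, 2, 3, 5, 6, 6], [0, 2, 2, 3, 3, 4], [0, 0, 1, 1, 2, 2, 3, 4, 4], [0, 0, 1, 1, 4, 4], [0, 0, 3, 4], [0, 1, 2, 2], [0, 0, 1,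 2, 3], [0, 0, 1, 1, 2, 3, 3, 4, 4], [1, 3, 3]]

/-- Words of elements. -/
def elts3_4 : List (List ℕ) :=
  [[2, 4], [0, 4, 4, 5, 6], [0, 1, 2, 3, 3, 4, 5, 6], [2, 3, 3, 5, 6], [0, 2, 2, 3, 4, 5, 6], [0, 1, 2, 2, 3, 4, 4, 5, 6], [1, 1, 2, 3, 3, 4, 4, 5, 6], [1, 1, 4, 5, 6], [0, 0, 1, 1, 2, 2, 3, 5, 6], [1, 5, 6], [1, 1, 2, 3, 3], [0, 0, 2, 2, 3, 3, 4, 4], [1, 2, 2, 4], [0, 1, 1], [0, 0, 3, 4, 4], [0, 0, 2, 4, 4], [0, 1, 3, 3, 4], [0, 0, 1, 1, 2, 2, 3], [0, 0, 1, 2, 3, 4], [0, 0, 1, 2, 2, 3, 3, 4, 4, 5], [0, 1, 1, 3, 3, 5], [0, 2, 2, 4, 5], [1, 1, 2, 5], [0, 0, 3, 4, 5], [0, 0, 1, 1, 2, 2, 3, 5], [0, 0, 1, 2, 3, 4, 4, 5], [2, 3, 3, 4, 5], [0, 0, 1, 4, 4, 5], [0, 2, 2, 5, 6], [0, 0, 1, 1, 2, 3, 4, 5, 6], [0, 1, 3, 3, 4, 4, 5, 6], [0, 1, 1, 3, 3, 5, 6], [0, 1, 2, 2, 4, 5, 6], [0, 0, 2,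 3, 4, 4, 5, 6], [0, 0, 1, 1, 2, 2, 4, 4, 5, 6], [1, 2, 3, 5, 6], [0, 0, 3, 3, 4, 5, 6], [0, 0, 1, 1, 3, 6], [0, 1, 1, 2, 2, 4, 4, 6], [0, 1, 6], [1, 2, 2, 3, 3, 4, 4, 6], [0, 0, 2, 4, 6], [0, 2, 2, 3, 4, 4, 6], [0, 0, 1, 1, 2, 3, 3, 4, 6], [0, 0, 3, 3, 6], [0, 1, 2, 3, 4, 6], [0, 0, 2, 3, 5, 5, 6, 6], [1, 1, 3, 3, 5, 5, 6, 6], [2, 2, 3, 4, 5, 5, 6, 6], [1, 2, 4, 4, 5, 5, 6, 6], [0, 1, 1, 2, 3, 3, 4, 5, 5, 6, 6], [0, 0, 1, 2, 2, 5, 5, 6, 6], [1, 4, 5, 5, 6, 6], [3, 4, 4, 5, 5, 6, 6], [0, 1, 1, 2, 2, 3, 3, 4, 4, 5, 5, 6, 6], [0, 1, 2, 3, 6, 6], [1, 4, 6, 6], [0, 0, 4, 4, 6, 6], [0, 0, 1, 1, 2, 2, 3, 3, 4, 6, 6], [0, 0, 2, 3, 4, 6, 6], [1, 1, 6, 6], [2, 2, 3, 3, 6, 6], [0, 0, 1, 1, 2, 3, 4, 4, 6, 6], [1, 2, 2, 3, 3, 4, 4, 6, 6], [0, 3, 6], [2, 2, 4, 4, 6], [0, 2, 3, 3, 4, 6], [0, 1,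 2, 4, 6], [1, 1, 6], [0, 1, 3, 3, 6], [0, 0, 1, 1, 2, 2, 3, 3, 4, 4, 6], [1, 1, 2, 3, 4, 6], [1, 2, 2, 3, 4, 4, 6], [0, 0, 1, 1, 3, 5, 5, 6], [0, 1, 4, 4, 5, 5, 6], [0, 2, 3, 3, 5, 5, 6], [0, 1, 1, 2, 2, 3, 4, 5, 5, 6], [0, 0, 1, 2, 2, 5, 5, 6], [0, 1, 2, 4, 5, 5, 6], [2, 2, 3, 3, 4, 4, 5, 5, 6], [3, 3, 4, 5, 5, 6], [0, 1, 1, 2, 3, 4, 4, 5, 5, 6], [0, 1, 1, 2, 2, 3, 5, 5], [0, 1, 1, 2, 2, 3, 4, 4, 5, 5], [0, 1, 1, 2, 2, 3, 3, 4, 4, 5, 5], [0, 1, 1, 2, 2, 3, 4, 5, 5], [0, 1, 1, 2, 2, 5, 5], [0, 1, 1, 2, 2, 4, 5, 5], [0, 1, 1, 2, 2, 3, 3, 5, 5], [0, 1, 1, 2, 2, 3, 3, 4, 5, 5], [0, 1, 1, 2, 2, 4, 4, 5, 5], [2, 2, 3, 5, 5], [2, 2, 3, 3, 4, 4, 5, 5], [2, 2, 3, 3, 5, 5], [2, 2, 3, 4, 4, 5, 5], [2, 2, 3, 3, 4, 5, 5], [2, 2, 5, 5], [2, 2, 4, 5, 5], [2, 2, 4, 4, 5, 5], [2, 2, 3, 4, 5, 5],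 [0, 0, 2, 3, 6, 6], [0, 1, 6, 6], [1, 1, 4, 4, 6, 6], [0, 1, 1, 2, 2, 3, 3, 6, 6], [1, 2, 2, 3, 3, 4, 6, 6], [0, 4, 6, 6], [1, 2, 3, 4, 4, 6, 6], [0, 2, 2, 3, 3, 4, 4, 6, 6], [1, 1, 2, 3, 4, 6, 6], [0, 1, 1, 2, 2, 3, 5], [0, 1, 2, 2, 3, 3, 4, 4, 5], [0, 1, 2, 3, 4, 4, 5], [0, 1, 4, 4, 5], [0, 0, 2, 3, 3, 4, 5], [1, 1, 3, 3, 5], [2, 2, 4, 5], [0, 0, 1, 1, 2, 5], [0, 3, 4, 5], [1, 1, 2, 2, 3, 4, 5, 6, 6], [0, 0, 1, 2, 2, 3, 3, 4, 5, 6, 6], [0, 0, 2, 2, 4, 5, 6, 6], [2, 3, 4, 4, 5, 6, 6], [0, 0, 1, 3, 5, 6, 6], [1, 1, 5, 6, 6], [0, 1, 1, 2, 3, 3, 4, 4, 5, 6, 6], [0, 0, 3, 3, 5, 6, 6], [1, 2, 4, 4, 5, 6, 6], [0, 0, 1, 3, 5, 5, 6, 6], [1, 1, 2, 2, 4, 5, 5, 6, 6], [0, 0, 1, 1, 2, 5, 5, 6, 6], [0, 3, 3, 4, 5, 5, 6, 6], [1, 2, 2, 3, 4, 4, 5, 5, 6, 6], [0, 2, 3, 3, 4, 4, 5, 5, 6, 6], [1, 1,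 4, 4, 5, 5, 6, 6], [1, 2, 3, 4, 5, 5, 6, 6], [2, 2, 3, 3, 5, 5, 6, 6], [0, 1, 1, 2, 2, 3], [0, 2, 4, 4], [1, 3, 3, 4], [0, 0, 1, 2, 2, 4], [0, 0, 1, 1, 2, 3, 3], [0, 1, 2, 3, 4], [0, 3, 4, 4], [1, 1], [0, 2, 2, 3, 3, 4, 4], [3, 5, 6, 6], [0, 1, 1, 2, 3, 4, 4, 5, 6, 6], [0, 1, 5, 6, 6], [0, 1, 2, 2, 3, 4, 5, 6, 6], [1, 1, 2, 2, 4, 5, 6, 6], [1, 1, 3, 3, 5, 6, 6], [2, 2, 3, 3, 4, 5, 6, 6], [0, 0, 1, 2, 3, 3, 4, 4, 5, 6, 6], [0, 2, 4, 4, 5, 6, 6], [0, 0, 2, 2, 3, 5, 5, 6], [0, 1, 1, 4, 5, 5, 6], [0, 3, 4, 4, 5, 5, 6], [0, 0, 1, 1, 2, 5, 5, 6], [1, 2, 2, 3, 3, 4, 5, 5, 6], [0, 1, 1, 2, 2, 4, 4, 5, 5, 6], [1, 2, 3, 3, 4, 4, 5, 5, 6], [0, 2, 3, 4, 5, 5, 6], [0, 1, 3, 3, 5, 5, 6], [0, 3, 5, 5, 6], [2, 2, 3, 4, 5, 5, 6], [0, 0, 1, 2, 2, 3, 3, 4, 4, 5, 5, 6], [2, 3, 4, 4, 5, 5, 6], [0, 0,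 1, 3, 3, 4, 5, 5, 6], [1, 1, 2, 4, 5, 5, 6], [0, 1, 1, 2, 2, 5, 5, 6], [1, 2, 3, 3, 5, 5, 6], [1, 1, 4, 4, 5, 5, 6], [0, 1, 2, 3, 5, 6, 6], [0, 0, 1, 2, 2, 4, 4, 5, 6, 6], [0, 0, 2, 2, 3, 4, 4, 5, 6, 6], [1, 1, 2, 2, 3, 3, 4, 4, 5, 6, 6], [0, 2, 3, 3, 5, 6, 6], [0, 0, 1, 1, 2, 5, 6, 6], [0, 4, 5, 6, 6], [0, 0, 1, 1, 3, 4, 5, 6, 6], [0, 1, 3, 3, 4, 5, 6, 6], [2, 3, 6], [2, 2, 3, 3, 4, 6], [0, 0, 1, 3, 4, 4, 6], [0, 1, 1, 3, 3, 4, 4, 6], [1, 2, 2, 4, 6], [0, 0, 1, 1, 2, 2, 3, 4, 6], [0, 0, 1, 1, 2, 6], [1, 2, 3, 3, 6], [0, 0, 4, 4, 6], [0, 2, 4, 5], [3, 3, 4, 5], [0, 0, 2, 2, 3, 4, 5], [0, 0, 1, 3, 4, 4, 5], [0, 0, 1, 1, 2, 3, 5], [0, 1, 1, 2, 2, 3, 3, 5], [1, 1, 5], [0, 0, 1, 2, 2, 4, 4, 5], [0, 0, 1, 2, 3, 3, 4, 4, 5], [4, 5, 6]]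

/-- Words of elements. -/
def elts3_5 : List (List ℕ) :=
  [[0, 1, 1, 2, 3, 3, 4, 5, 6], [0, 1, 2, 2, 3, 4, 5, 6], [0, 1, 1, 2, 2, 3, 4, 4, 5, 6], [0, 0, 2, 2, 3, 5, 6], [2, 3, 3, 4, 4, 5, 6], [0, 1, 4, 4, 5, 6], [1, 1, 5, 6], [1, 2, 3, 3, 5, 6], [1, 1, 2, 2, 3, 5, 6], [0, 1, 5, 6], [0, 0, 1, 2, 2, 3, 4, 4, 5, 6], [0, 0, 2, 2, 3, 4, 5, 6], [0, 1, 1, 4, 5, 6], [0, 2, 3, 3, 5, 6], [0, 0, 4, 4, 5, 6], [0, 0, 1, 2, 3, 3, 4, 5, 6], [0, 1, 1, 2, 3, 3, 4, 4, 5, 6], [0, 0, 1, 2, 2, 3], [0, 0, 1, 1, 2, 4, 4], [0, 1], [0, 3, 3, 4], [2, 2, 4], [1, 2, 3, 3], [0, 0, 1, 1, 2, 2, 3, 3, 4, 4], [0, 0, 2, 3, 4], [0, 0, 1, 1, 3, 4, 4], [0, 1, 2, 3, 5, 5, 6, 6], [2, 2, 3, 3, 4, 4, 5, 5, 6, 6], [0, 0, 1, 2, 2, 3, 4, 5, 5, 6, 6], [0, 0, 1, 3, 4, 4, 5, 5, 6, 6], [0, 1, 1, 2, 2, 5, 5, 6, 6], [2, 3, 3, 4,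 5, 5, 6, 6], [0, 0, 1, 1, 2, 4, 4, 5, 5, 6, 6], [0, 0, 1, 1, 4, 5, 5, 6, 6], [0, 0, 3, 3, 5, 5, 6, 6], [0, 3, 5, 6], [0, 0, 2, 2, 3, 3, 4, 4, 5, 6], [1, 1, 3, 4, 4, 5, 6], [1, 2, 4, 4, 5, 6], [0, 0, 1, 2, 2, 3, 3, 5, 6], [1, 3, 4, 5, 6], [1, 1, 2, 2, 3, 3, 4, 5, 6], [0, 0, 1, 1, 2, 5, 6], [0, 0, 2, 4, 5, 6], [0, 0, 1, 1, 2, 3, 5, 5], [0, 0, 1, 1, 2, 3, 3, 4, 5, 5], [0, 0, 1, 1, 2, 5, 5], [0, 0, 1, 1, 2, 3, 4, 4, 5, 5], [0, 0, 1, 1, 2, 4, 5, 5], [0, 0, 1, 1, 2, 4, 4, 5, 5], [0, 0, 1, 1, 2, 3, 3, 4, 4, 5, 5], [0, 0, 1, 1, 2, 3, 4, 5, 5], [0, 0, 1, 1, 2, 3, 3, 5, 5], [1, 1, 3], [0, 0, 1, 2, 3, 3, 4], [2, 3, 4, 4], [3, 3, 4, 4], [0, 0, 1, 1, 2], [0, 1, 1, 2, 2, 3, 3], [0, 1, 4], [2, 2, 4, 4], [1, 2, 2, 3, 4], [1, 3, 5, 5, 6], [0, 0, 1, 2, 3, 4, 4, 5, 5, 6], [0, 0, 1, 1, 2, 3, 3, 5, 5,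 6], [0, 1, 1, 2, 2, 3, 3, 4, 4, 5, 5, 6], [0, 1, 1, 3, 3, 4, 5, 5, 6], [2, 2, 5, 5, 6], [0, 0, 2, 4, 5, 5, 6], [0, 0, 4, 4, 5, 5, 6], [0, 0, 1, 2, 2, 3, 4, 5, 5, 6], [0, 0, 1, 2, 2, 3, 5, 5], [0, 0, 1, 2, 2, 3, 4, 5, 5], [0, 0, 1, 2, 2, 3, 3, 5, 5], [0, 0, 1, 2, 2, 4, 4, 5, 5], [0, 0, 1, 2, 2, 3, 3, 4, 5, 5], [0, 0, 1, 2, 2, 4, 5, 5], [0, 0, 1, 2, 2, 5, 5], [0, 0, 1, 2, 2, 3, 3, 4, 4, 5, 5], [0, 0, 1, 2, 2, 3, 4, 4, 5, 5], [1, 2, 2, 3, 6, 6], [0, 0, 1, 3, 3, 4, 4, 6, 6], [0, 1, 1, 3, 3, 4, 6, 6], [0, 1, 1, 2, 2, 3, 4, 4, 6, 6], [0, 0, 1, 2, 4, 6, 6], [0, 0, 1, 1, 2, 6, 6], [0, 2, 4, 4, 6, 6], [0, 2, 2, 3, 4, 6, 6], [0, 0, 3, 3, 6, 6], [1, 1, 2, 3, 5, 5, 6, 6], [0, 1, 3, 3, 5, 5, 6, 6], [0, 1, 1, 3, 4, 4, 5, 5, 6, 6], [0, 0, 1, 2, 2, 3, 3, 4, 4, 5, 5, 6, 6], [0, 4, 5, 5, 6, 6], [0,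 2, 4, 4, 5, 5, 6, 6], [0, 0, 1, 2, 3, 3, 4, 5, 5, 6, 6], [2, 2, 5, 5, 6, 6], [0, 1, 1, 2, 2, 3, 4, 5, 5, 6, 6], [1, 2, 3, 5], [0, 1, 5], [1, 1, 2, 2, 3, 4, 5], [3, 4, 4, 5], [2, 3, 3, 4, 4, 5], [0, 1, 1, 3, 3, 4, 5], [0, 0, 1, 2, 2, 3, 3, 5], [2, 2, 4, 4, 5], [0, 0, 1, 1, 2, 4, 5], [1, 4, 4, 5], [3, 4, 5], [0, 2, 3, 3, 4, 5], [0, 1, 1, 2, 5], [0, 0, 2, 2, 4, 5], [1, 2, 3, 4, 4, 5], [0, 0, 1, 1, 3, 3, 5], [1, 1, 2, 2, 3, 5], [1, 2, 2, 3, 3, 4, 4, 5], [2, 2, 3, 4, 6], [1, 1, 3, 4, 4, 6], [1, 4, 4, 6], [0, 0, 3, 3, 4, 4, 6], [0, 1, 2, 2, 3, 3, 4, 6], [2, 6], [0, 1, 2, 3, 6], [0, 1, 1, 2, 3, 3, 6], [0, 1, 1, 2, 2, 4, 6], [0, 0, 2, 2, 4, 6], [0, 1, 2, 6], [0, 0, 1, 1, 2, 2, 3, 3, 4, 6], [0, 0, 2, 3, 3, 6], [1, 3, 3, 4, 4, 6], [0, 0, 1, 1, 2, 3, 6], [0, 1, 1, 4, 4, 6], [0, 3, 4, 4, 6],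 [0, 1, 2, 2, 3, 4, 6], [0, 0, 1, 2, 2, 4, 5, 6, 6], [0, 0, 1, 3, 3, 5, 6, 6], [5, 6, 6], [1, 1, 2, 4, 4, 5, 6, 6], [0, 0, 1, 1, 3, 5, 6, 6], [0, 2, 3, 3, 4, 4, 5, 6, 6], [2, 2, 3, 4, 5, 6, 6], [0, 0, 1, 1, 2, 2, 3, 3, 4, 5, 6, 6], [1, 2, 3, 4, 4, 5, 6, 6], [0, 1, 1, 2, 4, 4, 5, 5, 6], [0, 3, 4, 5, 5, 6], [0, 0, 2, 3, 5, 5, 6], [0, 0, 1, 1, 5, 5, 6], [0, 2, 2, 3, 4, 4, 5, 5, 6], [1, 2, 3, 3, 4, 5, 5, 6], [1, 3, 3, 4, 4, 5, 5, 6], [0, 1, 1, 2, 2, 4, 5, 5, 6], [0, 1, 2, 2, 3, 3, 5, 5, 6], [0, 1, 1, 2, 3, 4, 5, 5], [0, 1, 1, 2, 4, 4, 5, 5], [0, 1, 1, 2, 3, 3, 4, 5, 5], [0, 1, 1, 2, 3, 3, 5, 5], [0, 1, 1, 2, 3, 4, 4, 5, 5], [0, 1, 1, 2, 4, 5, 5], [0, 1, 1, 2, 3, 5, 5], [0, 1, 1, 2, 3, 3, 4, 4, 5, 5], [0, 1, 1, 2, 5, 5], [0, 1, 2, 2, 4, 4, 5, 5, 6, 6], [0, 0, 1, 1, 2, 2, 3, 3, 4, 5, 5,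 6, 6], [0, 1, 2, 4, 5, 5, 6, 6], [0, 1, 1, 2, 3, 3, 5, 5, 6, 6], [0, 3, 4, 5, 5, 6, 6], [0, 2, 3, 4, 4, 5, 5, 6, 6], [0, 0, 1, 1, 3, 3, 4, 4, 5, 5, 6, 6], [1, 5, 5, 6, 6], [2, 2, 3, 5, 5, 6, 6], [1, 3, 3, 4, 5, 5], [1, 4, 4, 5, 5], [1, 3, 3, 5, 5], [1, 4, 5, 5], [1, 3, 4, 5, 5], [1, 3, 4, 4, 5, 5], [1, 3, 5, 5], [1, 5, 5], [1, 3, 3, 4, 4, 5, 5], [0, 4, 4, 6], [0, 1, 1, 2, 2, 3, 4, 6], [0, 0, 1, 2, 3, 3, 6], [0, 1, 3, 4, 4, 6], [0, 0, 2, 2, 3, 3, 4, 6], [0, 0, 2, 3, 6], [0, 0, 1, 2, 2, 4, 6], [1, 1, 3, 3, 4, 4, 6], [0, 1, 1, 2, 6], [0, 3, 3, 4, 6], [2, 4, 4, 6], [1, 1, 2, 2, 6], [0, 2, 2, 3, 6], [1, 2, 3, 4, 4, 6], [1, 1, 3, 4, 6], [0, 1, 2, 2, 3, 3, 6], [0, 0, 1, 1, 2, 3, 3, 4, 4, 6], [0, 1, 4, 6], [0, 0, 1, 5], [1, 1, 2, 4, 5], [0, 2, 3, 3, 4, 4, 5]]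

/-- Words of elements. -/
def elts3_6 : List (List ℕ) :=
  [[0, 1, 2, 3, 5], [1, 2, 2, 3, 3, 5], [0, 2, 2, 4, 4, 5], [0, 3, 4, 4, 5], [0, 1, 1, 2, 2, 3, 4, 5], [0, 0, 1, 1, 3, 3, 4, 5], [1, 2, 2, 5, 5], [1, 2, 2, 4, 5, 5], [1, 2, 2, 3, 3, 4, 4, 5, 5], [1, 2, 2, 3, 3, 4, 5, 5], [1, 2, 2, 3, 5, 5], [1, 2, 2, 3, 3, 5, 5], [1, 2, 2, 4, 4, 5, 5], [1, 2, 2, 3, 4, 4, 5, 5], [1, 2, 2, 3, 4, 5, 5], [3, 3, 5, 5, 6], [0, 0, 2, 3, 3, 4, 4, 5, 5, 6], [1, 4, 5, 5, 6], [1, 2, 2, 4, 4, 5, 5, 6], [0, 1, 2, 5, 5, 6], [1, 1, 3, 4, 4, 5, 5, 6], [1, 1, 2, 3, 4, 5, 5, 6], [0, 0, 2, 2, 3, 3, 4, 5, 5, 6], [0, 1, 1, 2, 2, 3, 5, 5, 6], [1, 2, 2, 3, 3, 6], [1, 4, 6], [0, 1, 1, 2, 3, 3, 4, 4, 6], [0, 0, 1, 1, 2, 2, 6], [0, 0, 1, 2, 3, 4, 4, 6], [3, 3, 4, 6], [0, 0, 2, 4, 4, 6], [0, 0, 1, 1, 3, 4, 6], [2, 2,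 3, 6], [0, 0, 2, 4, 5], [1, 2, 3, 3, 4, 4, 5], [0, 0, 1, 1, 2, 2, 3, 3, 5], [0, 1, 1, 5], [1, 1, 2, 3, 5], [0, 3, 3, 4, 5], [1, 2, 2, 4, 4, 5], [1, 3, 4, 4, 5], [2, 2, 3, 4, 5], [0, 0, 1, 1, 2, 2, 4, 5], [2, 2, 3, 3, 4, 4, 5], [0, 0, 1, 3, 3, 5], [0, 1, 1, 2, 3, 3, 4, 5], [0, 1, 2, 5], [1, 1, 3, 4, 5], [4, 4, 5], [1, 2, 2, 3, 5], [2, 3, 4, 4, 5], [0, 0, 1, 1, 4, 4, 5, 5], [0, 0, 1, 1, 3, 4, 5, 5], [0, 0, 1, 1, 5, 5], [0, 0, 1, 1, 3, 5, 5], [0, 0, 1, 1, 3, 4, 4, 5, 5], [0, 0, 1, 1, 3, 3, 4, 5, 5], [0, 0, 1, 1, 3, 3, 4, 4, 5, 5], [0, 0, 1, 1, 4, 5, 5], [0, 0, 1, 1, 3, 3, 5, 5], [1, 4, 5, 6], [1, 1, 2, 3, 3, 5, 6], [5, 6], [0, 1, 1, 4, 4, 5, 6], [0, 0, 1, 2, 2, 3, 5, 6], [1, 2, 3, 3, 4, 4, 5, 6], [0, 1, 1, 2, 2, 3, 4, 5, 6], [0, 2, 3, 3, 4, 5, 6], [0, 2, 2, 3, 4, 4, 5, 6], [0, 2, 3,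 3, 4, 6, 6], [0, 1, 2, 2, 4, 4, 6, 6], [0, 0, 1, 1, 2, 2, 4, 6, 6], [0, 3, 4, 4, 6, 6], [0, 1, 3, 4, 6, 6], [0, 0, 2, 2, 6, 6], [1, 1, 3, 6, 6], [0, 0, 1, 2, 3, 3, 6, 6], [0, 0, 1, 1, 2, 3, 3, 4, 4, 6, 6], [0, 1, 2, 2, 3, 4, 4, 6, 6], [0, 1, 1, 2, 4, 4, 6, 6], [0, 0, 3, 3, 4, 4, 6, 6], [0, 0, 1, 1, 3, 3, 6, 6], [0, 1, 1, 2, 2, 3, 4, 6, 6], [0, 1, 3, 3, 4, 6, 6], [0, 0, 2, 4, 6, 6], [0, 0, 1, 2, 6, 6], [2, 2, 3, 6, 6], [2, 4, 4, 6, 6], [2, 2, 3, 4, 6, 6], [0, 3, 3, 6, 6], [1, 1, 3, 3, 4, 6, 6], [1, 1, 2, 2, 3, 4, 4, 6, 6], [0, 1, 3, 3, 4, 4, 6, 6], [0, 1, 2, 4, 6, 6], [0, 1, 1, 2, 6, 6], [0, 0, 1, 2, 2, 3, 6, 6], [0, 0, 2, 6, 6], [0, 0, 1, 1, 2, 4, 6, 6], [1, 1, 2, 2, 3, 6, 6], [0, 0, 1, 1, 3, 3, 4, 4, 6, 6], [0, 0, 1, 3, 3, 6, 6], [0, 1, 2, 4, 4, 6, 6], [0, 3, 3, 4, 6, 6], [0, 2,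 2, 3, 4, 4, 6, 6], [0, 1, 2, 2, 3, 4, 6, 6], [0, 0, 1, 5, 6], [0, 0, 1, 1, 2, 3, 3, 4, 4, 5, 6], [0, 0, 1, 1, 4, 5, 6], [0, 1, 1, 2, 2, 3, 5, 6], [0, 0, 2, 3, 3, 5, 6], [1, 2, 3, 3, 4, 5, 6], [2, 2, 3, 4, 5, 6], [4, 4, 5, 6], [1, 2, 2, 3, 4, 4, 5, 6], [0, 2, 2, 6, 6], [0, 1, 1, 2, 3, 3, 4, 4, 6, 6], [0, 1, 2, 3, 3, 6, 6], [1, 3, 4, 6, 6], [0, 0, 1, 1, 3, 6, 6], [0, 1, 1, 2, 2, 4, 6, 6], [3, 4, 4, 6, 6], [1, 2, 2, 4, 4, 6, 6], [2, 3, 3, 4, 6, 6], [2, 2, 3, 4, 4, 5], [1, 1, 2, 3, 4, 5], [3, 3, 4, 4, 5], [0, 0, 1, 2, 3, 3, 5], [0, 1, 1, 2, 2, 3, 3, 4, 5], [2, 4, 4, 5], [0, 1, 2, 2, 5], [1, 3, 5], [0, 0, 1, 1, 4, 5], [2, 3, 3, 4, 4, 6], [0, 2, 2, 6], [0, 0, 1, 1, 2, 2, 3, 3, 6], [0, 0, 1, 2, 2, 3, 6], [0, 3, 4, 6], [0, 0, 1, 1, 4, 6], [0, 1, 1, 2, 3, 4, 4, 6], [0, 1, 2, 4, 4, 6], [0,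 0, 1, 3, 3, 4, 6], [0, 1, 2, 3, 3, 4, 4, 5, 5], [0, 1, 2, 4, 5, 5], [0, 1, 2, 3, 3, 5, 5], [0, 1, 2, 4, 4, 5, 5], [0, 1, 2, 5, 5], [0, 1, 2, 3, 4, 5, 5], [0, 1, 2, 3, 3, 4, 5, 5], [0, 1, 2, 3, 4, 4, 5, 5], [0, 1, 2, 3, 5, 5], [0, 1, 1, 5, 6, 6], [2, 2, 4, 5, 6, 6], [3, 3, 5, 6, 6], [0, 0, 1, 1, 2, 3, 3, 4, 4, 5, 6, 6], [1, 3, 5, 6, 6], [0, 1, 2, 4, 4, 5, 6, 6], [0, 2, 3, 4, 4, 5, 6, 6], [1, 2, 2, 3, 3, 4, 5, 6, 6], [0, 1, 1, 2, 2, 3, 4, 5, 6, 6], [3, 3, 5, 5], [5, 5], [4, 5, 5], [3, 4, 5, 5], [3, 3, 4, 4, 5, 5], [3, 3, 4, 5, 5], [4, 4, 5, 5], [3, 4, 4, 5, 5], [3, 5, 5], [0, 0, 2, 3, 3, 5, 5], [0, 0, 2, 5, 5], [0, 0, 2, 3, 3, 4, 4, 5, 5], [0, 0, 2, 3, 5, 5], [0, 0, 2, 4, 4, 5, 5], [0, 0, 2, 4, 5, 5], [0, 0, 2, 3, 4, 4, 5, 5], [0, 0, 2, 3, 4, 5, 5], [0, 0, 2, 3, 3, 4, 5, 5], [0, 0,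 2, 3, 3, 6, 6], [0, 0, 1, 2, 2, 4, 6, 6], [0, 0, 1, 2, 3, 3, 4, 4, 6, 6], [0, 0, 1, 1, 2, 2, 6, 6], [1, 3, 6, 6], [0, 1, 1, 2, 3, 3, 4, 6, 6], [0, 1, 1, 3, 4, 4, 6, 6], [0, 3, 4, 6, 6], [0, 2, 2, 4, 4, 6, 6], [0, 2, 2, 3, 3, 5], [5], [0, 1, 2, 4, 5], [0, 0, 1, 1, 2, 2, 4, 4, 5], [0, 0, 2, 3, 5], [0, 0, 1, 1, 2, 3, 3, 4, 4, 5], [1, 3, 3, 4, 5], [0, 0, 1, 2, 2, 3, 4, 5], [0, 0, 1, 1, 3, 4, 4, 5], [3, 3, 5], [0, 0, 2, 5], [0, 1, 1, 2, 2, 3, 3, 4, 4, 5], [0, 2, 2, 3, 5], [1, 2, 2, 4, 5]]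

/-- Words of elements. -/
def elts3_7 : List (List ℕ) :=
  [[0, 1, 1, 2, 3, 4, 4, 5], [0, 0, 1, 2, 3, 3, 4, 5], [0, 1, 1, 4, 4, 5], [0, 1, 3, 4, 5], [0, 0, 2, 5, 5, 6, 6], [1, 2, 2, 3, 3, 5, 5, 6, 6], [0, 1, 2, 3, 3, 4, 4, 5, 5, 6, 6], [4, 4, 5, 5, 6, 6], [0, 0, 1, 1, 3, 5, 5, 6, 6], [2, 2, 4, 5, 5, 6, 6], [1, 1, 2, 3, 4, 5, 5, 6, 6], [1, 1, 2, 2, 3, 4, 4, 5, 5, 6, 6], [0, 1, 3, 3, 4, 5, 5, 6, 6], [0, 0, 1, 1, 2, 2, 3, 3, 4], [1, 4, 4], [0, 1, 1, 2, 4], [1, 1, 3, 4], [1, 2, 2, 3, 4, 4], [1, 2, 3, 3, 4, 4], [2, 3], [0, 3, 3], [0, 0, 2, 2], [0, 3, 3, 4, 5, 6, 6], [0, 0, 1, 1, 2, 2, 3, 4, 4, 5, 6, 6], [0, 1, 1, 4, 5, 6, 6], [0, 0, 1, 2, 5, 6, 6], [0, 0, 2, 2, 4, 4, 5, 6, 6], [0, 0, 1, 3, 4, 5, 6, 6], [0, 2, 3, 5, 6, 6], [1, 2, 2, 3, 3, 4, 4, 5, 6, 6], [0, 1, 1, 2, 3, 3, 5, 6, 6], [0,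 1, 2, 2, 3, 4, 5, 5, 6], [0, 4, 4, 5, 5, 6], [0, 1, 2, 3, 4, 4, 5, 5, 6], [1, 1, 3, 3, 4, 5, 5, 6], [0, 2, 4, 5, 5, 6], [1, 1, 2, 2, 3, 3, 4, 4, 5, 5, 6], [0, 1, 1, 2, 3, 3, 5, 5, 6], [0, 0, 2, 2, 5, 5, 6], [0, 0, 1, 3, 5, 5, 6], [1, 2, 2, 3, 4, 4, 5, 6, 6], [3, 4, 5, 6, 6], [0, 0, 1, 1, 3, 3, 4, 5, 6, 6], [2, 5, 6, 6], [0, 0, 1, 4, 5, 6, 6], [1, 1, 2, 2, 4, 4, 5, 6, 6], [0, 0, 1, 1, 2, 3, 5, 6, 6], [0, 2, 2, 3, 3, 4, 4, 5, 6, 6], [0, 0, 1, 2, 3, 3, 5, 6, 6], [1, 3, 3, 4, 6], [0, 0, 1, 2, 4, 4, 6], [1, 1, 4, 6], [0, 0, 3, 4, 6], [0, 0, 1, 1, 2, 3, 4, 4, 6], [0, 0, 2, 2, 6], [1, 2, 2, 3, 6], [1, 1, 2, 2, 3, 3, 6], [0, 2, 3, 3, 4, 4, 6], [1, 2, 3, 4, 6], [0, 1, 1, 2, 3, 3, 4, 6], [2, 2, 3, 4, 4, 6], [0, 2, 4, 6], [0, 3, 3, 6], [1, 1, 2, 2, 4, 4, 6], [0, 0, 1, 2, 2, 3, 3, 4, 4, 6], [1,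 6], [0, 1, 1, 3, 6], [0, 3, 4, 4, 5, 6], [0, 1, 1, 3, 4, 5, 6], [0, 2, 2, 3, 3, 4, 5, 6], [2, 5, 6], [1, 2, 4, 5, 6], [0, 1, 1, 2, 4, 4, 5, 6], [0, 0, 1, 3, 5, 6], [1, 2, 2, 3, 3, 4, 4, 5, 6], [1, 1, 2, 2, 3, 3, 5, 6], [1, 2, 3, 4], [3, 4, 4], [0, 0, 1, 1], [0, 0, 1, 3, 3, 4], [2, 4, 4], [2, 2, 3, 3, 4, 4], [1, 1, 2, 2, 3], [0, 1, 2, 2, 4], [0, 1, 1, 2, 3, 3], [0, 1, 1, 3, 4, 4], [3, 3, 4], [0, 2, 3, 4], [0, 0, 2, 2, 4], [0, 0, 1, 2, 3, 3], [0, 1, 1, 2, 4, 4], [1], [0, 1, 1, 2, 2, 3, 3, 4, 4], [0, 1, 2, 2, 3], [0, 1, 2, 2, 4, 4, 5, 6, 6], [1, 3, 3, 4, 5, 6, 6], [0, 1, 1, 3, 4, 5, 6, 6], [4, 5, 6, 6], [0, 1, 1, 2, 5, 6, 6], [0, 2, 2, 3, 4, 4, 5, 6, 6], [1, 2, 3, 5, 6, 6], [2, 3, 3, 5, 6, 6], [0, 0, 1, 1, 2, 2, 3, 3, 4, 4, 5, 6, 6], [0, 0, 2, 2, 4, 4], [0, 0, 1, 2, 2, 3, 4], [1, 1,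 2, 2, 3, 3], [0, 0, 2, 3, 4, 4], [0, 1, 2, 3, 3, 4], [0, 0, 3, 3, 4, 4], [0, 1, 1, 2], [0, 0, 1, 1, 3], [1, 4], [0, 0, 1, 1, 2, 2, 3, 3, 4, 5, 6], [0, 0, 1, 3, 4, 5, 6], [0, 0, 1, 2, 4, 4, 5, 6], [0, 2, 4, 5, 6], [0, 1, 1, 2, 5, 6], [0, 0, 1, 1, 3, 4, 4, 5, 6], [3, 5, 6], [0, 1, 2, 2, 3, 3, 5, 6], [0, 2, 2, 3, 3, 4, 4, 5, 6], [0, 4, 4], [1, 2, 2, 3, 3, 4], [1, 1, 2, 2], [0, 1, 1, 2, 3], [0, 2, 2, 3, 4, 4], [0, 1, 3, 4], [0, 0, 1, 2, 4], [0, 0, 1, 1, 3, 3], [0, 2, 3, 3, 4, 4], [0, 1, 3, 4, 4, 5, 5, 6, 6], [0, 1, 1, 2, 4, 4, 5, 5, 6, 6], [0, 1, 2, 2, 3, 4, 5, 5, 6, 6], [1, 1, 2, 2, 5, 5, 6, 6], [0, 0, 2, 3, 3, 4, 5, 5, 6, 6], [0, 0, 2, 2, 3, 3, 4, 4, 5, 5, 6, 6], [0, 1, 1, 4, 5, 5, 6, 6], [1, 2, 3, 5, 5, 6, 6], [0, 3, 3, 5, 5, 6, 6], [0, 1, 2, 3, 4, 5, 6, 6], [0, 1, 1, 3, 4, 4, 5, 6,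 6], [0, 0, 1, 3, 3, 4, 4, 5, 6, 6], [1, 1, 2, 2, 3, 3, 5, 6, 6], [2, 3, 3, 4, 5, 6, 6], [0, 4, 4, 5, 6, 6], [2, 2, 3, 5, 6, 6], [1, 1, 2, 4, 5, 6, 6], [0, 1, 2, 2, 5, 6, 6], [0, 0, 1, 1, 2, 3, 4, 6], [0, 0, 1, 2, 2, 3, 4, 4, 6], [0, 0, 1, 1, 6], [2, 3, 3, 4, 6], [0, 0, 2, 2, 4, 4, 6], [3, 6], [1, 3, 3, 6], [0, 1, 1, 2, 2, 3, 3, 4, 4, 6], [1, 2, 4, 6], [1, 3, 4, 5, 5, 6, 6], [1, 1, 2, 2, 4, 4, 5, 5, 6, 6], [0, 0, 1, 2, 2, 3, 5, 5, 6, 6], [0, 0, 1, 1, 5, 5, 6, 6], [0, 2, 2, 3, 3, 4, 5, 5, 6, 6], [1, 2, 3, 4, 4, 5, 5, 6, 6], [0, 3, 3, 4, 4, 5, 5, 6, 6], [2, 3, 3, 5, 5, 6, 6], [1, 1, 2, 4, 5, 5, 6, 6], [0, 1, 1, 2, 2, 3, 4, 4, 5, 5, 6, 6], [0, 1, 1, 2, 3, 4, 5, 5, 6, 6], [0, 0, 1, 3, 3, 4, 5, 5, 6, 6], [0, 0, 1, 2, 3, 3, 4, 4, 5, 5, 6, 6], [0, 4, 4, 5, 5, 6, 6], [1, 1, 3, 5, 5, 6, 6],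 [0, 2, 2, 4, 5, 5, 6, 6], [2, 5, 5, 6, 6], [0, 1, 2, 2, 3, 3, 5, 5, 6, 6], [0, 1, 2, 3, 4, 4, 5, 6, 6], [0, 1, 1, 2, 4, 4, 5, 6, 6], [1, 1, 2, 2, 3, 3, 4, 5, 6, 6], [0, 0, 2, 3, 3, 4, 4, 5, 6, 6], [0, 2, 2, 3, 4, 5, 6, 6], [1, 1, 3, 5, 6, 6], [1, 3, 3, 5, 6, 6], [0, 5, 6, 6], [1, 2, 2, 4, 5, 6, 6], [0, 0, 2], [0, 1, 1, 4], [3], [0, 2, 2, 3, 3], [1, 3, 3, 4, 4], [0, 0, 1, 1, 2, 3, 3, 4], [1, 2, 3, 4, 4], [1, 2, 2, 4, 4], [1, 1, 2, 2, 3, 4], [0, 1, 2, 3, 3, 4, 5, 5, 6, 6], [1, 1, 2, 2, 3, 4, 5, 5, 6, 6], [2, 4, 4, 5, 5, 6, 6], [1, 1, 3, 4, 4, 5, 5, 6, 6], [4, 5, 5, 6, 6], [1, 3, 3, 5, 5, 6, 6], [0, 1, 2, 2, 3, 3, 4, 4, 5, 5, 6, 6]]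

/-- Words of elements. -/
def elts3_8 : List (List ℕ) :=
  [[0, 0, 2, 2, 5, 5, 6, 6], [0, 0, 1, 1, 2, 3, 5, 5, 6, 6], [1, 1, 2, 2, 3, 4, 5, 5], [1, 1, 2, 2, 4, 4, 5, 5], [1, 1, 2, 2, 3, 4, 4, 5, 5], [1, 1, 2, 2, 5, 5], [1, 1, 2, 2, 3, 3, 4, 5, 5], [1, 1, 2, 2, 3, 3, 5, 5], [1, 1, 2, 2, 3, 3, 4, 4, 5, 5], [1, 1, 2, 2, 3, 5, 5], [1, 1, 2, 2, 4, 5, 5], [0, 1, 1, 3, 3, 4, 5, 5, 6, 6], [2, 2, 3, 4, 4, 5, 5, 6, 6], [0, 1, 1, 2, 3, 3, 4, 4, 5, 5, 6, 6], [1, 1, 2, 2, 3, 3, 5, 5, 6, 6], [2, 3, 4, 5, 5, 6, 6], [1, 4, 4, 5, 5, 6, 6], [0, 0, 1, 2, 5, 5, 6, 6], [1, 2, 2, 4, 5, 5, 6, 6], [0, 0, 3, 5, 5, 6, 6], [0, 0, 1, 2, 2, 3, 3, 4, 5, 5, 6], [2, 3, 4, 5, 5, 6], [1, 1, 2, 2, 4, 4, 5, 5, 6], [1, 3, 3, 5, 5, 6], [3, 4, 4, 5, 5, 6], [0, 1, 1, 2, 5, 5, 6], [0, 2, 2, 3, 5, 5, 6], [1, 1, 4, 5, 5,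 6], [0, 0, 1, 2, 3, 3, 4, 4, 5, 5, 6], [1, 1, 2, 3, 4, 4], [1, 1, 2, 2, 4, 4], [0, 1, 2, 2, 3, 3], [1, 1, 3, 3, 4, 4], [0, 0, 2, 3, 3, 4], [2, 2, 3, 4], [1, 3], [0, 4], [0, 0, 1, 2], [0, 0, 1, 1, 2, 3, 3, 4, 5], [0, 2, 3, 4, 4, 5], [1, 1, 2, 2, 4, 5], [0, 0, 1, 2, 5], [0, 4, 4, 5], [0, 1, 1, 3, 4, 5], [0, 1, 2, 2, 3, 5], [1, 3, 3, 5], [0, 2, 2, 3, 3, 4, 4, 5], [0, 2, 4, 5, 5, 6, 6], [0, 1, 2, 3, 3, 5, 5, 6, 6], [5, 5, 6, 6], [0, 1, 1, 3, 4, 5, 5, 6, 6], [0, 0, 1, 3, 3, 4, 4, 5, 5, 6, 6], [1, 1, 2, 2, 3, 5, 5, 6, 6], [0, 2, 2, 4, 4, 5, 5, 6, 6], [0, 0, 1, 2, 2, 3, 3, 4, 5, 5, 6, 6], [0, 1, 1, 2, 3, 4, 4, 5, 5, 6, 6], [0, 0, 1, 3, 4, 4, 5, 5, 6], [0, 0, 1, 2, 3, 4, 5, 5, 6], [0, 1, 1, 2, 2, 3, 3, 4, 5, 5, 6], [0, 1, 1, 2, 3, 3, 4, 4, 5, 5, 6], [0, 0, 2, 2, 4, 4, 5, 5, 6], [2, 5, 5,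 6], [0, 0, 4, 5, 5, 6], [1, 2, 2, 3, 5, 5, 6], [0, 0, 1, 1, 3, 3, 5, 5, 6], [0, 0, 1, 3, 4, 5], [1, 2, 3, 3, 4, 5], [0, 0, 1, 1, 2, 3, 4, 4, 5], [2, 5], [0, 1, 2, 2, 4, 5], [0, 0, 1, 1, 4, 4, 5], [0, 0, 2, 2, 3, 5], [0, 0, 1, 1, 2, 2, 3, 3, 4, 4, 5], [0, 3, 3, 5], [0, 0, 2, 2, 4, 4, 5, 5], [0, 0, 2, 2, 3, 4, 4, 5, 5], [0, 0, 2, 2, 3, 4, 5, 5], [0, 0, 2, 2, 3, 3, 4, 5, 5], [0, 0, 2, 2, 4, 5, 5], [0, 0, 2, 2, 3, 3, 5, 5], [0, 0, 2, 2, 3, 3, 4, 4, 5, 5], [0, 0, 2, 2, 5, 5], [0, 0, 2, 2, 3, 5, 5], [4], [0, 1, 2], [0, 2, 3, 3, 4], [1, 2, 2, 3, 3], [0, 0, 1, 1, 3, 3, 4, 4], [0, 0, 1, 1, 2, 2, 4, 4], [0, 0, 2, 2, 3, 4], [0, 0, 1, 1, 2, 3, 4, 4], [0, 0, 1, 3], [0, 0, 1, 2, 4, 4, 5, 5, 6], [0, 2, 3, 3, 4, 5, 5, 6], [0, 0, 1, 2, 2, 4, 5, 5, 6], [0, 0, 2, 2, 3, 3, 5, 5, 6], [0, 0, 1, 1, 3, 4,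 5, 5, 6], [0, 0, 1, 1, 2, 2, 3, 4, 4, 5, 5, 6], [1, 1, 2, 3, 5, 5, 6], [1, 5, 5, 6], [0, 3, 3, 4, 4, 5, 5, 6], [0, 0, 2, 2, 4, 5, 5, 6], [0, 0, 1, 1, 2, 2, 3, 3, 5, 5, 6], [5, 5, 6], [0, 0, 1, 3, 4, 5, 5, 6], [0, 1, 1, 3, 3, 4, 4, 5, 5, 6], [1, 2, 3, 5, 5, 6], [0, 1, 1, 2, 3, 3, 4, 5, 5, 6], [0, 0, 2, 4, 4, 5, 5, 6], [0, 0, 1, 2, 2, 3, 4, 4, 5, 5, 6], [0, 0, 1, 5, 6, 6], [1, 2, 3, 3, 4, 4, 5, 6, 6], [0, 1, 1, 2, 2, 4, 5, 6, 6], [0, 3, 5, 6, 6], [0, 1, 1, 3, 3, 5, 6, 6], [0, 0, 1, 2, 2, 3, 4, 5, 6, 6], [0, 0, 1, 1, 2, 3, 4, 4, 5, 6, 6], [0, 0, 2, 4, 4, 5, 6, 6], [0, 2, 2, 3, 3, 4, 5, 6, 6], [0, 0, 1, 5, 5, 6, 6], [0, 1, 1, 3, 3, 4, 4, 5, 5, 6, 6], [1, 2, 4, 5, 5, 6, 6], [2, 3, 4, 4, 5, 5, 6, 6], [3, 4, 5, 5, 6, 6], [1, 1, 2, 3, 3, 5, 5, 6, 6], [0, 0, 2, 2, 3, 5, 5, 6, 6], [0, 1, 1,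 2, 2, 3, 3, 4, 5, 5, 6, 6], [1, 2, 2, 4, 4, 5, 5, 6, 6], [0, 0, 1, 4, 5, 5], [0, 0, 1, 5, 5], [0, 0, 1, 3, 3, 4, 4, 5, 5], [0, 0, 1, 3, 4, 5, 5], [0, 0, 1, 3, 4, 4, 5, 5], [0, 0, 1, 3, 3, 5, 5], [0, 0, 1, 3, 5, 5], [0, 0, 1, 3, 3, 4, 5, 5], [0, 0, 1, 4, 4, 5, 5], [0, 2, 4, 6, 6], [0, 1, 2, 6, 6], [1, 3, 3, 4, 6, 6], [0, 1, 1, 3, 3, 6, 6], [0, 3, 3, 4, 4, 6, 6], [1, 1, 2, 2, 3, 4, 6, 6], [1, 1, 2, 4, 4, 6, 6], [0, 0, 2, 2, 3, 6, 6], [1, 2, 2, 3, 4, 4, 6, 6], [1, 1, 4, 5, 6, 6], [1, 1, 2, 3, 3, 5, 6, 6], [0, 0, 1, 2, 2, 3, 3, 4, 4, 5, 6, 6], [3, 3, 4, 5, 6, 6], [0, 1, 2, 5, 6, 6], [0, 2, 2, 4, 4, 5, 6, 6], [0, 1, 3, 4, 5, 6, 6], [2, 3, 5, 6, 6], [0, 1, 1, 2, 2, 3, 4, 4, 5, 6, 6], [0, 1, 3, 3, 4, 4, 5, 6, 6], [0, 0, 1, 1, 2, 4, 5, 6, 6], [1, 2, 2, 5, 6, 6], [1, 1, 3, 4, 4, 5, 6, 6],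 [0, 0, 1, 1, 2, 2, 3, 3, 5, 6, 6], [0, 0, 2, 3, 3, 4, 5, 6, 6], [4, 4, 5, 6, 6], [1, 2, 3, 4, 5, 6, 6], [0, 0, 2, 2, 3, 5, 6, 6], [0, 0, 3, 3, 4, 4, 5], [1, 2, 2, 5], [0, 1, 1, 4, 5], [0, 0, 2, 2, 3, 4, 4, 5], [0, 1, 2, 3, 3, 5], [0, 0, 2, 4, 4, 5], [0, 0, 1, 1, 2, 3, 4, 5], [0, 0, 1, 3, 5], [1, 1, 2, 2, 3, 3, 4, 5], [0, 0, 1, 2, 4, 5, 5, 6], [1, 2, 2, 5, 5, 6], [0, 2, 2, 3, 3, 4, 4, 5, 5, 6], [1, 1, 3, 5, 5, 6], [0, 3, 3, 4, 5, 5, 6], [0, 0, 2, 3, 3, 5, 5, 6], [0, 0, 1, 4, 4, 5, 5, 6], [0, 0, 1, 1, 2, 3, 4, 4, 5, 5, 6], [0, 0, 1, 1, 2, 2, 3, 4, 5, 5, 6], [0, 0, 1, 2, 2, 4, 5, 5, 6, 6], [0, 0, 1, 1, 2, 2, 3, 3, 5, 5, 6, 6], [1, 1, 2, 3, 3, 4, 4, 5, 5, 6, 6], [0, 0, 1, 4, 4, 5, 5, 6, 6], [0, 1, 2, 5, 5, 6, 6], [0, 0, 2, 3, 4, 5, 5, 6, 6], [1, 1, 3, 3, 4, 5, 5, 6, 6], [0, 3, 5, 5, 6,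 6], [0, 0, 2, 2, 3, 4, 4, 5, 5, 6, 6], [1, 1, 2, 2, 4, 4, 5], [1, 1, 3, 4, 4, 5], [0, 1, 3, 3, 4, 5], [1, 1, 2, 3, 3, 4, 4, 5], [1, 2, 2, 3, 4, 5], [0, 0, 2, 2, 3, 3, 5], [0, 0, 1, 2, 4, 5], [0, 5], [2, 3, 5]]

/-- Words of elements. -/
def elts3_9 : List (List ℕ) :=
  [[0, 1, 1, 5, 5, 6], [1, 1, 2, 2, 4, 5, 5, 6], [1, 2, 2, 3, 3, 5, 5, 6], [0, 0, 1, 3, 3, 4, 4, 5, 5, 6], [2, 2, 3, 4, 4, 5, 5, 6], [0, 0, 1, 2, 3, 3, 4, 5, 5, 6], [3, 4, 5, 5, 6], [0, 2, 3, 5, 5, 6], [1, 1, 2, 4, 4, 5, 5, 6], [0, 0, 2, 6], [1, 1, 2, 2, 4, 6], [1, 2, 3, 6], [1, 1, 2, 3, 3, 6], [0, 3, 3, 4, 4, 6], [0, 0, 1, 4, 4, 6], [0, 0, 1, 1, 3, 4, 4, 6], [1, 2, 2, 3, 3, 4, 6], [0, 0, 2, 2, 3, 4, 6], [0, 1, 2, 3, 4, 4], [0, 1, 2, 2, 4, 4], [0, 1, 1, 2, 2, 3, 4], [0, 1, 3, 3, 4, 4], [1, 1, 2, 3, 3, 4], [0, 3], [2],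 [0, 0, 2, 2, 3, 3], [0, 0, 1, 1, 4], [0, 0, 1, 2, 3, 4, 4, 5, 6], [0, 0, 2, 3, 4, 5, 6], [0, 1, 1, 3, 3, 4, 4, 5, 6], [0, 3, 3, 5, 6], [0, 0, 1, 3, 3, 4, 5, 6], [0, 0, 2, 2, 4, 4, 5, 6], [1, 1, 2, 3, 5, 6], [0, 1, 1, 2, 2, 4, 5, 6], [0, 1, 2, 2, 5, 6], [0, 2, 3, 4, 6, 6], [0, 1, 1, 2, 3, 4, 4, 6, 6], [0, 0, 1, 1, 6, 6], [0, 4, 4, 6, 6], [0, 1, 1, 2, 2, 3, 3, 4, 6, 6], [1, 2, 3, 6, 6], [0, 0, 1, 4, 6, 6], [0, 0, 1, 2, 2, 3, 3, 4, 4, 6, 6], [0, 0, 2, 2, 3, 3, 6, 6], [1, 2, 2, 3, 3, 4, 5, 6], [1, 3, 4, 4, 5, 6], [0, 0, 1, 2, 5, 6], [0, 0, 1, 1, 2, 4, 5, 6], [2, 4, 4, 5, 6], [3, 4, 5, 6], [0, 0, 1, 1, 2, 2, 3, 3, 4, 4, 5, 6], [0, 0, 2, 2, 3, 3, 5, 6], [0, 1, 1, 3, 5, 6], [0, 0, 2, 2, 4, 4, 6, 6], [0, 0, 1, 1, 2, 3, 3, 4, 6, 6], [0, 1, 3, 6, 6], [1, 1, 2, 2, 6, 6], [0, 0, 1, 1, 3, 4, 4,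 6, 6], [0, 0, 3, 4, 6, 6], [1, 2, 2, 4, 6, 6], [2, 3, 3, 6, 6], [1, 2, 3, 3, 4, 4, 6, 6], [0, 0, 1, 2, 2, 3, 3, 4, 6, 6], [0, 0, 1, 1, 2, 3, 4, 6, 6], [0, 0, 1, 2, 3, 4, 4, 6, 6], [4, 6, 6], [1, 1, 2, 2, 3, 3, 6, 6], [0, 0, 1, 1, 4, 4, 6, 6], [1, 6, 6], [2, 2, 3, 3, 4, 4, 6, 6], [0, 2, 3, 6, 6], [0, 0, 1, 1, 4, 4, 5, 6], [0, 0, 2, 3, 3, 4, 5, 6], [0, 0, 2, 2, 3, 4, 4, 5, 6], [0, 1, 2, 3, 3, 4, 4, 5, 6], [0, 0, 1, 1, 2, 2, 3, 4, 5, 6], [0, 5, 6], [0, 1, 4, 5, 6], [0, 1, 1, 2, 3, 3, 5, 6], [1, 2, 2, 3, 5, 6], [0, 0, 2, 3, 4, 4, 5, 5, 6], [0, 0, 1, 1, 4, 4, 5, 5, 6], [0, 0, 2, 2, 3, 4, 5, 5, 6], [1, 1, 2, 2, 5, 5, 6], [0, 1, 3, 3, 4, 5, 5, 6], [0, 0, 1, 2, 3, 3, 5, 5, 6], [3, 5, 5, 6], [0, 1, 2, 2, 3, 3, 4, 4, 5, 5, 6], [0, 0, 1, 1, 2, 4, 5, 5, 6], [2, 2, 3, 3, 4, 5, 5, 6], [0, 1, 1,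 3, 4, 4, 5, 5, 6], [2, 3, 3, 4, 4, 5, 5, 6], [0, 3, 3, 5, 5, 6], [0, 1, 2, 2, 4, 4, 5, 5, 6], [0, 1, 1, 2, 3, 4, 5, 5, 6], [0, 1, 4, 5, 5, 6], [0, 0, 1, 1, 2, 2, 3, 5, 5, 6], [0, 0, 1, 2, 5, 5, 6], [0, 0, 1, 1, 4, 4, 5, 5, 6, 6], [3, 3, 4, 5, 5, 6, 6], [0, 0, 1, 2, 3, 4, 5, 5, 6, 6], [0, 0, 2, 2, 3, 3, 5, 5, 6, 6], [0, 0, 1, 2, 2, 3, 4, 4, 5, 5, 6, 6], [0, 0, 1, 1, 2, 2, 4, 5, 5, 6, 6], [0, 1, 1, 2, 5, 5, 6, 6], [0, 1, 3, 5, 5, 6, 6], [2, 3, 3, 4, 4, 5, 5, 6, 6], [2, 3, 4, 5, 5], [2, 3, 3, 4, 5, 5], [2, 3, 4, 4, 5, 5], [2, 3, 3, 4, 4, 5, 5], [2, 4, 4, 5, 5], [2, 5, 5], [2, 3, 5, 5], [2, 3, 3, 5, 5], [2, 4, 5, 5], [0, 0, 1, 5, 5, 6], [3, 3, 4, 4, 5, 5, 6], [0, 1, 2, 2, 4, 5, 5, 6], [0, 1, 1, 2, 2, 3, 4, 4, 5, 5, 6], [0, 1, 1, 3, 4, 5, 5, 6], [0, 2, 2, 3, 3, 5, 5, 6], [0, 0, 1, 1, 2,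 3, 5, 5, 6], [2, 3, 3, 4, 5, 5, 6], [0, 1, 2, 4, 4, 5, 5, 6], [0, 0, 1, 2, 2, 3, 4, 6, 6], [0, 0, 2, 2, 3, 4, 4, 6, 6], [0, 0, 1, 2, 4, 4, 6, 6], [1, 1, 3, 3, 4, 4, 6, 6], [0, 0, 3, 3, 4, 6, 6], [0, 1, 1, 2, 2, 3, 6, 6], [1, 3, 3, 6, 6], [2, 6, 6], [1, 1, 2, 4, 6, 6], [0, 2, 2], [3, 3], [0, 0, 1, 2, 3, 3, 4, 4], [0, 0, 2, 3], [0, 0, 1, 1, 3, 4], [1, 1, 2, 4], [0, 0, 1, 2, 2, 3, 4, 4], [0, 0, 1, 4, 4], [0, 1, 1, 2, 2, 3, 3, 4], [0, 2, 2, 3, 3, 5, 6], [0, 1, 1, 2, 4, 5, 6], [0, 1, 1, 2, 2, 3, 3, 4, 4, 5, 6], [0, 0, 1, 2, 2, 3, 3, 4, 5, 6], [0, 1, 2, 5, 6], [0, 0, 1, 3, 4, 4, 5, 6], [0, 0, 3, 4, 5, 6], [1, 1, 3, 5, 6], [0, 0, 2, 4, 4, 5, 6], [0, 1, 1, 3, 3, 4, 4, 5, 5], [0, 1, 1, 4, 5, 5], [0, 1, 1, 3, 3, 5, 5], [0, 1, 1, 5, 5], [0, 1, 1, 3, 4, 4, 5, 5], [0, 1, 1, 3, 5, 5], [0, 1, 1,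 3, 3, 4, 5, 5], [0, 1, 1, 3, 4, 5, 5], [0, 1, 1, 4, 4, 5, 5], [0, 1, 1, 3, 3], [2, 3, 3, 4, 4], [0, 1, 2, 4], [0, 0, 1, 1, 2, 2], [0, 0, 1, 2, 2, 3, 3, 4], [1, 3, 4], [4, 4], [1, 1, 2, 3], [2, 2, 3, 4, 4], [1, 1, 2, 2, 4, 5, 6], [1, 1, 3, 3, 4, 4, 5, 6], [1, 2, 2, 5, 6], [0, 1, 2, 3, 4, 4, 5, 6], [3, 3, 5, 6], [0, 2, 2, 4, 4, 5, 6], [0, 0, 1, 1, 2, 3, 5, 6], [0, 2, 3, 4, 5, 6], [0, 1, 3, 3, 4, 5, 6], [0, 0, 1, 1, 2, 2, 3, 3, 4, 4, 5, 5, 6, 6], [0, 1, 4, 5, 5, 6, 6], [1, 2, 2, 5, 5, 6, 6], [0, 0, 1, 1, 2, 3, 3, 4, 5, 5, 6, 6], [2, 3, 5, 5, 6, 6], [0, 1, 1, 3, 3, 5, 5, 6, 6], [0, 1, 2, 4, 4, 5, 5, 6, 6], [0, 3, 4, 4, 5, 5, 6, 6], [0, 2, 2, 3, 4, 5, 5, 6, 6], [0, 4, 5, 6], [0, 1, 1, 5, 6], [0, 1, 2, 3, 3, 5, 6], [0, 2, 3, 3, 4, 4, 5, 6], [2, 2, 3, 5, 6], [0, 0, 1, 4, 4, 5, 6], [0, 0,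 1, 1, 2, 3, 3, 4, 5, 6], [0, 0, 1, 1, 2, 2, 3, 4, 4, 5, 6], [0, 0, 1, 2, 2, 3, 4, 5, 6], [0, 0, 1, 2, 3, 4, 4, 5, 5], [0, 0, 1, 2, 3, 3, 4, 5, 5]]

/-- Words of elements. -/
def elts3_10 : List (List ℕ) :=
  [[0, 0, 1, 2, 3, 3, 5, 5], [0, 0, 1, 2, 3, 3, 4, 4, 5, 5], [0, 0, 1, 2, 4, 4, 5, 5], [0, 0, 1, 2, 3, 4, 5, 5], [0, 0, 1, 2, 4, 5, 5], [0, 0, 1, 2, 5, 5], [0, 0, 1, 2, 3, 5, 5], [0, 0, 1, 1, 4, 4, 6], [0, 0, 3, 4, 4, 6], [0, 1, 3, 3, 4, 4, 6], [2, 3, 3, 6], [1, 1, 2, 2, 3, 3, 4, 6], [0, 0, 1, 2, 2, 3, 4, 6], [1, 1, 2, 3, 6], [2, 2, 4, 6], [0, 0, 1, 2, 6], [0, 0, 2, 5, 6, 6], [2, 2, 3, 3, 4, 4, 5, 6, 6], [0, 1, 2, 3, 3, 5, 6, 6], [0, 1, 1, 2, 3, 5, 6, 6], [0, 1, 4, 5, 6, 6], [0, 1, 1, 3, 3, 4, 5, 6, 6], [0, 0, 1, 1, 2, 2, 4, 4, 5, 6, 6], [0, 0, 3, 4, 5, 6, 6], [0, 0, 1, 2, 2, 3,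 4, 4, 5, 6, 6], [1, 1, 2, 3, 3, 4, 4, 5, 5, 6], [0, 1, 1, 3, 3, 5, 5, 6], [0, 0, 2, 5, 5, 6], [0, 2, 2, 4, 4, 5, 5, 6], [0, 0, 1, 2, 2, 3, 5, 5, 6], [0, 4, 5, 5, 6], [0, 1, 2, 3, 4, 5, 5, 6], [0, 1, 3, 4, 4, 5, 5, 6], [1, 1, 2, 2, 3, 3, 4, 5, 5, 6], [0, 0, 1, 1, 2, 2, 3, 3, 5, 6], [0, 0, 1, 2, 2, 3, 3, 4, 4, 5, 6], [0, 0, 2, 5, 6], [0, 1, 3, 5, 6], [0, 0, 1, 2, 4, 5, 6], [2, 2, 3, 3, 4, 5, 6], [1, 1, 3, 4, 5, 6], [1, 1, 2, 4, 4, 5, 6], [3, 4, 4, 5, 6], [0, 0, 1, 1, 2, 4, 5, 5, 6, 6], [0, 1, 1, 5, 5, 6, 6], [0, 0, 2, 3, 3, 5, 5, 6, 6], [3, 3, 4, 4, 5, 5, 6, 6], [0, 0, 1, 2, 3, 4, 4, 5, 5, 6, 6], [2, 2, 3, 3, 4, 5, 5, 6, 6], [0, 1, 2, 2, 3, 5, 5, 6, 6], [0, 0, 1, 3, 4, 5, 5, 6, 6], [0, 0, 1, 1, 2, 2, 4, 4, 5, 5, 6, 6], [0, 4, 4, 5, 5], [0, 3, 3, 4, 5, 5], [0, 3, 4, 4, 5, 5], [0, 4,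 5, 5], [0, 3, 5, 5], [0, 3, 3, 4, 4, 5, 5], [0, 5, 5], [0, 3, 4, 5, 5], [0, 3, 3, 5, 5], [0, 1, 2, 3, 4, 5], [0, 0, 1, 2, 2, 3, 3, 4, 5], [0, 1, 1, 2, 4, 4, 5], [0, 1, 1, 2, 2, 3, 4, 4, 5], [1, 4, 5], [0, 1, 1, 3, 3, 4, 4, 5], [2, 3, 3, 5], [0, 3, 5], [0, 0, 2, 2, 5], [1, 1, 2, 3, 4, 5, 6], [3, 3, 4, 5, 6], [1, 1, 2, 2, 4, 4, 5, 6], [2, 3, 4, 4, 5, 6], [0, 0, 1, 2, 2, 4, 5, 6], [0, 0, 1, 1, 3, 3, 5, 6], [0, 0, 1, 3, 3, 4, 4, 5, 6], [0, 0, 2, 2, 5, 6], [0, 1, 2, 3, 5, 6], [3, 4, 4, 5, 6, 6], [1, 4, 4, 5, 6, 6], [1, 1, 2, 3, 4, 5, 6, 6], [0, 0, 2, 2, 3, 3, 5, 6, 6], [1, 1, 2, 2, 5, 6, 6], [0, 1, 1, 3, 3, 4, 4, 5, 6, 6], [0, 0, 1, 2, 2, 3, 5, 6, 6], [0, 0, 1, 2, 3, 3, 4, 5, 6, 6], [0, 0, 2, 4, 5, 6, 6], [0, 0, 1, 1, 2, 3, 4, 4, 5, 5, 6, 6], [0, 0, 2, 2, 4, 4, 5, 5, 6, 6], [1, 2, 2, 3,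 3, 4, 5, 5, 6, 6], [0, 5, 5, 6, 6], [0, 1, 1, 2, 2, 3, 5, 5, 6, 6], [0, 0, 2, 4, 5, 5, 6, 6], [1, 3, 3, 4, 4, 5, 5, 6, 6], [0, 0, 1, 1, 3, 4, 5, 5, 6, 6], [0, 0, 1, 2, 3, 3, 5, 5, 6, 6], [2, 3, 4, 4, 6, 6], [2, 2, 3, 3, 4, 6, 6], [1, 2, 3, 4, 6, 6], [0, 6, 6], [0, 1, 1, 4, 6, 6], [0, 1, 1, 2, 2, 3, 3, 4, 4, 6, 6], [1, 4, 4, 6, 6], [0, 0, 1, 1, 2, 3, 6, 6], [0, 1, 2, 2, 3, 3, 6, 6], [0, 1, 1, 2, 3, 3, 4, 5, 6, 6], [0, 0, 2, 3, 4, 5, 6, 6], [0, 0, 1, 1, 4, 4, 5, 6, 6], [0, 0, 1, 3, 4, 4, 5, 6, 6], [0, 1, 2, 4, 5, 6, 6], [0, 1, 2, 2, 3, 3, 5, 6, 6], [3, 3, 4, 4, 5, 6, 6], [0, 1, 1, 2, 2, 3, 5, 6, 6], [0, 0, 2, 2, 5, 6, 6], [2, 4, 4, 5, 5, 6], [0, 0, 1, 1, 2, 3, 3, 4, 5, 5, 6], [1, 2, 2, 3, 4, 4, 5, 5, 6], [0, 5, 5, 6], [0, 0, 1, 1, 3, 3, 4, 4, 5, 5, 6], [0, 1, 2, 3, 5, 5, 6], [2, 2,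 4, 5, 5, 6], [1, 3, 4, 5, 5, 6], [1, 1, 2, 2, 3, 3, 5, 5, 6], [0, 1, 1, 2, 3, 3, 4, 4], [0, 0, 2, 4], [1, 2, 2], [0, 0, 1, 3, 3], [0, 1, 2, 3], [0, 1, 1, 2, 2, 3, 4, 4], [0, 1, 1, 4, 4], [2, 2, 3, 3, 4], [0, 3, 4], [0, 1, 1, 2, 2, 3, 4, 4, 6], [0, 0, 1, 2, 3, 3, 4, 6], [0, 2, 3, 4, 6], [0, 6], [0, 0, 1, 1, 2, 4, 6], [2, 2, 3, 3, 4, 4, 6], [0, 1, 2, 2, 4, 4, 6], [0, 0, 1, 3, 6], [0, 0, 1, 1, 3, 3, 6], [0, 0, 2, 3, 4, 5], [0, 0, 1, 2, 4, 4, 5], [0, 0, 1, 2, 2, 3, 4, 4, 5], [0, 0, 1, 1, 3, 5], [1, 1, 2, 2, 5], [0, 1, 1, 2, 3, 3, 5], [0, 0, 1, 3, 3, 4, 4, 5], [2, 2, 3, 3, 4, 5], [0, 4, 5], [0, 0, 1, 2, 3, 3, 4, 4, 6], [0, 2, 2, 3, 3, 6], [1, 2, 2, 6], [0, 4, 6], [0, 1, 1, 2, 2, 3, 6], [2, 3, 4, 4, 6], [0, 1, 1, 3, 3, 4, 6], [1, 3, 4, 6], [1, 1, 2, 4, 4, 6], [0, 1, 1, 2, 3, 4, 4, 5, 6],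 [0, 1, 2, 2, 4, 4, 5, 6], [0, 1, 2, 3, 4, 5, 6], [0, 0, 2, 3, 5, 6], [1, 1, 2, 2, 5, 6], [3, 3, 4, 4, 5, 6], [1, 3, 3, 5, 6], [0, 1, 1, 3, 3, 4, 5, 6], [2, 2, 4, 5, 6], [2, 3, 3, 4, 4, 6, 6], [1, 2, 2, 6, 6], [2, 2, 4, 6, 6], [1, 1, 2, 3, 3, 6, 6], [0, 0, 1, 3, 4, 4, 6, 6], [0, 3, 6, 6], [0, 0, 1, 1, 2, 2, 4, 4, 6, 6], [0, 0, 1, 2, 3, 3, 4, 6, 6], [0, 0, 1, 1, 3, 4, 6, 6], [0, 0, 1, 3, 4, 4], [0, 1, 1, 3, 3, 4], [0, 0, 1, 1, 2, 3, 4], [1, 1, 2, 2, 4], [0], [0, 0, 1, 2, 2, 3, 3, 4, 4], [0, 0, 1, 2, 4, 4], [0, 0, 2, 2, 3], [2, 3, 3]]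

/-- Words of the letters for the prime 3. -/
def letters3 : List (List ℕ) :=
  [[3, 5, 5, 1, 4, 0, 6, 0, 5, 3, 0, 6, 0, 6, 4, 2, 6, 2, 5, 2, 5, 3, 0, 5, 2, 5, 5, 0, 5, 3, 0, 4, 0, 0, 5, 1, 3, 1],
    [0, 4, 1, 4, 2, 4, 6, 0, 5, 2, 5, 5, 0, 2, 0, 5, 3, 5, 6, 2, 1, 6, 3, 5, 1, 2, 0, 5, 2, 0, 5, 2, 0, 2, 5, 0, 6, 1, 6, 1],
    [1, 5, 5, 2, 6, 1, 4, 3, 0, 4, 6, 3, 4, 2, 5, 2, 5, 3, 6, 3, 5, 6, 5, 0, 3, 4, 4, 0, 6, 2],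
    [4, 1, 1, 1, 3, 4, 2, 1, 2, 6, 1, 6, 1, 2, 6, 1, 4, 3, 1, 5, 5, 2, 0, 2, 5],
    [3, 1, 5, 0, 2, 6, 0, 4, 3, 6, 0, 6, 0, 4, 4, 0, 3, 5],
    [0, 0, 4, 4, 4, 6, 3, 6, 5, 3, 6, 3, 0, 6, 3, 6, 0, 6, 5, 5, 6, 1, 6, 5, 2, 5, 2, 2, 6, 3, 1, 1, 6, 0, 5, 5, 1, 4, 3, 4],
    [5, 1, 6, 5, 5, 2, 2, 6, 0, 2, 5, 3, 1, 1, 5, 1, 3, 5, 2, 0, 5, 5, 3, 0, 3],
    [2, 1, 6, 4, 2, 4, 3, 3, 1, 2, 4, 2, 5, 5, 6, 1, 5, 1, 1, 6, 3, 1, 5, 1, 5, 0, 5],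
    [1, 6, 0, 0, 2, 5, 0, 5, 2, 5, 5, 6, 0, 3, 3, 0, 0, 5, 0, 3, 0, 2, 4, 2, 0, 4, 6, 0, 4, 1, 4, 1, 6, 0, 5, 1, 2, 1],
    [0, 6, 3, 1, 6, 2, 0, 0, 3, 4, 1, 6, 3, 5, 5, 0, 6, 5, 1, 4, 1, 5, 3, 3, 0, 6, 4, 3, 3, 4, 6, 4, 1, 1, 2, 4, 1, 1, 6, 5, 1, 5],
    [6, 2, 1, 5, 6, 4, 2, 2, 0, 6, 4, 2, 5, 2, 4, 6, 2, 5, 1, 3, 0, 3, 1, 4, 4, 6, 0, 6, 2, 0, 0, 3, 5, 0, 6, 0, 5, 0, 6, 5, 1]]

/-- Their columns. -/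
def lcols3 : List (List ℕ) :=
  [[645854731822686152885469722835406383, 811845972019117669422065998638857647, 726256657009154370360131388351890929, 731443883420030789986086892028216945, 726256657168737300915600169228617197, 726251745017820995349303211557701105, 726251586406758184425193349458740721, 645854731822988384340373380129074735, 726256815465479398888661298175329905, 726413850790085332857965340534556145, 812008072834790873340307536631807535, 645854731822988089192468200776257071, 731606300998442526963118260625130989, 726251749814843365479059418173064689, 726251591363349317718385427417187953, 726413845688418378695916374849930737, 726251591358513614588409358983939565, 812008231141209100241131572351712815, 731443883265293007293278443907106289, 726418916285983583583766238218208753,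 731443883270123988349373535479186929, 726251586406753462054066284565939821, 806810858883255702852601243174944303, 812008231295951605296060169855811123],
    [686058308942945587080065942613869074, 771647465341836630475926823227636176, 686053238345375655214187924496536082, 691245376742749751039947716616995474, 686053079889201742273212240122954258, 686053238340540099514044859747484174, 686215344112804293911826165123334674, 686215502573965025579348413605429774, 766455168483452913963025797671832144, 686053079884214923267442773995377166, 691245535203910482698462499556639374, 686053079889050631301566020316512782, 771804649064660611873985275628112336, 686053079889050774115209543388971538, 766450097880905759870085061784652368, 686053238340691067663040640694305294, 686058150491456261969460993817395726,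 852206579512071912286446712043029006, 771642394739591698614526503863990736, 686053238340539956403164036146479634, 771809719666905829659927533314394576, 766617422808522122370671223497046608, 766612352205974663906462067763722832, 852206737973232644242199345267032594],
    [685972029553754296197483957053837908, 691326585689118337193914028933005776, 686134288675836282283865266461364692, 852125528872121553033304435447185872, 685972029403847499176960355734143568, 686134452083921467953920815787426384, 766531148366108891994690726367021582, 686134288830578934768345392404251216, 685977100156150486748611476567114192, 686139359278241917567949729163657808, 771728515827044484962371153349261842, 685972029553900689702713239531962960, 771723598729359559015255898893797902, 685972029399011938860909285341675984,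 685972192961839481867820981096563152, 686134288675992120521770017428619728, 766536218973496471588453395489835534, 691164326257541896553503386495369808, 771723445229630533868826761911286290, 766536372473225791882787436947257874, 771728669336445202590250191349565966, 686134288835414495084677938033476048, 766531301875509314474664859892398610, 852287788303697993673996553138356816],
    [769127373550076516972311476737427926, 688568096281396897262764278220931600, 602978944679514061509037746777774674, 688730518966311291828776772783653392, 688730355403483748821865076768719376, 683538217151180755821794478237762064, 769127373550076516972592951714138574, 688730360509981692975142273521500688, 769137514754878342807523450363070926, 688730360505150712207286079307858448, 688730518961470866039724738014167568,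 683538063496704213006106106131989008, 683538217156011736877881056916226576, 683538221953034106719415683472900624, 683375804369786666603673726071947792, 769127373550378748427215134031104462, 683375962830947255448545252226843152, 769127373550076516972311476737428174, 688568259534739725596236084603863568, 688568259529899300095414417656201744, 688568254737717346531338217553609232, 688730513854972931109810782291313168, 769127373550076516981318675992168910, 935285943625743029734989511847852626],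
    [769129827069863201929978523016511958, 688565642602032151838537420825508368, 683540675622727445874955608752867856, 688732972481257550997391784293251600, 683378416350733940406212298505927184, 769130143982513258987328897192313294, 683535605025162240707882568479492624, 683540675627563153620839957707438608, 683378416350729213427902677370096144, 688570713204433064751776284753349136, 769129827069863201929978523016512206, 688732972486093259031506234521373200, 683535605020321815207052105447197200, 602976491159727671699275879851508306, 769129836973383516213020722209505742, 769129827070165433384882180310188494, 688727901883697063864198030489635344, 688732972486097976786443819062737424, 688565642606867850361331207901760016, 688732972481262277975419930712427024, 688570713209264045519641000182106640,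 688727901883692346109541921185020432, 769129827379348211751323591741293006, 935283490105956344777322465568768594],
    [766777149259955323887152971035263504, 605653687523293681320979408500769296, 686050547063805882612081896968440270, 686055776122380560756958515111148110, 686055612709459814770570420415908434, 686050542112045578040723254041659986, 686050700568370753999095246841461330, 766452630706296897160378611107709456, 686050705515143944705009336980097490, 686050705515295203394727732715207246, 766452630706296897169377014269428240, 766452630706306341893335554305114640, 686055617666055679946210501296933454, 686055771165935963782357767726582222, 686055771170620551333505326406711762, 686055776122531819446676910577830354, 686050705519979790945593550130661970, 766452631015781906981714883739468304,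 686055776117695973205811222710602322, 686055771170771514875318551110502990, 686055617661371092395344417585117778, 686055617666206643488023726269151698, 776837224423366552417430807673127440, 937960686469522649546931173570593296],
    [686053159114795289528904987909308944, 686053159114795289240674611757597456, 686053159115097520695578269051273744, 686053159114795289240674611757859344, 686053159114795289240674612026032656, 686053159114795289240956086734307856, 686053159124466695797591645155246608, 686053159114795289240674611757597208, 686377677668453715967457767778173456, 686053159114795289240674611765985808, 686053159114795289249681811012338192, 686053159114795289240674886635504144, 686053169018315603523716810950590992, 686053159114795289240674611757605392, 686053159114795289240683407850619408,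 686053159114795584388579791110423056, 686053476027445346298024985933398544, 686053159424280299062019680482378256, 686063300319597115075886585383240208, 686053159114795289240674620347531792, 686053159114795298464046648612373008, 686053159114804733973640351048024592, 696437752831864944497735604416037392, 1018360158061024257466626376827683344],
    [688727983662688337459334954141432400, 688732895654026439159960901203348048, 769129908849010170652139374034567694, 683378498129729931746998141057579600, 683535686804158232048668677327243856, 683378334721640023714822717503523408, 769129908849010161429048812156502542, 688570794833522254464856236038375888, 688733049313333815601902848571816400, 688727820254607874151118079204608592, 769129908849010161428767337179791894, 683535686649411004920132065313769936,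 688732895808764221843762158668040656, 769129908858681567985684370577441294, 683540598950234116442103080840411600, 602976409380882648507485543629079058, 769129908849010456576672516532617742, 688570794988260036869434316597709392, 688565565774796313023078666194074192, 769129908849010161428776133272814094, 688733049158586588176128661160278608, 683540752300056483062699684606200400, 688565719434103689176789962533194192, 935283408326809385278533651405488658],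
    [726254047351764816172958316230067697, 731446497719695496100614011618969073, 731446502826202875763493706631988721, 726254205967663330524281547290822253, 645857187970826100704640352915078703, 645852117368425339828417048637656627, 726254201015907891137412300820432497, 812167875963626380203969767089421871, 726254200861014275111118958495254129, 645852117218518533584521410731621935, 726254201015903025664692811680171505, 726254205967516789589219261128754673, 731446497874291607650322122460870129, 726249135365267139973154036375860721, 645857187821075141633791126402547247, 811843357409967953486193810323586607, 731441268815716634357540050095818353, 731446497869607020099174563780740589, 726249130413506982831637467835778541, 645852275670012433627404700527152687, 726254042559582862608882116119348721,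 726254201011072192326669612569179761, 645852275670158827132352508028567091, 892569959765851593230114377516434929],
    [643339789784269186945843077341232751, 728934016780730152984209939217565229, 728928787722155479446515602439980593, 648369668909645045708641657565986419, 728934016780881420897300371539015089, 728928946183316059068015091740362289, 809330871369482197422025960418950639, 728928946178329244678435106232649137, 723741556514261260024625401190467121, 723574390047801054538779002733643313, 728766686901651147042354482076235313, 728934016785712254235323295772100145, 723736649319940810410869166697924145, 643177377003026213315566821686365679, 728928941231555906542679216577103281, 643177530507586362331734581643296239, 643339636279699588580520106072325619, 728928787726991035155665866444027437,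 648369668909645050315823938931379695, 728928946178475785613215917418268205, 728928941226720346226627871046682161, 728771757504052059955593346004076081, 809330871678967206955140652992019951, 895082445806337349573505404318041649],
    [766533678718042522341956221030384080, 766533678718042522341956221021995728, 686136823979534944468747651744479762, 776918272435112177599017213680435664, 766533678718042531565328257876771280, 685974564702705730965880828888431122, 685974564702549893015924979364612622, 686131753376982768249873590345353746, 686131753531876536322198212799187470, 685974564857443365931618698187590162, 685969494250211472250515118830991890, 766533995630692579399306595197796816, 685974564852461417014758201820138002, 685969494255047323098563362932869646, 686136823974699093620980882350885390,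 686131753372293605766729431922461202, 686136824129437023734615143499774478, 686131753531720698372523837983635986, 686136824134272579443483932526856722, 766533688621562836624998420214989264, 605572639511548056139393277371105872, 686136824129290630229394656846236178, 686136824134126185938544921118456334, 937879638457777024365344767563285072]]

/-- Vectors with a regular orbit. -/
def base3 : List ℕ := [809412082866681830224244024230331951, 771726136586229272002992754009850384]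

/-- Words of the elements of the Sylow 3-subgroup, by increasing keys. -/
def elts3 : List (List ℕ) :=
  elts3_0 ++ elts3_1 ++ elts3_2 ++ elts3_3 ++ elts3_4 ++ elts3_5 ++ elts3_6 ++ elts3_7 ++ elts3_8 ++ elts3_9 ++ elts3_10

/-- The certificate for the prime 3. -/
def cert3 : SchurPath.Cert where
  m := 7
  rels := [([0, 0, 0], []),
    ([1, 0], [0, 1]),
    ([1, 1, 1], []),
    ([2, 0], [0, 2]),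
    ([2, 1], [1, 2]),
    ([2, 2, 2], []),
    ([3, 0], [0, 3]),
    ([3, 1], [0, 0, 1, 3]),
    ([3, 2], [2, 3]),
    ([3, 3, 3], []),
    ([4, 0], [0, 4]),
    ([4, 1], [0, 1, 4]),
    ([4, 2], [0, 0, 2, 4]),
    ([4, 3], [3, 4]),
    ([4, 4, 4], []),
    ([5, 0], [0, 5]),
    ([5, 1], [1, 5]),
    ([5, 2], [2, 5]),
    ([5, 3], [0, 2, 2, 3, 5]),
    ([5, 4], [0, 0, 1, 1, 2, 2, 4, 5]),
    ([5, 5, 5], []),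
    ([6, 0], [0, 6]),
    ([6, 1], [1, 6]),
    ([6, 2], [2, 6]),
    ([6, 3], [1, 2, 3, 6]),
    ([6, 4], [0, 0, 2, 2, 4, 6]),
    ([6, 5], [5, 6]),
    ([6, 6, 6], []),
    ([7, 1], [0, 0, 4, 4, 7]),
    ([7, 2], [0, 3, 4, 4, 7]),
    ([7, 3], [1, 2, 2, 7]),
    ([7, 4], [0, 1, 7]),
    ([8, 1], [2, 3, 4, 8]),
    ([8, 2], [1, 1, 3, 3, 8]),
    ([8, 3], [0, 2, 2, 8]),
    ([8, 4], [1, 2, 8]),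
    ([9, 0], [0, 0, 1, 2, 5, 5, 9]),
    ([9, 1], [0, 0, 1, 1, 2, 9]),
    ([9, 2], [0, 1, 5, 5, 6, 6, 9]),
    ([9, 5], [0, 1, 1, 2, 5, 6, 6, 9]),
    ([9, 6], [0, 0, 2, 2, 5, 5, 6, 9]),
    ([10, 0], [0, 10]),
    ([10, 1], [0, 0, 1, 1, 10]),
    ([10, 2], [0, 2, 2, 10]),
    ([10, 3], [0, 2, 2, 3, 3, 10]),
    ([10, 4], [1, 1, 2, 2, 4, 4, 10]),
    ([10, 5], [0, 0, 1, 1, 2, 5, 10]),
    ([10, 6], [0, 1, 1, 6, 10])]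
  paths := [([6, 3, 2], [([], [2], 24, false),
      ([1, 2, 3], [], 23, false),
      ([1, 2], [6], 8, false),
      ([], [2, 3, 6], 4, true),
      ([2], [], 24, true),
      ([], [3], 23, true),
      ([6], [], 8, true)]),
    ([10, 2, 0], [([], [0], 43, false),
      ([0, 2, 2], [], 41, false),
      ([0, 2], [10], 3, false),
      ([0], [2, 10], 3, false),
      ([0], [], 43, true),
      ([], [2], 41, true),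
      ([10], [], 3, true)]),
    ([4, 3, 2], [([], [2], 13, false),
      ([3], [], 12, false),
      ([], [0, 2, 4], 6, false),
      ([0], [2, 4], 6, false),
      ([0, 0], [4], 8, false),
      ([0, 0, 2], [], 13, true),
      ([], [3], 12, true),
      ([4], [], 8, true)]),
    ([6, 3, 0], [([], [0], 24, false),
      ([1, 2, 3], [], 21, false),
      ([1, 2], [6], 6, false),
      ([1], [3, 6], 3, false),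
      ([], [2, 3, 6], 1, false),
      ([0], [], 24, true),
      ([], [3], 21, true),
      ([6], [], 6, true)]),
    ([4, 4, 4, 1], [([], [1], 14, false),
      ([], [1], 0, true),
      ([0, 0, 0, 1], [], 14, true),
      ([0, 0], [4, 4], 11, true),
      ([0], [1, 4, 4], 10, true),
      ([], [0, 1, 4, 4], 10, true),
      ([4, 0], [4], 11, true),
      ([4], [1, 4], 10, true),
      ([4, 4], [], 11, true)]),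
    ([7, 4, 4, 4], [([], [4, 4], 31, false),
      ([0, 1], [4], 31, false),
      ([0, 1, 0, 1], [], 31, false),
      ([0], [1, 0, 1, 7], 1, false),
      ([0, 0, 1], [1, 7], 1, false),
      ([0, 0], [1, 1, 7], 1, false),
      ([0, 0, 0], [7], 2, false),
      ([], [7], 0, false),
      ([7], [], 14, true)]),
    ([8, 4, 4, 4], [([], [4, 4], 35, false),
      ([1, 2], [4], 35, false),
      ([1, 2, 1, 2], [], 35, false),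
      ([1], [2, 1, 2, 8], 4, false),
      ([1, 1, 2], [2, 8], 4, false),
      ([1, 1], [2, 2, 8], 4, false),
      ([1, 1, 1], [8], 5, false),
      ([], [8], 2, false),
      ([8], [], 14, true)]),
    ([7, 4, 3], [([], [3], 31, false),
      ([0, 1], [], 30, false),
      ([], [1, 2, 2, 7], 1, true),
      ([1, 0], [2, 7], 4, true),
      ([1], [1, 2, 7], 3, true),
      ([1, 2, 0], [7], 4, true),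
      ([1, 2], [1, 7], 3, true),
      ([1, 2, 2], [], 31, true),
      ([], [4], 30, true),
      ([7], [], 13, true)]),
    ([4, 3, 1], [([], [1], 13, false),
      ([3], [], 11, false),
      ([], [1, 4], 6, false),
      ([0], [4], 7, false),
      ([], [1, 3, 4], 0, false),
      ([], [1, 3, 4], 0, true),
      ([0, 0, 0, 1], [], 13, true),
      ([0, 0], [3], 11, true),
      ([0], [1, 3], 10, true),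
      ([], [0, 1, 3], 10, true),
      ([4], [], 7, true)]),
    ([6, 3, 1], [([], [1], 24, false),
      ([1, 2, 3], [], 22, false),
      ([1, 2], [6], 7, false),
      ([1], [0, 1, 3, 6], 3, false),
      ([1, 0], [1, 3, 6], 3, false),
      ([1, 0, 0], [3, 6], 4, false),
      ([], [0, 1, 2, 3, 6], 1, false),
      ([0], [1, 2, 3, 6], 1, false),
      ([0, 0, 1], [], 24, true),
      ([0, 0], [3], 22, true),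
      ([0], [1, 3], 21, true),
      ([], [0, 1, 3], 21, true),
      ([6], [], 7, true)]),
    ([7, 3, 3, 3], [([], [3, 3], 30, false),
      ([1, 2, 2], [3], 30, false),
      ([1, 2, 2, 1, 2, 2], [], 30, false),
      ([1, 2], [2, 2, 1, 2, 2, 7], 4, false),
      ([1, 2, 1, 2, 2], [2, 2, 7], 4, false),
      ([1, 2, 1, 2, 2, 1], [7], 5, false),
      ([1, 2, 1, 2], [7], 4, false),
      ([1, 2, 1], [2, 7], 4, false),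
      ([1], [1, 2, 2, 7], 4, false),
      ([1, 1], [2, 2, 7], 4, false),
      ([1, 1, 1], [7], 5, false),
      ([], [7], 2, false),
      ([7], [], 9, true)]),
    ([8, 3, 3, 3], [([], [3, 3], 34, false),
      ([0, 2, 2], [3], 34, false),
      ([0, 2, 2, 0, 2, 2], [], 34, false),
      ([0, 2], [2, 2, 0, 2, 2, 8], 3, false),
      ([0, 2, 0, 2, 2], [2, 2, 8], 3, false),
      ([0, 2, 0, 2, 2, 0], [8], 5, false),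
      ([0, 2, 0, 2], [8], 3, false),
      ([0, 2, 0], [2, 8], 3, false),
      ([0], [0, 2, 2, 8], 3, false),
      ([0, 0], [2, 2, 8], 3, false),
      ([0, 0, 0], [8], 5, false),
      ([], [8], 0, false),
      ([8], [], 9, true)]),
    ([10, 6, 2], [([], [2], 47, false),
      ([0, 1, 1, 6], [], 43, false),
      ([0, 1, 1], [2, 2, 10], 21, false),
      ([0, 1, 1, 0], [2, 10], 23, false),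
      ([0, 1, 1, 0, 2], [10], 23, false),
      ([0, 1], [2, 2, 6, 10], 1, false),
      ([0], [1, 2, 2, 6, 10], 1, false),
      ([0, 0, 1], [2, 6, 10], 4, true),
      ([0, 0], [1, 2, 6, 10], 4, true),
      ([0], [1, 1, 2, 6, 10], 3, true),
      ([0, 2, 0, 1], [6, 10], 4, true),
      ([0, 2, 0], [1, 6, 10], 4, true),
      ([0, 2], [1, 1, 6, 10], 3, true),
      ([0, 2, 2], [], 47, true),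
      ([], [6], 43, true),
      ([10], [], 23, true)]),
    ([5, 3, 1], [([], [1], 18, false),
      ([0, 2, 2, 3], [], 16, false),
      ([0, 2, 2], [5], 7, false),
      ([0, 2], [0, 1, 3, 5], 3, false),
      ([0, 2, 0], [1, 3, 5], 3, false),
      ([0, 2, 0, 0], [3, 5], 4, false),
      ([0], [0, 1, 2, 3, 5], 3, false),
      ([0, 0], [1, 2, 3, 5], 3, false),
      ([0, 0, 0], [2, 3, 5], 4, false),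
      ([], [1, 2, 2, 3, 5], 0, false),
      ([], [1, 2, 2, 3, 5], 0, true),
      ([0, 0], [2, 2, 3, 5], 1, true),
      ([0, 0, 1], [], 18, true),
      ([0, 0], [3], 16, true),
      ([0], [1, 3], 15, true),
      ([], [0, 1, 3], 15, true),
      ([5], [], 7, true)]),
    ([6, 5, 3], [([], [3], 26, false),
      ([5], [], 24, false),
      ([], [2, 3, 6], 16, false),
      ([1], [3, 6], 17, false),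
      ([1, 2], [6], 18, false),
      ([1], [2, 2, 3, 5, 6], 3, false),
      ([1, 0], [3, 5, 6], 5, false),
      ([], [3, 5, 6], 1, false),
      ([0, 1], [3, 5, 6], 5, true),
      ([0], [2, 2, 3, 5, 6], 4, true),
      ([0, 2], [2, 3, 5, 6], 4, true),
      ([0, 2, 2, 1, 2, 3], [], 26, true),
      ([0, 2, 2], [5], 24, true),
      ([0, 2], [3, 5], 23, true),
      ([0], [2, 3, 5], 23, true),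
      ([], [2, 2, 3, 5], 21, true),
      ([6], [], 18, true)]),
    ([8, 3, 2], [([], [2], 34, false),
      ([0, 2, 2], [], 33, false),
      ([0, 2], [1, 3, 3, 8], 4, false),
      ([0, 2, 1], [3, 3, 8], 4, false),
      ([0], [1, 2, 3, 3, 8], 4, false),
      ([0, 1], [2, 3, 3, 8], 4, false),
      ([], [1, 2, 2, 3, 3, 8], 1, true),
      ([1], [2, 2, 3, 3, 8], 1, true),
      ([1, 1, 0, 2], [3, 8], 8, true),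
      ([1, 1, 0], [2, 3, 8], 8, true),
      ([1, 1], [2, 2, 3, 8], 6, true),
      ([1, 1, 3, 0, 2], [8], 8, true),
      ([1, 1, 3, 0], [2, 8], 8, true),
      ([1, 1, 3], [2, 2, 8], 6, true),
      ([1, 1, 3, 3], [], 34, true),
      ([], [3], 33, true),
      ([8], [], 8, true)]),
    ([10, 6, 1], [([], [1], 47, false),
      ([0, 1, 1, 6], [], 42, false),
      ([0, 1, 1], [0, 1, 1, 10], 21, false),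
      ([0, 1, 1, 0], [1, 1, 10], 21, false),
      ([0, 1, 1, 0, 0], [1, 10], 22, false),
      ([0, 1, 1, 0, 0, 1], [10], 22, false),
      ([0, 1], [0, 1, 1, 6, 10], 1, false),
      ([0, 1, 0], [1, 1, 6, 10], 1, false),
      ([0, 1, 0, 0], [6, 10], 2, false),
      ([0], [0, 6, 10], 1, false),
      ([0, 0], [6, 10], 1, false),
      ([], [1, 6, 10], 0, false),
      ([], [1, 6, 10], 0, true),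
      ([0, 0], [6, 10], 1, true),
      ([0, 0, 1, 0], [6, 10], 2, true),
      ([0, 0, 1], [1, 1, 6, 10], 1, true),
      ([0, 0, 1, 1], [], 47, true),
      ([], [6], 42, true),
      ([10], [], 22, true)]),
    ([6, 4, 3], [([], [3], 25, false),
      ([0, 0, 2, 2, 4], [], 24, false),
      ([0, 0, 2, 2], [2, 3, 6], 11, false),
      ([0, 0, 2, 2, 0, 1], [3, 6], 12, false),
      ([0, 0, 2, 2, 0, 1, 0, 0, 2], [6], 13, false),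
      ([0, 0, 2, 2, 0], [0, 2, 3, 4, 6], 1, false),
      ([0, 0, 2, 2, 0, 0], [2, 3, 4, 6], 1, false),
      ([0, 0, 2, 2], [1, 2, 3, 4, 6], 0, false),
      ([0, 0, 2], [2, 3, 4, 6], 4, false),
      ([0, 0], [2, 2, 3, 4, 6], 4, false),
      ([0, 0, 1], [3, 4, 6], 5, false),
      ([0], [3, 4, 6], 1, true),
      ([], [0, 3, 4, 6], 1, true),
      ([1, 0, 0], [3, 4, 6], 5, true),
      ([1, 0], [2, 2, 3, 4, 6], 3, true),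
      ([1], [0, 2, 2, 3, 4, 6], 3, true),
      ([1, 2, 0, 0, 2], [4, 6], 8, true),
      ([1, 2, 0, 0], [2, 4, 6], 8, true),
      ([1, 2, 0], [2, 2, 4, 6], 6, true),
      ([1, 2], [0, 2, 2, 4, 6], 6, true),
      ([1, 2, 3], [], 25, true),
      ([], [4], 24, true),
      ([6], [], 13, true)]),
    ([10, 5, 2], [([], [2], 46, false),
      ([0, 0, 1, 1, 2, 5], [], 43, false),
      ([0, 0, 1, 1, 2], [2, 2, 10], 15, false),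
      ([0, 0, 1, 1, 2, 0], [2, 10], 17, false),
      ([0, 0, 1, 1, 2, 0, 2], [10], 17, false),
      ([0, 0, 1, 1], [2, 2, 5, 10], 3, false),
      ([0, 0, 1, 1, 0], [5, 10], 5, false),
      ([0, 0, 1], [5, 10], 1, false),
      ([0, 0], [1, 5, 10], 1, false),
      ([], [1, 1, 5, 10], 0, false),
      ([], [1, 1, 5, 10], 0, true),
      ([0, 0, 0, 1, 1], [5, 10], 5, true),
      ([0, 0, 0, 1], [2, 2, 5, 10], 4, true),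
      ([0, 0, 0], [1, 2, 2, 5, 10], 4, true),
      ([0, 0], [1, 1, 2, 2, 5, 10], 3, true),
      ([0], [0, 1, 1, 2, 2, 5, 10], 3, true),
      ([0, 2, 0, 0, 1], [2, 5, 10], 4, true),
      ([0, 2, 0, 0], [1, 2, 5, 10], 4, true),
      ([0, 2, 0], [1, 1, 2, 5, 10], 3, true),
      ([0, 2], [0, 1, 1, 2, 5, 10], 3, true),
      ([0, 2, 2], [], 46, true),
      ([], [5], 43, true),
      ([10], [], 17, true)]),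
    ([8, 2, 1], [([], [1], 33, false),
      ([1, 1, 3, 3], [], 32, false),
      ([1, 1, 3], [3, 4, 8], 8, false),
      ([1, 1], [3, 3, 4, 8], 8, false),
      ([1, 1, 2], [4, 8], 9, false),
      ([1], [4, 8], 4, true),
      ([], [1, 4, 8], 4, true),
      ([2], [1, 1, 4, 8], 0, true),
      ([2, 0, 0, 0], [1, 1, 4, 8], 0, true),
      ([2, 0, 0, 0, 0, 0], [1, 4, 8], 1, true),
      ([2, 0, 0, 0, 0], [0, 1, 4, 8], 1, true),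
      ([2, 0, 0, 0, 0, 1, 0, 0, 1], [4, 8], 9, true),
      ([2, 0, 0, 0, 0, 1], [3, 3, 4, 8], 7, true),
      ([2, 0, 0], [1, 3, 3, 4, 8], 7, true),
      ([2, 0], [1, 1, 3, 3, 4, 8], 6, true),
      ([2], [0, 1, 1, 3, 3, 4, 8], 6, true),
      ([2, 3, 0], [1, 3, 3, 4, 8], 1, true),
      ([2, 3, 0, 1, 0, 1, 3], [8], 13, true),
      ([2, 3, 0, 1, 0, 1], [3, 8], 13, true),
      ([2, 3, 0, 1], [3, 3, 8], 11, true),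
      ([2, 3], [1, 3, 3, 8], 11, true),
      ([2, 3, 4], [], 33, true),
      ([], [2], 32, true),
      ([8], [], 4, true)]),
    ([10, 4, 1], [([], [1], 45, false),
      ([1, 1, 2, 2, 4, 4], [], 42, false),
      ([1, 1, 2, 2, 4], [0, 1, 1, 10], 10, false),
      ([1, 1, 2, 2, 4, 0], [1, 1, 10], 10, false),
      ([1, 1, 2, 2, 4, 0, 0], [1, 10], 11, false),
      ([1, 1, 2, 2, 4, 0, 0, 0, 1], [10], 11, false),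
      ([1, 1, 2, 2, 4, 0, 0, 0], [1, 4, 10], 1, false),
      ([1, 1, 2, 2, 4, 0], [1, 1, 4, 10], 0, false),
      ([1, 1, 2, 2], [1, 1, 4, 10], 10, false),
      ([1, 1, 2, 2, 0], [1, 4, 10], 11, false),
      ([1, 1, 2, 2, 0, 0, 1], [4, 10], 11, false),
      ([1, 1, 2, 2, 0, 0], [1, 4, 4, 10], 1, false),
      ([1, 1, 2, 2], [1, 1, 4, 4, 10], 0, false),
      ([1, 1, 2], [1, 4, 4, 10], 4, false),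
      ([1, 1, 2, 1], [4, 4, 10], 4, false),
      ([1, 1], [1, 2, 4, 4, 10], 4, false),
      ([1, 1, 1], [2, 4, 4, 10], 4, false),
      ([1], [2, 2, 4, 4, 10], 2, false),
      ([1], [2, 2, 4, 4, 10], 2, true),
      ([], [1, 1, 1, 1, 2, 2, 4, 4, 10], 0, true),
      ([0, 0, 0, 1, 1], [], 45, true),
      ([0], [4], 42, true),
      ([], [1, 4], 41, true),
      ([10], [], 11, true)]),
    ([9, 0, 0, 1, 0], [([], [0, 1, 0], 36, false),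
      ([0, 0, 1, 2, 5, 5], [1, 0], 36, false),
      ([0, 0, 1, 2, 5, 5, 0, 0, 1, 2, 5, 5], [0], 37, false),
      ([0, 0, 1, 2, 5, 5, 0, 0, 1, 2, 5, 5, 0, 0, 1, 1, 2], [], 36, false),
      ([0, 0, 1, 2, 5], [0, 1, 2, 5, 5, 0, 0, 1, 1, 2, 0, 0, 1, 2, 5, 5, 9], 15, false),
      ([0, 0, 1, 2, 5, 0, 5, 0, 1, 2, 5, 5, 0, 0, 1, 1], [0, 1, 2, 5, 5, 9], 3, false),
      ([0, 0, 1, 2, 5, 0, 5, 0, 1, 2, 5, 5, 0, 0, 1, 1, 0], [1, 2, 5, 5, 9], 3, false),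
      ([0, 0, 1, 2, 5, 0, 5, 0, 1, 2, 5, 5, 0, 0, 1, 1, 0, 0], [2, 5, 5, 9], 4, false),
      ([0, 0, 1, 2, 5, 0, 5, 0, 1, 2, 5, 5, 0, 0, 1], [0, 1, 2, 2, 5, 5, 9], 1, false),
      ([0, 0, 1, 2, 5, 0, 5, 0, 1, 2, 5, 5, 0, 0, 1, 0], [1, 2, 2, 5, 5, 9], 1, false),
      ([0, 0, 1, 2, 5, 0, 5, 0, 1, 2, 5, 5, 0, 0], [0, 1, 1, 2, 2, 5, 5, 9], 1, false),
      ([0, 0, 1, 2, 5, 0, 5, 0, 1, 2, 5, 5, 0, 0, 0], [1, 1, 2, 2, 5, 5, 9], 1, false),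
      ([0, 0, 1, 2, 5, 0, 5, 0, 1, 2, 5, 5, 0, 0, 0, 0], [2, 2, 5, 5, 9], 2, false),
      ([0, 0, 1, 2, 5, 0, 5, 0, 1, 2, 5, 5, 0], [2, 2, 5, 5, 9], 0, false),
      ([0, 0, 1, 2, 5, 0, 5, 0, 1, 2, 5], [2, 2, 5, 5, 9], 15, false),
      ([0, 0, 1, 2, 5, 0, 5, 0, 1, 2, 5, 0], [2, 5, 5, 9], 17, false),
      ([0, 0, 1, 2, 5, 0, 5, 0, 1, 2, 5, 0, 2], [5, 5, 9], 17, false),
      ([0, 0, 1, 2, 5, 0, 5, 0, 1, 2, 5, 0, 2, 2], [9], 20, false),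
      ([0, 0, 1, 2, 5, 0, 5, 0, 1, 2], [2, 2, 9], 15, false),
      ([0, 0, 1, 2, 5, 0, 5, 0, 1, 2, 0], [2, 9], 17, false),
      ([0, 0, 1, 2, 5, 0, 5, 0, 1, 2, 0, 2], [9], 17, false),
      ([0, 0, 1, 2, 5, 0, 5, 0, 1], [2, 2, 5, 9], 3, false),
      ([0, 0, 1, 2, 5, 0, 5, 0, 1, 0], [5, 9], 5, false),
      ([0, 0, 1, 2, 5, 0, 5, 0], [5, 9], 1, false),
      ([0, 0, 1, 2, 5, 0], [0, 1, 5, 9], 15, false),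
      ([0, 0, 1, 2, 5, 0, 0], [1, 5, 9], 15, false),
      ([0, 0, 1, 2, 5, 0, 0, 0], [5, 9], 16, false),
      ([0, 0, 1, 2, 5], [1, 5, 5, 9], 0, false),
      ([0, 0, 1, 2], [5, 5, 9], 16, false),
      ([0, 0, 1, 2, 1], [9], 20, false),
      ([0, 0, 1], [9], 4, false),
      ([], [], 37, true),
      ([9], [1], 0, true),
      ([9, 0, 0], [], 1, true)]),
    ([9, 2, 0], [([], [0], 38, false),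
      ([0, 1, 5, 5, 6, 6], [], 36, false),
      ([0, 1, 5, 5, 6], [0, 1, 2, 5, 5, 9], 21, false),
      ([0, 1, 5, 5, 6, 0], [1, 2, 5, 5, 9], 21, false),
      ([0, 1, 5, 5, 6, 0, 0], [2, 5, 5, 9], 22, false),
      ([0, 1, 5, 5, 6, 0, 0, 1], [5, 5, 9], 23, false),
      ([0, 1, 5, 5, 6, 0, 0, 1, 2], [5, 9], 26, false),
      ([0, 1, 5, 5, 6, 0, 0, 1, 2, 5], [9], 26, false),
      ([0, 1, 5, 5], [0, 1, 2, 5, 5, 6, 9], 21, false),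
      ([0, 1, 5, 5, 0], [1, 2, 5, 5, 6, 9], 21, false),
      ([0, 1, 5, 5, 0, 0], [2, 5, 5, 6, 9], 22, false),
      ([0, 1, 5, 5, 0, 0, 1], [5, 5, 6, 9], 23, false),
      ([0, 1, 5, 5, 0, 0, 1, 2], [5, 6, 9], 26, false),
      ([0, 1, 5, 5, 0, 0, 1, 2, 5], [6, 9], 26, false),
      ([0, 1, 5], [0, 1, 2, 5, 5, 6, 6, 9], 15, false),
      ([0, 1, 5, 0], [1, 2, 5, 5, 6, 6, 9], 15, false),
      ([0, 1, 5, 0, 0], [2, 5, 5, 6, 6, 9], 16, false),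
      ([0, 1, 5, 0, 0, 1], [5, 5, 6, 6, 9], 17, false),
      ([0, 1, 5, 0, 0, 1, 2], [6, 6, 9], 20, false),
      ([0, 1], [0, 1, 2, 6, 6, 9], 15, false),
      ([0, 1, 0], [1, 2, 6, 6, 9], 15, false),
      ([0, 1, 0, 0], [2, 6, 6, 9], 16, false),
      ([0, 1, 0, 0, 1], [6, 6, 9], 17, false),
      ([0], [0, 1, 2, 5, 6, 6, 9], 1, false),
      ([0, 0], [1, 2, 5, 6, 6, 9], 1, false),
      ([], [1, 1, 2, 5, 6, 6, 9], 0, false),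
      ([], [1, 1, 2, 5, 6, 6, 9], 0, true),
      ([0, 0], [1, 2, 5, 6, 6, 9], 1, true),
      ([0, 0, 1, 0], [5, 6, 6, 9], 4, true),
      ([0, 0, 1], [1, 5, 6, 6, 9], 3, true),
      ([0, 0, 1, 2, 0], [6, 6, 9], 16, true),
      ([0, 0, 1, 2], [1, 6, 6, 9], 15, true),
      ([0, 0, 1, 2, 5, 0, 1], [6, 6, 9], 20, true),
      ([0, 0, 1, 2, 5, 0], [5, 5, 6, 6, 9], 16, true),
      ([0, 0, 1, 2, 5], [1, 5, 5, 6, 6, 9], 15, true),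
      ([0, 0, 1, 2, 5, 5], [], 38, true),
      ([], [2], 36, true),
      ([9], [], 3, true)]),
    ([9, 2, 2, 2], [([], [2, 2], 38, false),
      ([0, 1, 5, 5, 6, 6], [2], 38, false),
      ([0, 1, 5, 5, 6, 6, 0, 1, 5, 5, 6, 6], [], 38, false),
      ([0, 1, 5, 5, 6], [1, 5, 5, 6, 6, 0, 1, 5, 5, 6, 6, 9], 21, false),
      ([0, 1, 5, 5, 6, 0, 6, 1, 5, 5, 6], [1, 5, 5, 6, 6, 9], 21, false),
      ([0, 1, 5, 5, 6, 0, 6, 1, 5, 5, 6, 0], [5, 5, 6, 6, 9], 22, false),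
      ([0, 1, 5, 5, 6, 0, 6, 1, 5, 5, 6, 0, 1], [5, 6, 6, 9], 26, false),
      ([0, 1, 5, 5, 6, 0, 6, 1, 5, 5, 6, 0, 1, 5], [6, 6, 9], 26, false),
      ([0, 1, 5, 5, 6, 0, 6, 1, 5, 5, 6, 0, 1, 5, 5], [9], 27, false),
      ([0, 1, 5, 5, 6, 0, 6, 1, 5, 5], [1, 5, 5, 9], 21, false),
      ([0, 1, 5, 5, 6, 0, 6, 1, 5, 5, 0], [5, 5, 9], 22, false),
      ([0, 1, 5, 5, 6, 0, 6, 1, 5, 5, 0, 1], [5, 9], 26, false),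
      ([0, 1, 5, 5, 6, 0, 6, 1, 5, 5, 0, 1, 5], [9], 26, false),
      ([0, 1, 5, 5, 6, 0, 6, 1, 5], [1, 5, 5, 6, 9], 15, false),
      ([0, 1, 5, 5, 6, 0, 6, 1, 5, 0], [5, 5, 6, 9], 16, false),
      ([0, 1, 5, 5, 6, 0, 6, 1, 5, 0, 1], [6, 9], 20, false),
      ([0, 1, 5, 5, 6, 0, 6, 1], [1, 6, 9], 15, false),
      ([0, 1, 5, 5, 6, 0, 6, 1, 0], [6, 9], 16, false),
      ([0, 1, 5, 5, 6, 0, 6], [1, 5, 6, 9], 1, false),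
      ([0, 1, 5, 5, 6, 0], [1, 1, 5, 6, 9], 21, false),
      ([0, 1, 5, 5, 6, 0, 0], [1, 5, 6, 9], 22, false),
      ([0, 1, 5, 5, 6, 0, 0, 1], [5, 6, 9], 22, false),
      ([0, 1, 5, 5, 6, 0, 0, 1, 1], [6, 9], 26, false),
      ([0, 1, 5, 5], [0, 1, 1, 5, 6, 6, 9], 21, false),
      ([0, 1, 5, 5, 0], [1, 1, 5, 6, 6, 9], 21, false),
      ([0, 1, 5, 5, 0, 0], [1, 5, 6, 6, 9], 22, false),
      ([0, 1, 5, 5, 0, 0, 1], [5, 6, 6, 9], 22, false),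
      ([0, 1, 5, 5, 0, 0, 1, 1], [6, 6, 9], 26, false),
      ([0, 1, 5, 5, 0, 0, 1, 1, 5], [9], 27, false),
      ([0, 1, 5], [0, 1, 1, 5, 9], 15, false),
      ([0, 1, 5, 0], [1, 1, 5, 9], 15, false),
      ([0, 1, 5, 0, 0], [1, 5, 9], 16, false),
      ([0, 1, 5, 0, 0, 1], [5, 9], 16, false),
      ([0, 1], [0, 1, 1, 5, 5, 9], 15, false),
      ([0, 1, 0], [1, 1, 5, 5, 9], 15, false),
      ([0, 1, 0, 0], [1, 5, 5, 9], 16, false),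
      ([0, 1, 0, 0, 1], [5, 5, 9], 16, false),
      ([0, 1, 0, 0, 1, 1], [9], 20, false),
      ([0], [0, 1, 1, 9], 1, false),
      ([0, 0], [1, 1, 9], 1, false),
      ([0, 0, 0], [9], 2, false),
      ([], [9], 0, false),
      ([9], [], 5, true)]),
    ([10, 6, 3], path3_24_0 ++ path3_24_1),
    ([10, 5, 3], path3_25_0 ++ path3_25_1),
    ([10, 6, 4], path3_26_0 ++ path3_26_1),
    ([10, 5, 4], path3_27_0 ++ path3_27_1)]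
  rows := [[0, 0, 0, 0, 2, 0, 0, 0, 0, 0, 0, 0, 0, 0, 0, 0, 0, 0, 0, 0, 0, 0, 0, 0, 0, 0, 0, 0, 0, 0, 0, 0, 0, 0, 0, 0, 0, 0, 0, 0, 0, 0, 0, 0, 0, 0, 0, 0],
    [0, 0, 0, 1, 0, 0, 0, 0, 0, 0, 0, 0, 0, 0, 0, 0, 0, 0, 0, 0, 0, 0, 0, 0, 0, 0, 0, 0, 0, 0, 0, 0, 0, 0, 0, 0, 0, 0, 0, 0, 0, 0, 0, 0, 0, 0, 0, 0],
    [0, 0, 0, 0, 0, 0, 2, 0, 0, 0, 0, 0, 0, 0, 0, 0, 0, 0, 0, 0, 0, 0, 0, 0, 0, 0, 0, 0, 0, 0, 0, 0, 0, 0, 0, 0, 0, 0, 0, 0, 0, 0, 0, 0, 0, 0, 0, 0],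
    [0, 1, 0, 1, 0, 0, 0, 0, 0, 0, 0, 0, 0, 0, 0, 0, 0, 0, 0, 0, 0, 0, 0, 0, 0, 0, 0, 0, 0, 0, 0, 0, 0, 0, 0, 0, 0, 0, 0, 0, 0, 0, 0, 0, 0, 0, 0, 0],
    [2, 0, 0, 0, 0, 0, 0, 0, 0, 0, 0, 0, 0, 0, 0, 0, 0, 0, 0, 0, 0, 0, 0, 0, 0, 0, 0, 0, 0, 0, 0, 0, 0, 0, 0, 0, 0, 0, 0, 0, 0, 0, 0, 0, 0, 0, 0, 0],
    [1, 0, 1, 0, 0, 0, 0, 0, 0, 0, 0, 0, 0, 0, 2, 0, 0, 0, 0, 0, 0, 0, 0, 0, 0, 0, 0, 0, 0, 0, 0, 0, 0, 0, 0, 0, 0, 0, 0, 0, 0, 0, 0, 0, 0, 0, 0, 0],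
    [0, 0, 1, 0, 0, 1, 0, 0, 0, 0, 0, 0, 0, 0, 2, 0, 0, 0, 0, 0, 0, 0, 0, 0, 0, 0, 0, 0, 0, 0, 0, 0, 0, 0, 0, 0, 0, 0, 0, 0, 0, 0, 0, 0, 0, 0, 0, 0],
    [0, 2, 0, 1, 1, 0, 0, 0, 0, 0, 0, 0, 0, 2, 0, 0, 0, 0, 0, 0, 0, 0, 0, 0, 0, 0, 0, 0, 0, 0, 0, 0, 0, 0, 0, 0, 0, 0, 0, 0, 0, 0, 0, 0, 0, 0, 0, 0],
    [0, 0, 0, 0, 0, 0, 1, 0, 0, 0, 1, 0, 0, 0, 0, 0, 0, 0, 0, 0, 0, 0, 0, 0, 0, 0, 0, 0, 0, 0, 0, 0, 0, 0, 0, 0, 0, 0, 0, 0, 0, 0, 0, 0, 0, 0, 0, 0],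
    [0, 2, 0, 2, 1, 0, 0, 0, 0, 0, 0, 0, 0, 0, 0, 0, 0, 0, 0, 0, 0, 1, 0, 0, 0, 0, 0, 0, 0, 0, 0, 0, 0, 0, 0, 0, 0, 0, 0, 0, 0, 0, 0, 0, 0, 0, 0, 0],
    [0, 0, 1, 0, 0, 2, 0, 0, 0, 2, 0, 0, 0, 0, 0, 0, 0, 0, 0, 0, 0, 0, 0, 0, 0, 0, 0, 0, 0, 0, 0, 0, 0, 0, 0, 0, 0, 0, 0, 0, 0, 0, 0, 0, 0, 0, 0, 0],
    [1, 0, 0, 0, 0, 2, 0, 0, 0, 2, 0, 0, 0, 0, 0, 0, 0, 0, 0, 0, 0, 0, 0, 0, 0, 0, 0, 0, 0, 0, 0, 0, 0, 0, 0, 0, 0, 0, 0, 0, 0, 0, 0, 0, 0, 0, 0, 0],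
    [0, 2, 0, 1, 2, 0, 0, 0, 0, 0, 0, 0, 0, 0, 0, 0, 0, 0, 0, 0, 0, 1, 0, 1, 0, 0, 0, 0, 0, 0, 0, 0, 0, 0, 0, 0, 0, 0, 0, 0, 0, 0, 0, 0, 0, 0, 0, 0],
    [0, 2, 0, 1, 2, 0, 0, 0, 0, 0, 0, 0, 0, 0, 0, 1, 0, 0, 0, 0, 0, 0, 0, 0, 0, 0, 0, 0, 0, 0, 0, 0, 0, 0, 0, 0, 0, 0, 0, 0, 0, 0, 0, 0, 0, 0, 0, 0],
    [0, 1, 0, 1, 1, 0, 0, 0, 0, 0, 0, 0, 0, 0, 0, 0, 1, 1, 0, 0, 0, 2, 0, 1, 0, 0, 0, 0, 0, 0, 0, 0, 0, 0, 0, 0, 0, 0, 0, 0, 0, 0, 0, 0, 0, 0, 0, 0],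
    [0, 1, 0, 0, 1, 0, 1, 0, 1, 0, 0, 0, 0, 0, 0, 0, 0, 0, 0, 0, 0, 0, 0, 0, 0, 0, 0, 0, 0, 0, 0, 0, 0, 0, 0, 0, 0, 0, 0, 0, 0, 0, 0, 0, 0, 0, 0, 0],
    [0, 2, 0, 0, 0, 0, 0, 0, 0, 0, 0, 0, 0, 0, 0, 0, 0, 0, 0, 0, 0, 2, 1, 0, 0, 0, 0, 0, 0, 0, 0, 0, 0, 0, 0, 0, 0, 0, 0, 0, 0, 0, 0, 0, 0, 0, 0, 0],
    [1, 0, 0, 1, 2, 0, 1, 0, 1, 0, 0, 1, 1, 0, 0, 0, 0, 0, 0, 0, 0, 0, 0, 0, 0, 0, 0, 0, 0, 0, 0, 0, 0, 0, 0, 0, 0, 0, 0, 0, 0, 0, 0, 0, 0, 0, 0, 0],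
    [0, 2, 0, 0, 2, 0, 0, 0, 0, 0, 0, 0, 0, 0, 0, 1, 0, 1, 0, 0, 0, 0, 0, 0, 0, 0, 0, 0, 0, 0, 0, 0, 0, 0, 0, 0, 0, 0, 0, 0, 0, 0, 0, 0, 0, 0, 0, 0],
    [1, 0, 0, 0, 0, 0, 1, 1, 2, 0, 0, 1, 0, 1, 0, 0, 0, 0, 0, 0, 0, 0, 0, 0, 0, 0, 0, 0, 0, 0, 0, 0, 0, 0, 0, 0, 0, 0, 0, 0, 0, 0, 0, 0, 0, 0, 0, 0],
    [1, 2, 0, 0, 1, 0, 0, 0, 0, 0, 0, 0, 0, 0, 0, 0, 0, 0, 0, 0, 0, 0, 0, 0, 0, 0, 0, 0, 0, 0, 0, 0, 0, 0, 0, 0, 0, 0, 0, 0, 0, 2, 0, 0, 0, 0, 0, 0],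
    [1, 1, 1, 0, 2, 1, 0, 0, 0, 0, 0, 0, 0, 0, 0, 2, 2, 1, 0, 0, 2, 0, 0, 0, 0, 0, 0, 0, 0, 0, 0, 0, 0, 0, 0, 0, 0, 0, 0, 0, 0, 0, 0, 0, 0, 0, 0, 0],
    [0, 1, 0, 1, 2, 0, 0, 0, 0, 0, 0, 0, 0, 0, 0, 2, 0, 2, 0, 0, 0, 1, 2, 2, 0, 0, 1, 0, 0, 0, 0, 0, 0, 0, 0, 0, 0, 0, 0, 0, 0, 0, 0, 0, 0, 0, 0, 0],
    [1, 0, 1, 0, 0, 2, 0, 0, 0, 0, 0, 0, 0, 0, 0, 0, 0, 0, 0, 0, 2, 0, 0, 0, 0, 0, 0, 2, 0, 0, 0, 0, 0, 0, 0, 0, 0, 0, 0, 0, 0, 0, 0, 0, 0, 0, 0, 0],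
    [0, 0, 0, 1, 0, 0, 0, 0, 1, 0, 0, 0, 0, 0, 0, 0, 0, 0, 0, 0, 0, 1, 0, 2, 1, 0, 0, 0, 0, 0, 0, 0, 0, 0, 0, 0, 0, 0, 0, 0, 0, 0, 2, 2, 0, 0, 0, 0],
    [0, 2, 0, 0, 0, 0, 2, 2, 0, 0, 0, 0, 0, 0, 0, 1, 0, 2, 1, 0, 0, 0, 0, 0, 0, 0, 0, 0, 0, 0, 0, 0, 0, 0, 0, 0, 0, 0, 0, 0, 0, 2, 0, 1, 0, 0, 0, 0],
    [0, 2, 0, 1, 1, 0, 0, 0, 0, 0, 1, 2, 2, 0, 0, 0, 0, 0, 0, 0, 0, 0, 2, 2, 0, 1, 0, 0, 0, 0, 0, 0, 0, 0, 0, 0, 0, 0, 0, 0, 0, 1, 0, 1, 0, 0, 0, 0],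
    [1, 1, 0, 1, 1, 0, 0, 0, 0, 0, 0, 1, 0, 0, 0, 0, 2, 2, 0, 1, 0, 0, 0, 0, 0, 0, 0, 0, 0, 0, 0, 0, 0, 0, 0, 0, 0, 0, 0, 0, 0, 1, 1, 1, 0, 0, 0, 0]]
  mu := [[0, 0, 0, 0, 0, 0, 0, 0, 0, 0, 0, 0, 0, 0, 0, 0, 0, 0, 0, 2, 0, 0, 0, 0, 2, 0, 0, 0, 0, 0, 0, 0, 0, 0, 0, 0, 0, 0, 0, 0, 0, 0, 0, 0, 0, 0, 0, 0],
    [0, 0, 0, 0, 0, 0, 0, 0, 0, 0, 0, 0, 0, 0, 0, 0, 0, 0, 0, 2, 0, 0, 0, 0, 0, 1, 0, 0, 0, 0, 0, 0, 0, 0, 0, 0, 0, 0, 0, 0, 0, 0, 0, 0, 0, 0, 0, 0],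
    [0, 0, 0, 0, 0, 0, 0, 0, 0, 0, 0, 0, 0, 0, 0, 0, 0, 0, 0, 1, 0, 0, 0, 0, 1, 2, 0, 0, 0, 0, 0, 0, 0, 0, 0, 0, 0, 0, 0, 0, 0, 0, 0, 0, 0, 0, 0, 0],
    [0, 0, 0, 0, 0, 0, 0, 0, 0, 0, 0, 0, 0, 0, 0, 0, 0, 0, 0, 0, 0, 0, 0, 0, 0, 0, 0, 0, 0, 0, 0, 0, 0, 0, 0, 0, 0, 0, 0, 0, 0, 0, 0, 0, 0, 0, 0, 0],
    [0, 0, 0, 0, 0, 0, 0, 0, 0, 0, 0, 0, 0, 0, 0, 0, 0, 0, 0, 0, 0, 0, 0, 0, 0, 0, 0, 0, 0, 0, 0, 0, 0, 0, 0, 0, 0, 0, 0, 0, 0, 0, 0, 0, 0, 0, 0, 0],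
    [0, 0, 0, 0, 0, 0, 0, 0, 0, 0, 0, 0, 0, 0, 0, 0, 0, 0, 0, 0, 0, 0, 0, 0, 0, 0, 0, 0, 0, 0, 0, 0, 0, 0, 0, 0, 0, 0, 0, 0, 0, 0, 0, 0, 0, 0, 0, 0],
    [0, 0, 0, 0, 0, 0, 0, 0, 0, 0, 0, 0, 0, 0, 0, 0, 0, 0, 0, 0, 0, 0, 0, 0, 0, 0, 0, 0, 0, 0, 0, 0, 0, 0, 0, 0, 0, 0, 0, 0, 0, 0, 0, 0, 0, 0, 0, 0]]
  comb := [[0, 0, 0, 0, 2, 0, 0, 0, 0, 0, 0, 0, 0, 0, 0, 0, 0, 0, 0, 0, 0, 0, 0, 0, 0, 0, 0, 0],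
    [0, 2, 0, 1, 0, 0, 0, 0, 0, 0, 0, 0, 0, 0, 0, 0, 0, 0, 0, 0, 0, 0, 0, 0, 0, 0, 0, 0],
    [0, 0, 0, 0, 2, 0, 0, 0, 0, 0, 1, 2, 0, 0, 0, 0, 0, 0, 0, 0, 0, 0, 0, 0, 0, 0, 0, 0],
    [0, 1, 0, 0, 0, 0, 0, 0, 0, 0, 0, 0, 0, 0, 0, 0, 0, 0, 0, 0, 0, 0, 0, 0, 0, 0, 0, 0],
    [2, 0, 0, 0, 0, 0, 0, 0, 0, 0, 0, 0, 0, 0, 0, 0, 0, 0, 0, 0, 0, 0, 0, 0, 0, 0, 0, 0],
    [0, 0, 0, 0, 2, 2, 1, 0, 0, 0, 0, 0, 0, 0, 0, 0, 0, 0, 0, 0, 0, 0, 0, 0, 0, 0, 0, 0],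
    [0, 0, 2, 0, 0, 0, 0, 0, 0, 0, 0, 0, 0, 0, 0, 0, 0, 0, 0, 0, 0, 0, 0, 0, 0, 0, 0, 0],
    [0, 2, 0, 0, 2, 0, 0, 1, 0, 0, 0, 0, 0, 0, 2, 2, 0, 0, 0, 1, 2, 0, 0, 0, 2, 0, 0, 2],
    [1, 1, 1, 2, 0, 0, 0, 0, 0, 0, 0, 0, 0, 0, 0, 1, 0, 0, 0, 0, 0, 0, 0, 0, 0, 0, 0, 0],
    [0, 0, 0, 0, 0, 1, 2, 0, 0, 0, 0, 2, 0, 0, 0, 0, 0, 0, 0, 0, 0, 0, 0, 0, 0, 0, 0, 0],
    [0, 0, 1, 0, 0, 0, 0, 0, 1, 0, 0, 0, 0, 0, 0, 0, 0, 0, 0, 0, 0, 0, 0, 0, 0, 0, 0, 0],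
    [2, 0, 2, 0, 2, 0, 0, 0, 0, 0, 0, 0, 0, 0, 1, 2, 0, 0, 0, 0, 1, 0, 0, 0, 1, 0, 0, 1],
    [2, 1, 1, 1, 2, 0, 0, 0, 0, 0, 0, 0, 0, 0, 2, 0, 0, 1, 0, 0, 2, 0, 0, 0, 2, 0, 0, 2],
    [2, 2, 0, 2, 0, 0, 0, 2, 0, 0, 0, 0, 0, 0, 0, 0, 0, 0, 0, 0, 0, 0, 0, 0, 0, 0, 0, 0],
    [0, 0, 0, 0, 1, 2, 0, 0, 0, 0, 1, 2, 0, 0, 0, 0, 0, 0, 0, 0, 0, 0, 0, 0, 0, 0, 0, 0],
    [2, 1, 0, 1, 0, 0, 0, 0, 0, 0, 0, 0, 0, 1, 0, 0, 0, 0, 0, 0, 0, 0, 0, 0, 0, 0, 0, 0],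
    [1, 1, 0, 0, 0, 0, 0, 0, 0, 2, 0, 0, 2, 1, 1, 0, 0, 0, 2, 0, 0, 0, 0, 0, 0, 0, 0, 0],
    [0, 1, 0, 0, 0, 0, 0, 0, 0, 0, 0, 0, 0, 2, 0, 0, 0, 0, 1, 0, 0, 0, 0, 0, 0, 0, 0, 0],
    [1, 1, 0, 0, 2, 0, 0, 1, 1, 0, 0, 0, 2, 1, 2, 0, 2, 2, 1, 1, 0, 0, 0, 0, 2, 1, 2, 2],
    [0, 0, 0, 0, 0, 0, 0, 0, 0, 0, 0, 0, 0, 0, 0, 0, 0, 0, 0, 0, 0, 0, 0, 0, 0, 0, 0, 0],
    [1, 1, 0, 0, 0, 2, 1, 0, 0, 1, 1, 2, 1, 0, 2, 0, 0, 0, 2, 0, 0, 2, 0, 0, 0, 0, 0, 0],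
    [1, 0, 0, 1, 0, 0, 0, 0, 0, 1, 0, 0, 0, 0, 0, 0, 0, 0, 0, 0, 0, 0, 0, 0, 0, 0, 0, 0],
    [1, 2, 0, 2, 0, 0, 0, 0, 0, 1, 0, 0, 0, 0, 0, 0, 1, 0, 0, 0, 0, 0, 0, 0, 0, 0, 0, 0],
    [1, 1, 0, 0, 0, 0, 0, 0, 0, 2, 0, 0, 1, 0, 0, 0, 0, 0, 0, 0, 0, 0, 0, 0, 0, 0, 0, 0],
    [0, 0, 0, 0, 0, 0, 0, 0, 0, 0, 0, 0, 0, 0, 0, 0, 0, 0, 0, 0, 0, 0, 0, 0, 0, 0, 0, 0],
    [0, 0, 0, 0, 0, 0, 0, 0, 0, 0, 0, 0, 0, 0, 0, 0, 0, 0, 0, 0, 0, 0, 0, 0, 0, 0, 0, 0],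
    [2, 2, 0, 1, 0, 0, 0, 0, 0, 2, 0, 0, 1, 0, 0, 0, 1, 0, 1, 0, 0, 0, 1, 0, 0, 0, 0, 0],
    [2, 2, 0, 0, 2, 2, 1, 0, 0, 2, 0, 0, 2, 0, 1, 0, 0, 0, 1, 0, 0, 1, 0, 2, 0, 0, 0, 0]]

/-- Part of a closed path for the prime 2. -/
def path2_46_0 : List SchurPath.Step :=
  [([], [1, 3, 5, 7, 2, 1, 3, 5, 7], 70, false),
    ([1, 2, 3, 4, 9], [2, 1, 3, 5, 7], 73, false),
    ([1, 2, 3, 4, 9, 0, 4, 6, 9], [1, 3, 5, 7], 70, false),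
    ([1, 2, 3, 4, 9, 0, 4, 6, 9, 1, 2, 3, 4, 9], [], 73, false),
    ([1, 2, 3, 4], [4, 6, 9, 1, 2, 3, 4, 9, 0, 4, 6, 9, 15], 45, false),
    ([1, 2, 3], [9, 4, 6, 9, 1, 2, 3, 4, 9, 0, 4, 6, 9, 15], 10, false),
    ([1, 2], [4, 9, 4, 6, 9, 1, 2, 3, 4, 9, 0, 4, 6, 9, 15], 6, false),
    ([1], [3, 4, 9, 4, 6, 9, 1, 2, 3, 4, 9, 0, 4, 6, 9, 15], 3, false),
    ([], [2, 3, 4, 9, 4, 6, 9, 1, 2, 3, 4, 9, 0, 4, 6, 9, 15], 1, false),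
    ([0, 1, 2, 3, 4], [6, 9, 1, 2, 3, 4, 9, 0, 4, 6, 9, 15], 49, false),
    ([0, 1, 2, 3], [1, 2, 4, 9, 6, 9, 1, 2, 3, 4, 9, 0, 4, 6, 9, 15], 10, false),
    ([0, 1, 2], [4, 1, 2, 4, 9, 6, 9, 1, 2, 3, 4, 9, 0, 4, 6, 9, 15], 6, false),
    ([0, 1], [3, 4, 1, 2, 4, 9, 6, 9, 1, 2, 3, 4, 9, 0, 4, 6, 9, 15], 3, false),
    ([0], [2, 3, 4, 1, 2, 4, 9, 6, 9, 1, 2, 3, 4, 9, 0, 4, 6, 9, 15], 1, false),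
    ([], [1, 2, 3, 4, 1, 2, 4, 9, 6, 9, 1, 2, 3, 4, 9, 0, 4, 6, 9, 15], 0, false),
    ([1, 2, 3], [2, 4, 9, 6, 9, 1, 2, 3, 4, 9, 0, 4, 6, 9, 15], 11, false),
    ([1, 2], [4, 2, 4, 9, 6, 9, 1, 2, 3, 4, 9, 0, 4, 6, 9, 15], 7, false),
    ([1], [3, 4, 2, 4, 9, 6, 9, 1, 2, 3, 4, 9, 0, 4, 6, 9, 15], 4, false),
    ([], [2, 3, 4, 2, 4, 9, 6, 9, 1, 2, 3, 4, 9, 0, 4, 6, 9, 15], 2, false),
    ([2, 3], [4, 9, 6, 9, 1, 2, 3, 4, 9, 0, 4, 6, 9, 15], 12, false),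
    ([2], [4, 4, 9, 6, 9, 1, 2, 3, 4, 9, 0, 4, 6, 9, 15], 8, false),
    ([], [3, 4, 4, 9, 6, 9, 1, 2, 3, 4, 9, 0, 4, 6, 9, 15], 5, false),
    ([3], [9, 6, 9, 1, 2, 3, 4, 9, 0, 4, 6, 9, 15], 14, false),
    ([3], [9, 1, 2, 3, 4, 9, 0, 4, 6, 9, 15], 51, false),
    ([], [2, 6, 9, 9, 1, 2, 3, 4, 9, 0, 4, 6, 9, 15], 7, false),
    ([1], [6, 9, 9, 1, 2, 3, 4, 9, 0, 4, 6, 9, 15], 8, false),
    ([1, 2, 3, 6], [1, 2, 3, 4, 9, 0, 4, 6, 9, 15], 54, false),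
    ([1, 2, 3], [2, 3, 4, 9, 0, 4, 6, 9, 15], 22, false),
    ([1, 2], [6, 2, 3, 4, 9, 0, 4, 6, 9, 15], 7, false),
    ([1], [3, 6, 2, 3, 4, 9, 0, 4, 6, 9, 15], 4, false),
    ([], [2, 3, 6, 2, 3, 4, 9, 0, 4, 6, 9, 15], 2, false),
    ([2, 3], [3, 4, 9, 0, 4, 6, 9, 15], 23, false),
    ([2], [6, 3, 4, 9, 0, 4, 6, 9, 15], 8, false),
    ([], [3, 6, 3, 4, 9, 0, 4, 6, 9, 15], 5, false),
    ([3], [4, 9, 0, 4, 6, 9, 15], 24, false),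
    ([], [2, 3, 6, 4, 9, 0, 4, 6, 9, 15], 7, false),
    ([1], [3, 6, 4, 9, 0, 4, 6, 9, 15], 8, false),
    ([1, 2], [6, 4, 9, 0, 4, 6, 9, 15], 9, false),
    ([1, 2], [9, 0, 4, 6, 9, 15], 25, false),
    ([1], [2, 4, 6, 9, 0, 4, 6, 9, 15], 4, false),
    ([], [2, 2, 4, 6, 9, 0, 4, 6, 9, 15], 2, false),
    ([], [4, 6, 9, 0, 4, 6, 9, 15], 5, false),
    ([4, 6], [4, 6, 9, 15], 45, false),
    ([4], [9, 4, 6, 9, 15], 21, false),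
    ([], [6, 9, 4, 6, 9, 15], 10, false),
    ([0, 4, 6], [6, 9, 15], 49, false),
    ([0, 4], [1, 2, 4, 9, 6, 9, 15], 21, false),
    ([0], [6, 1, 2, 4, 9, 6, 9, 15], 10, false),
    ([], [4, 6, 1, 2, 4, 9, 6, 9, 15], 0, false),
    ([4], [2, 4, 9, 6, 9, 15], 22, false),
    ([], [6, 2, 4, 9, 6, 9, 15], 11, false),
    ([1, 4], [4, 9, 6, 9, 15], 23, false),
    ([1], [6, 4, 9, 6, 9, 15], 12, false),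
    ([1, 2, 4], [9, 6, 9, 15], 25, false),
    ([1, 2], [2, 4, 6, 9, 6, 9, 15], 11, false),
    ([1], [4, 2, 4, 6, 9, 6, 9, 15], 4, false),
    ([], [2, 4, 2, 4, 6, 9, 6, 9, 15], 2, false),
    ([2], [4, 6, 9, 6, 9, 15], 12, false),
    ([], [4, 4, 6, 9, 6, 9, 15], 5, false),
    ([], [6, 9, 6, 9, 15], 14, false)]

/-- Part of a closed path for the prime 2. -/
def path2_46_1 : List SchurPath.Step :=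
  [([6], [9, 15], 51, false),
    ([], [2, 6, 9, 9, 15], 22, false),
    ([1], [6, 9, 9, 15], 23, false),
    ([1, 2], [9, 9, 15], 27, false),
    ([1], [2, 9, 9, 15], 4, false),
    ([], [2, 2, 9, 9, 15], 2, false),
    ([], [9, 9, 15], 5, false),
    ([], [15], 54, false),
    ([15], [], 35, true),
    ([15], [7, 7], 2, true),
    ([15, 1], [7, 7], 20, true),
    ([15], [5, 7, 7], 16, true),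
    ([15, 5], [7], 33, true),
    ([15], [5, 7, 5, 7], 9, true),
    ([15], [3, 3, 5, 7, 5, 7], 2, true),
    ([15, 1], [3, 5, 7, 5, 7], 7, true),
    ([15, 1, 3], [7, 5, 7], 18, true),
    ([15], [5, 3, 7, 5, 7], 7, true),
    ([15, 3], [3, 7, 5, 7], 16, true),
    ([15], [3, 5, 1, 3, 7, 5, 7], 0, true),
    ([15, 0], [5, 1, 3, 7, 5, 7], 6, true),
    ([15, 0, 3], [1, 3, 7, 5, 7], 15, true),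
    ([15, 0, 3, 5], [5, 7], 31, true),
    ([15, 0], [3, 5, 7, 3, 5, 7], 2, true),
    ([15, 0, 1], [5, 7, 3, 5, 7], 7, true),
    ([15, 0, 1, 3], [7, 3, 5, 7], 16, true),
    ([15, 0, 1, 3, 5], [3, 5, 7], 29, true),
    ([15, 0, 1], [3, 5, 7, 1, 3, 5, 7], 5, true),
    ([15, 0, 1, 2], [5, 7, 1, 3, 5, 7], 8, true),
    ([15, 0, 1, 2, 3], [7, 1, 3, 5, 7], 17, true),
    ([15], [2, 3, 5, 2, 7, 1, 3, 5, 7], 1, true),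
    ([15, 1], [3, 5, 2, 7, 1, 3, 5, 7], 3, true),
    ([15, 1, 2], [5, 2, 7, 1, 3, 5, 7], 6, true),
    ([15, 1, 2, 3], [2, 7, 1, 3, 5, 7], 15, true),
    ([15, 1, 2, 3, 5], [1, 3, 5, 7], 30, true),
    ([15], [3, 5, 7, 2, 1, 3, 5, 7], 4, true)]

/-- Part of a closed path for the prime 2. -/
def path2_47_0 : List SchurPath.Step :=
  [([], [3, 6, 9], 73, false),
    ([0, 4, 6, 9], [], 72, false),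
    ([0, 4, 6], [4, 6, 15], 46, false),
    ([0, 4], [1, 9, 4, 6, 15], 21, false),
    ([0], [6, 1, 9, 4, 6, 15], 10, false),
    ([], [4, 6, 1, 9, 4, 6, 15], 0, false),
    ([4], [9, 4, 6, 15], 22, false),
    ([], [6, 9, 4, 6, 15], 11, false),
    ([1, 4, 6], [6, 15], 49, false),
    ([1, 4], [1, 2, 4, 9, 6, 15], 21, false),
    ([1], [6, 1, 2, 4, 9, 6, 15], 10, false),
    ([], [4, 6, 1, 2, 4, 9, 6, 15], 1, false),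
    ([0, 1, 4], [2, 4, 9, 6, 15], 22, false),
    ([0, 1], [6, 2, 4, 9, 6, 15], 11, false),
    ([0], [4, 6, 2, 4, 9, 6, 15], 2, false),
    ([0, 4], [4, 9, 6, 15], 23, false),
    ([0], [6, 4, 9, 6, 15], 12, false),
    ([0, 2, 4], [9, 6, 15], 25, false),
    ([0, 2], [2, 4, 6, 9, 6, 15], 11, false),
    ([0], [4, 2, 4, 6, 9, 6, 15], 4, false),
    ([0, 1, 2], [4, 6, 9, 6, 15], 12, false),
    ([0, 1], [4, 4, 6, 9, 6, 15], 5, false),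
    ([0, 1], [6, 9, 6, 15], 14, false),
    ([0, 1, 6], [15], 51, false),
    ([0, 1], [2, 6, 9, 15], 22, false),
    ([0], [6, 2, 6, 9, 15], 2, false),
    ([0], [6, 9, 15], 23, false),
    ([0, 2], [9, 15], 27, false),
    ([0], [2, 9, 15], 4, false),
    ([0, 1], [9, 15], 5, false),
    ([0, 1], [9, 15], 5, true),
    ([0], [2, 9, 15], 4, true),
    ([0, 2], [9, 15], 27, true),
    ([0, 2], [6, 6, 9, 15], 14, true),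
    ([0], [4, 6, 6, 9, 15], 12, true),
    ([0], [4, 2, 4, 6, 6, 9, 15], 2, true),
    ([0, 1], [2, 4, 6, 6, 9, 15], 11, true),
    ([0, 1, 4], [6, 9, 15], 25, true),
    ([], [4, 6, 4, 6, 9, 15], 1, true),
    ([1], [6, 4, 6, 9, 15], 10, true),
    ([1, 4], [4, 6, 9, 15], 21, true),
    ([1, 4, 6], [], 73, true),
    ([], [1, 3, 5, 7], 72, true),
    ([15, 3, 6], [3, 5, 7], 46, false),
    ([15, 3], [1, 9, 3, 5, 7], 21, false),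
    ([15], [6, 1, 9, 3, 5, 7], 6, false),
    ([15, 0, 3], [9, 3, 5, 7], 22, false),
    ([15, 0], [6, 9, 3, 5, 7], 7, false),
    ([15, 0, 1, 3, 6], [5, 7], 48, false),
    ([15, 0, 1, 3], [2, 3, 9, 5, 7], 22, false),
    ([15, 0, 1], [6, 2, 3, 9, 5, 7], 7, false),
    ([15, 0], [3, 6, 2, 3, 9, 5, 7], 2, false),
    ([15, 0, 3], [3, 9, 5, 7], 23, false),
    ([15, 0], [6, 3, 9, 5, 7], 8, false),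
    ([15, 0, 2, 3], [9, 5, 7], 24, false),
    ([15, 0, 2], [2, 3, 6, 9, 5, 7], 7, false),
    ([15, 0], [3, 2, 3, 6, 9, 5, 7], 4, false),
    ([15, 0, 1, 2], [3, 6, 9, 5, 7], 8, false),
    ([15, 0, 1], [3, 3, 6, 9, 5, 7], 5, false),
    ([15, 0, 1], [6, 9, 5, 7], 9, false)]

/-- Part of a closed path for the prime 2. -/
def path2_47_1 : List SchurPath.Step :=
  [([15, 0, 1, 6], [7], 50, false),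
    ([15, 0, 1], [1, 2, 3, 4, 5, 9, 7], 21, false),
    ([15, 0], [6, 1, 2, 3, 4, 5, 9, 7], 1, false),
    ([15], [1, 6, 1, 2, 3, 4, 5, 9, 7], 0, false),
    ([15, 1], [2, 3, 4, 5, 9, 7], 22, false),
    ([15], [6, 2, 3, 4, 5, 9, 7], 2, false),
    ([15], [3, 4, 5, 9, 7], 23, false),
    ([15, 2], [4, 5, 9, 7], 24, false),
    ([15], [2, 3, 6, 4, 5, 9, 7], 4, false),
    ([15, 1], [3, 6, 4, 5, 9, 7], 5, false),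
    ([15, 1, 3], [5, 9, 7], 25, false),
    ([15, 1], [2, 4, 6, 5, 9, 7], 7, false),
    ([15], [3, 2, 4, 6, 5, 9, 7], 2, false),
    ([15], [4, 6, 5, 9, 7], 8, false),
    ([15, 2, 3, 4], [9, 7], 26, false),
    ([15, 2, 3, 4, 5, 6], [], 52, false),
    ([15], [2, 3, 4, 5, 6, 7, 9], 2, true),
    ([15, 1], [3, 4, 5, 6, 7, 9], 4, true),
    ([15, 1, 2], [4, 5, 6, 7, 9], 7, true),
    ([15, 1, 2, 3], [6, 7, 9], 19, true),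
    ([15], [3, 5, 4, 6, 7, 9], 4, true),
    ([15, 2], [4, 6, 7, 9], 18, true),
    ([15], [3, 4, 6, 7, 9], 17, true),
    ([15], [5, 2, 3, 4, 6, 7, 9], 2, true),
    ([15, 1], [2, 3, 4, 6, 7, 9], 16, true),
    ([15], [1, 5, 1, 2, 3, 4, 6, 7, 9], 0, true),
    ([15, 0], [5, 1, 2, 3, 4, 6, 7, 9], 1, true),
    ([15, 0, 1], [1, 2, 3, 4, 6, 7, 9], 15, true),
    ([15, 0, 1, 5], [9], 34, true),
    ([15, 0, 1], [5, 7, 6, 9], 9, true),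
    ([15, 0], [3, 5, 7, 6, 9], 7, true),
    ([15, 0, 3], [7, 6, 9], 18, true),
    ([15, 0], [3, 5, 3, 7, 6, 9], 2, true),
    ([15, 0, 1], [5, 3, 7, 6, 9], 7, true),
    ([15, 0, 1, 3], [3, 7, 6, 9], 16, true),
    ([15], [3, 5, 1, 3, 7, 6, 9], 1, true),
    ([15, 1], [5, 1, 3, 7, 6, 9], 6, true),
    ([15, 1, 3], [1, 3, 7, 6, 9], 15, true),
    ([15, 1, 3, 5], [6, 9], 31, true)]

/-- Part of a closed path for the prime 2. -/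
def path2_48_0 : List SchurPath.Step :=
  [([], [6], 53, false),
    ([0, 2, 3, 4, 7, 8], [], 51, false),
    ([0, 2, 3, 4, 7], [2, 6, 9], 37, false),
    ([0, 2, 3, 4], [8, 2, 6, 9], 29, false),
    ([0, 2, 3], [7, 8, 2, 6, 9], 11, false),
    ([0, 2], [4, 7, 8, 2, 6, 9], 7, false),
    ([0], [3, 4, 7, 8, 2, 6, 9], 4, false),
    ([0, 1, 2, 3, 4, 7], [6, 9], 38, false),
    ([0, 1, 2, 3, 4], [2, 8, 6, 9], 29, false),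
    ([0, 1, 2, 3], [7, 2, 8, 6, 9], 11, false),
    ([0, 1, 2], [4, 7, 2, 8, 6, 9], 7, false),
    ([0, 1], [3, 4, 7, 2, 8, 6, 9], 4, false),
    ([0], [2, 3, 4, 7, 2, 8, 6, 9], 2, false),
    ([0, 2, 3, 4], [8, 6, 9], 30, false),
    ([0, 2, 3], [2, 7, 8, 6, 9], 10, false),
    ([0, 2], [4, 2, 7, 8, 6, 9], 6, false),
    ([0], [3, 4, 2, 7, 8, 6, 9], 3, false),
    ([], [2, 3, 4, 2, 7, 8, 6, 9], 0, false),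
    ([2, 3], [7, 8, 6, 9], 12, false),
    ([2], [4, 7, 8, 6, 9], 8, false),
    ([], [3, 4, 7, 8, 6, 9], 5, false),
    ([3, 4, 7], [9], 42, false),
    ([3, 4], [2, 5, 6, 8, 9], 29, false),
    ([3], [7, 2, 5, 6, 8, 9], 11, false),
    ([], [4, 7, 2, 5, 6, 8, 9], 7, false),
    ([1, 3, 4], [5, 6, 8, 9], 30, false),
    ([1, 3], [2, 7, 5, 6, 8, 9], 10, false),
    ([1], [4, 2, 7, 5, 6, 8, 9], 6, false),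
    ([], [3, 4, 2, 7, 5, 6, 8, 9], 1, false),
    ([0, 1, 3], [7, 5, 6, 8, 9], 12, false),
    ([0, 1], [4, 7, 5, 6, 8, 9], 8, false),
    ([0, 1, 2, 3, 4], [6, 8, 9], 33, false),
    ([0, 1, 2, 3], [5, 7, 6, 8, 9], 11, false),
    ([0, 1, 2], [4, 5, 7, 6, 8, 9], 7, false),
    ([0, 1], [3, 4, 5, 7, 6, 8, 9], 4, false),
    ([0], [2, 3, 4, 5, 7, 6, 8, 9], 2, false),
    ([0, 2, 3, 4, 5], [8, 9], 34, false),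
    ([0, 2, 3, 4], [1, 2, 3, 4, 6, 7, 8, 9], 15, false),
    ([0, 2, 3], [5, 1, 2, 3, 4, 6, 7, 8, 9], 10, false),
    ([0, 2], [4, 5, 1, 2, 3, 4, 6, 7, 8, 9], 6, false),
    ([0], [3, 4, 5, 1, 2, 3, 4, 6, 7, 8, 9], 3, false),
    ([], [2, 3, 4, 5, 1, 2, 3, 4, 6, 7, 8, 9], 0, false),
    ([2, 3, 4], [2, 3, 4, 6, 7, 8, 9], 16, false),
    ([2, 3], [5, 2, 3, 4, 6, 7, 8, 9], 11, false),
    ([2], [4, 5, 2, 3, 4, 6, 7, 8, 9], 7, false),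
    ([], [3, 4, 5, 2, 3, 4, 6, 7, 8, 9], 4, false),
    ([1, 2, 3, 4], [3, 4, 6, 7, 8, 9], 17, false),
    ([1, 2, 3], [5, 3, 4, 6, 7, 8, 9], 12, false),
    ([1, 2], [4, 5, 3, 4, 6, 7, 8, 9], 8, false),
    ([1], [3, 4, 5, 3, 4, 6, 7, 8, 9], 5, false),
    ([1, 3, 4], [4, 6, 7, 8, 9], 18, false),
    ([1, 3], [3, 5, 4, 6, 7, 8, 9], 11, false),
    ([1], [4, 3, 5, 4, 6, 7, 8, 9], 7, false),
    ([], [3, 4, 3, 5, 4, 6, 7, 8, 9], 2, false),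
    ([3], [5, 4, 6, 7, 8, 9], 13, false),
    ([], [3, 4, 5, 4, 6, 7, 8, 9], 6, false),
    ([0], [4, 5, 4, 6, 7, 8, 9], 9, false),
    ([0, 4], [6, 7, 8, 9], 19, false),
    ([0], [4, 5, 6, 7, 8, 9], 11, false),
    ([0, 1], [5, 6, 7, 8, 9], 14, false)]

/-- Part of a closed path for the prime 2. -/
def path2_48_1 : List SchurPath.Step :=
  [([0, 1], [5, 6, 7, 8, 9], 14, true),
    ([0], [4, 5, 6, 7, 8, 9], 11, true),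
    ([0, 4], [6, 7, 8, 9], 19, true),
    ([0], [4, 5, 4, 6, 7, 8, 9], 5, true),
    ([0, 2], [5, 4, 6, 7, 8, 9], 12, true),
    ([0, 2, 4], [4, 6, 7, 8, 9], 17, true),
    ([0], [2, 4, 5, 2, 4, 6, 7, 8, 9], 2, true),
    ([0, 1], [4, 5, 2, 4, 6, 7, 8, 9], 4, true),
    ([0, 1, 2], [5, 2, 4, 6, 7, 8, 9], 11, true),
    ([0, 1, 2, 4], [2, 4, 6, 7, 8, 9], 16, true),
    ([0, 1, 2, 4, 5], [7, 8, 9], 25, true),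
    ([0, 1, 2], [4, 5, 6, 4, 7, 8, 9], 9, true),
    ([], [2, 3, 3, 4, 5, 6, 4, 7, 8, 9], 1, true),
    ([1], [3, 3, 4, 5, 6, 4, 7, 8, 9], 3, true),
    ([1, 2], [3, 4, 5, 6, 4, 7, 8, 9], 6, true),
    ([1, 2, 3], [5, 6, 4, 7, 8, 9], 13, true),
    ([], [3, 4, 3, 5, 6, 4, 7, 8, 9], 4, true),
    ([2], [4, 3, 5, 6, 4, 7, 8, 9], 7, true),
    ([2, 3], [3, 5, 6, 4, 7, 8, 9], 11, true),
    ([2, 3, 4], [6, 4, 7, 8, 9], 18, true),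
    ([], [4, 5, 3, 6, 4, 7, 8, 9], 8, true),
    ([3], [5, 3, 6, 4, 7, 8, 9], 12, true),
    ([3, 4], [3, 6, 4, 7, 8, 9], 17, true),
    ([], [3, 4, 5, 2, 3, 6, 4, 7, 8, 9], 2, true),
    ([1], [4, 5, 2, 3, 6, 4, 7, 8, 9], 7, true),
    ([1, 3], [5, 2, 3, 6, 4, 7, 8, 9], 11, true),
    ([1, 3, 4], [2, 3, 6, 4, 7, 8, 9], 16, true),
    ([1, 3, 4, 5], [4, 7, 8, 9], 24, true),
    ([1], [3, 4, 5, 6, 3, 4, 7, 8, 9], 5, true),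
    ([1, 2], [4, 5, 6, 3, 4, 7, 8, 9], 8, true),
    ([1, 2, 3], [5, 6, 3, 4, 7, 8, 9], 12, true),
    ([1, 2, 3, 4], [6, 3, 4, 7, 8, 9], 17, true),
    ([1, 2, 3, 4, 5], [3, 4, 7, 8, 9], 23, true),
    ([], [1, 2, 3, 4, 5, 6, 2, 3, 4, 7, 8, 9], 0, true),
    ([0], [2, 3, 4, 5, 6, 2, 3, 4, 7, 8, 9], 1, true),
    ([0, 1], [3, 4, 5, 6, 2, 3, 4, 7, 8, 9], 3, true),
    ([0, 1, 2], [4, 5, 6, 2, 3, 4, 7, 8, 9], 6, true),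
    ([0, 1, 2, 3], [5, 6, 2, 3, 4, 7, 8, 9], 10, true),
    ([0, 1, 2, 3, 4], [6, 2, 3, 4, 7, 8, 9], 15, true),
    ([0, 1, 2, 3, 4, 5], [2, 3, 4, 7, 8, 9], 21, true),
    ([0, 1, 2, 3, 4, 5, 6], [], 53, true),
    ([0, 1], [4, 5, 6, 9, 8], 8, true),
    ([0, 1, 3], [5, 6, 9, 8], 12, true),
    ([0, 1, 3, 4], [6, 9, 8], 17, true),
    ([0], [4, 5, 2, 6, 9, 8], 7, true),
    ([0, 3], [5, 2, 6, 9, 8], 11, true),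
    ([0, 3, 4], [2, 6, 9, 8], 16, true),
    ([0, 3, 4, 5], [8], 51, true),
    ([0], [3, 4, 5, 9, 6, 8], 5, true),
    ([0], [2, 2, 3, 4, 5, 9, 6, 8], 2, true),
    ([0, 1], [2, 3, 4, 5, 9, 6, 8], 4, true),
    ([], [2, 1, 2, 3, 4, 5, 9, 6, 8], 1, true),
    ([1], [1, 2, 3, 4, 5, 9, 6, 8], 3, true),
    ([1, 2], [6, 8], 50, true),
    ([], [1, 2, 9, 5, 6, 8], 0, true),
    ([0], [2, 9, 5, 6, 8], 1, true),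
    ([0, 1], [5, 6, 8], 47, true),
    ([], [2, 5, 6, 8], 46, true),
    ([9], [], 42, true)]

/-- Words of elements. -/
def elts2_0 : List (List ℕ) :=
  [[0, 1, 4, 5, 6, 8, 9], [0, 1, 2, 3, 5, 6, 8], [1, 2, 3, 5, 6, 7, 9], [1, 2, 3, 5, 6], [2, 3, 5, 6, 7, 8, 9], [0, 4, 5, 6, 9], [0, 4, 5, 6, 7], [4, 5, 6, 7, 8], [0, 1, 5, 6, 7], [0, 1, 2, 3, 4, 5, 6, 7, 8, 9], [0, 2, 3, 4, 5, 6, 7, 9], [0, 2, 3, 4, 5, 6], [0, 5, 6, 8, 9], [1, 5, 6, 7, 8], [2, 3, 4, 5, 6, 8], [0, 1, 5, 6, 9], [0, 1, 4, 5, 6, 9], [2, 3, 5, 6, 7, 9], [0, 2, 3, 5, 6, 8], [0, 4, 5, 6, 8, 9], [1, 2, 3, 5, 6, 7, 8, 9], [1, 4, 5, 6, 7, 8], [0, 1, 4, 5, 6, 7], [2, 3, 5, 6], [1, 4, 5, 7, 9], [2, 3, 5, 9], [0, 1, 4, 5, 8], [4, 5, 7, 8, 9], [1, 4, 5], [1, 2, 3, 5, 8, 9], [0, 2, 3, 5, 7, 8], [2, 3, 5, 7], [4, 7, 9], [2, 3, 8,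 9], [1, 4, 7, 8, 9], [4], [1, 2, 3, 9], [1, 2, 3, 7], [0, 4, 8], [0, 1, 2, 3, 7, 8], [1, 3, 5, 6, 7], [3, 5, 6, 8, 9], [1, 3, 5, 6, 9], [0, 2, 4, 5, 6, 8], [0, 1, 3, 5, 6, 7, 8], [1, 2, 4, 5, 6, 7, 8, 9], [2, 4, 5, 6], [2, 4, 5, 6, 7, 9], [1, 2, 4, 5, 8], [0, 1, 2, 4, 5], [0, 3, 5, 9], [0, 1, 3, 5, 8, 9], [0, 1, 2, 4, 5, 7, 9], [0, 2, 4, 5, 7, 8, 9], [3, 5, 7, 8], [0, 3, 5, 7], [2, 3, 6, 7, 9], [0, 1, 4, 6, 9], [1, 2, 3, 6, 7, 8, 9], [1, 4, 6, 7, 8], [2, 3, 6], [0, 2, 3, 6, 8], [0, 1, 4, 6, 7], [0, 4, 6, 8, 9], [1, 3, 6, 8], [2, 4, 6, 9], [0, 1, 3, 6], [0, 2, 4, 6, 7, 8], [0, 3, 6, 7, 8, 9], [1, 2, 4, 6, 8, 9], [2, 4, 6, 7], [0, 1, 3, 6, 7, 9], [0, 2, 4], [2, 4, 8], [1, 3, 7, 8], [0, 2, 4, 7, 9], [0, 1, 3, 9], [0, 1, 3, 7], [0, 3, 8, 9], [0, 1, 2, 4, 7, 8, 9], [0, 1, 3, 4, 5, 7, 9],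 [0, 1, 2, 5, 8, 9], [0, 2, 5, 7], [2, 5, 7, 8], [0, 3, 4, 5, 7, 8, 9], [0, 1, 3, 4, 5], [1, 3, 4, 5, 8], [0, 2, 5, 9], [1, 2, 5], [0, 1, 2, 5, 8], [0, 3, 4, 5, 9], [2, 5, 7, 8, 9], [3, 4, 5, 7, 8], [1, 2, 5, 7, 9], [0, 1, 3, 4, 5, 8, 9], [0, 3, 4, 5, 7], [2, 4, 5, 7], [0, 1, 3, 5], [1, 2, 4, 5, 8, 9], [0, 2, 4, 5, 7, 8], [0, 1, 3, 5, 7, 9], [0, 3, 5, 7, 8, 9], [1, 3, 5, 8], [2, 4, 5, 9], [3, 6, 7, 9], [0, 3, 6, 8], [1, 2, 4, 6, 7, 8], [0, 1, 2, 4, 6, 7], [3, 6], [0, 1, 2, 4, 6, 9], [0, 2, 4, 6, 8, 9], [1, 3, 6, 7, 8, 9], [0, 1, 3, 5, 6], [0, 3, 5, 6, 7, 8, 9], [0, 1, 3, 5, 6, 7, 9], [1, 2, 4, 5, 6, 8, 9], [1, 3, 5, 6, 8], [0, 2, 4, 5, 6, 7, 8], [2, 4, 5, 6, 9], [2, 4, 5, 6, 7], [0, 1, 2, 5, 6, 9], [1, 2, 5, 6, 7, 8], [0, 3, 4, 5, 6, 7, 9], [0, 1, 3, 4, 5, 6, 7, 8, 9], [0, 3, 4, 5,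 6], [3, 4, 5, 6, 8], [0, 2, 5, 6, 8, 9], [0, 1, 2, 5, 6, 7], [1, 4, 5, 6, 7], [0, 2, 3, 5, 6], [0, 1, 2, 3, 5, 6, 7, 8, 9], [0, 1, 4, 5, 6, 7, 8], [2, 3, 5, 6, 8], [4, 5, 6, 8, 9], [1, 4, 5, 6, 9], [0, 2, 3, 5, 6, 7, 9], [4, 6], [0, 1, 2, 3, 6, 7, 8], [1, 2, 3, 6, 7], [1, 4, 6, 7, 8, 9], [4, 6, 7, 9], [1, 2, 3, 6, 9], [2, 3, 6, 8, 9], [0, 4, 6, 8], [3, 6, 8, 9], [2, 4, 6], [1, 2, 4, 6, 7, 8, 9], [1, 3, 6, 9], [2, 4, 6, 7, 9], [1, 3, 6, 7], [0, 2, 4, 6, 8], [0, 1, 3, 6, 7, 8], [0, 1, 2, 3, 4, 6, 8, 9], [6, 7, 8, 9], [0, 2, 3, 4, 6, 7], [1, 6], [0, 2, 3, 4, 6, 9], [2, 3, 4, 6, 7, 8], [0, 1, 6, 8], [1, 6, 7, 9], [2, 6, 7, 8], [0, 2, 6, 9], [1, 3, 4, 6, 8], [0, 1, 3, 4, 6, 7, 9], [0, 3, 4, 6, 7, 8, 9], [0, 2, 6, 7], [0, 1, 2, 6, 8, 9], [0, 1, 3, 4, 6], [0, 1, 4, 5, 8, 9], [0, 4, 5, 7],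 [1, 2, 3, 5, 7, 9], [0, 1, 2, 3, 5, 8], [1, 2, 3, 5], [2, 3, 5, 7, 8, 9], [4, 5, 7, 8], [0, 4, 5, 9], [3, 6, 7], [1, 3, 6, 8, 9], [1, 2, 4, 6, 7, 9], [2, 4, 6, 7, 8, 9], [0, 3, 6, 7, 8], [0, 1, 2, 4, 6, 8], [3, 6, 9], [1, 2, 4, 6], [1, 4], [2, 3, 9], [4, 7, 8, 9], [1, 4, 7, 9], [0, 2, 3, 7, 8], [1, 2, 3, 8, 9], [0, 1, 4, 8], [2, 3, 7], [1, 2, 4, 5, 7, 8], [0, 1, 2, 4, 5, 7], [3, 5, 7, 9], [0, 3, 5, 8], [1, 3, 5, 7, 8, 9], [0, 1, 2, 4, 5, 9], [0, 2, 4, 5, 8, 9], [3, 5]]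

/-- Words of elements. -/
def elts2_1 : List (List ℕ) :=
  [[1, 4, 5, 7, 8, 9], [1, 2, 3, 5, 9], [4, 5], [2, 3, 5, 8, 9], [0, 4, 5, 8], [0, 1, 2, 3, 5, 7, 8], [4, 5, 7, 9], [1, 2, 3, 5, 7], [1, 2, 4], [0, 3, 7, 8], [3, 7], [2, 4, 7, 8, 9], [1, 2, 4, 7, 9], [0, 1, 2, 4, 8], [1, 3, 8, 9], [3, 9], [1, 2, 4, 5, 6, 9], [0, 3, 5, 6], [2, 4, 5, 6, 8, 9], [0, 1, 3, 5, 6, 7, 8, 9], [3, 5, 6, 8], [0, 1, 2, 4, 5, 6, 7, 8], [1, 2, 4, 5, 6, 7], [0, 3, 5, 6, 7, 9], [0, 1, 2, 4, 5, 6, 7], [3, 5, 6, 7, 9], [1, 2, 4, 5, 6, 7, 8], [0, 3, 5, 6, 8], [1, 3, 5, 6, 7, 8, 9], [0, 2, 4, 5, 6, 8, 9], [0, 1, 2, 4, 5, 6, 9], [3, 5, 6], [1, 2, 3, 4, 5, 6], [0, 5, 6, 7, 8], [0, 1, 2, 3, 4, 5, 6, 8], [2, 3, 4, 5, 6, 7, 8, 9], [5, 6, 9], [5, 6, 7], [1, 5, 6, 8, 9], [1, 2, 3, 4, 5, 6, 7, 9], [0, 1, 2, 4, 9], [0,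 3, 8], [0, 1, 2, 4, 7], [1, 2, 4, 7, 8], [3, 7, 9], [3], [0, 2, 4, 8, 9], [1, 3, 7, 8, 9], [2, 7, 9], [1, 3, 4, 7, 8], [1, 2, 7, 8, 9], [2], [0, 1, 3, 4, 9], [0, 1, 3, 4, 7], [0, 2, 8], [0, 3, 4, 8, 9], [0, 1, 2, 8, 9], [1, 3, 4, 8], [0, 2, 9], [0, 2, 7], [0, 1, 3, 4, 7, 9], [0, 1, 3, 4], [2, 7, 8], [0, 3, 4, 7, 8, 9], [0, 1, 2, 3, 6, 8], [0, 1, 4, 6, 8, 9], [0, 4, 6, 9], [1, 2, 3, 6, 7, 9], [4, 6, 7, 8], [2, 3, 6, 7, 8, 9], [0, 4, 6, 7], [1, 2, 3, 6], [0, 1, 2, 3, 8], [1, 2, 3, 7, 9], [0, 1, 4, 8, 9], [0, 4, 7], [0, 4, 9], [4, 7, 8], [2, 3, 7, 8, 9], [1, 2, 3], [0, 1, 4, 7], [0, 4, 8, 9], [0, 1, 4, 9], [1, 2, 3, 7, 8, 9], [2, 3, 7, 9], [2, 3], [0, 2, 3, 8], [1, 4, 7, 8], [0, 1, 3, 4, 5, 6, 7, 9], [0, 3, 4, 5, 6, 7, 8, 9], [2, 5, 6, 7, 8], [0, 1, 2, 5, 6, 8, 9], [1, 3, 4, 5, 6, 8],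 [0, 2, 5, 6, 9], [0, 2, 5, 6, 7], [0, 1, 3, 4, 5, 6], [1, 2, 4, 8, 9], [0, 1, 3], [1, 3, 8], [2, 4, 7], [2, 4, 9], [0, 3, 7, 8, 9], [0, 2, 4, 7, 8], [0, 1, 3, 7, 9], [0, 2, 3, 6, 7], [0, 1, 2, 3, 6, 8, 9], [1, 4, 6, 8], [0, 1, 4, 6], [0, 4, 6, 7, 8, 9], [2, 3, 6, 7, 8], [0, 2, 3, 6, 9], [0, 1, 4, 6, 7, 9], [0, 2, 4, 5, 8], [1, 3, 5, 7], [1, 2, 4, 5, 7, 8, 9], [2, 4, 5], [0, 1, 3, 5, 7, 8], [3, 5, 8, 9], [2, 4, 5, 7, 9], [1, 3, 5, 9], [0, 4, 5, 8, 9], [0, 1, 4, 5, 9], [1, 4, 5, 7, 8], [2, 3, 5, 7, 9], [0, 2, 3, 5, 8], [1, 2, 3, 5, 7, 8, 9], [0, 1, 4, 5, 7], [2, 3, 5], [1, 3, 5, 6, 7, 9], [0, 1, 3, 5, 6, 8], [1, 3, 5, 6], [2, 4, 5, 6, 7, 8], [3, 5, 6, 7, 8, 9], [0, 1, 2, 4, 5, 6, 8, 9], [0, 2, 4, 5, 6, 7], [0, 2, 4, 5, 6, 9], [0, 2, 3, 4, 5, 6, 8, 9], [0, 1, 2, 3, 4, 5, 6, 9], [5, 6],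 [0, 1, 2, 3, 4, 5, 6, 7], [0, 5, 6, 8], [1, 5, 6, 7, 8, 9], [5, 6, 7, 9], [1, 2, 3, 4, 5, 6, 7, 8], [2, 5, 6, 8], [1, 3, 4, 5, 6, 9], [0, 2, 5, 6, 7, 9], [3, 4, 5, 6, 8, 9], [1, 3, 4, 5, 6, 7], [0, 1, 3, 4, 5, 6, 7, 8], [0, 2, 5, 6], [0, 1, 2, 5, 6, 7, 8, 9], [0, 3, 6], [0, 1, 3, 6, 7, 8, 9], [2, 4, 6, 8, 9], [1, 2, 4, 6, 9], [0, 3, 6, 7, 9], [1, 2, 4, 6, 7], [0, 1, 2, 4, 6, 7, 8], [3, 6, 8], [0, 2, 3, 4, 6, 7, 9], [0, 6, 8, 9], [2, 3, 4, 6, 8], [0, 1, 6, 7], [0, 2, 3, 4, 6], [0, 1, 2, 3, 4, 6, 7, 8, 9], [1, 6, 7, 8], [0, 1, 6, 9], [0], [8], [0, 7, 9], [2, 3, 4, 8, 9], [1, 2, 3, 4, 9], [1, 2, 3, 4, 7], [0, 1, 2, 3, 4, 7, 8], [0, 1, 7, 8, 9], [1, 3, 6, 7, 8], [0, 2, 4, 6, 7, 9], [2, 4, 6, 8], [0, 1, 3, 6, 7], [0, 2, 4, 6], [0, 1, 3, 6, 9], [0, 1, 2, 4, 6, 7, 8, 9], [0, 3, 6, 8, 9],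 [1, 3, 4, 6, 9], [0, 2, 6], [3, 4, 6, 8, 9], [2, 6, 8], [0, 2, 6, 7, 9], [0, 1, 3, 4, 6, 7, 8], [0, 1, 2, 6, 7, 8, 9], [1, 3, 4, 6, 7], [0, 1, 2, 3, 5, 6, 7, 8], [1, 4, 5, 6, 7, 8, 9], [1, 2, 3, 5, 6, 9], [1, 2, 3, 5, 6, 7], [4, 5, 6], [4, 5, 6, 7, 9], [2, 3, 5, 6, 8, 9], [0, 4, 5, 6, 8]]

/-- Words of elements. -/
def elts2_2 : List (List ℕ) :=
  [[1, 4, 5, 6, 7, 9], [0, 2, 3, 5, 6, 7, 8], [0, 1, 4, 5, 6, 8], [1, 2, 3, 5, 6, 8, 9], [2, 3, 5, 6, 9], [4, 5, 6, 7, 8, 9], [1, 4, 5, 6], [2, 3, 5, 6, 7], [7, 9], [1, 7, 8, 9], [], [1, 2, 3, 4, 7, 8], [0, 1, 2, 3, 4, 7], [0, 1, 2, 3, 4, 9], [0, 2, 3, 4, 8, 9], [0, 8], [0, 4, 5, 7, 8], [4, 5, 9], [0, 1, 2, 3, 5], [0, 2, 3, 5, 7, 8, 9], [0, 1, 2, 3, 5, 7, 9], [1, 2, 3, 5, 8], [1, 4, 5, 8, 9], [4, 5, 7], [2, 4, 5, 7, 8, 9], [1, 2, 4, 5, 7,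 9], [3, 5, 7], [0, 3, 5, 7, 8], [1, 2, 4, 5], [0, 1, 2, 4, 5, 8], [1, 3, 5, 8, 9], [3, 5, 9], [2, 5, 8], [1, 3, 4, 5, 7], [0, 2, 5], [3, 4, 5, 8, 9], [0, 1, 3, 4, 5, 7, 8], [0, 1, 2, 5, 7, 8, 9], [1, 3, 4, 5, 9], [0, 2, 5, 7, 9], [0, 1, 4, 5, 6], [0, 1, 2, 3, 5, 6, 8, 9], [0, 4, 5, 6, 7, 8, 9], [2, 3, 5, 6, 7, 8], [0, 2, 3, 5, 6, 7], [1, 4, 5, 6, 8], [0, 1, 4, 5, 6, 7, 9], [0, 2, 3, 5, 6, 9], [0, 2, 5, 8, 9], [0, 1, 2, 5, 9], [0, 3, 4, 5, 7, 9], [0, 1, 3, 4, 5, 7, 8, 9], [3, 4, 5, 8], [1, 2, 5, 7, 8], [0, 1, 2, 5, 7], [0, 3, 4, 5], [0, 2, 3, 5, 6, 8, 9], [4, 5, 6, 8], [0, 1, 2, 3, 5, 6, 7], [0, 1, 2, 3, 5, 6, 9], [0, 4, 5, 6, 7, 9], [0, 4, 5, 6], [1, 2, 3, 5, 6, 7, 8], [0, 1, 4, 5, 6, 7, 8, 9], [1, 9], [2, 3, 4], [1, 7], [8, 9], [1, 2, 3, 4, 7, 8, 9], [0, 1, 7, 8], [0, 2, 3, 4, 8],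 [2, 3, 4, 7, 9], [1, 4, 9], [0, 1, 4, 7, 8], [1, 4, 7], [2, 3, 8], [0, 2, 3], [0, 2, 3, 7, 9], [0, 1, 2, 3, 7, 8, 9], [4, 8, 9], [3, 4, 6], [0, 3, 4, 6, 8], [1, 2, 6, 7], [0, 1, 2, 6, 7, 8], [3, 4, 6, 7, 9], [2, 6, 8, 9], [1, 3, 4, 6, 7, 8, 9], [1, 2, 6, 9], [1, 5, 8, 9], [1, 2, 3, 4, 5], [5, 7], [1, 2, 3, 4, 5, 7, 9], [0, 1, 2, 3, 4, 5, 8], [2, 3, 4, 5, 7, 8, 9], [5, 9], [0, 5, 7, 8], [0, 3, 4, 6, 7, 9], [0, 1, 3, 4, 6, 7, 8, 9], [0, 1, 2, 6, 9], [0, 2, 6, 8, 9], [0, 3, 4, 6], [1, 2, 6, 7, 8], [3, 4, 6, 8], [0, 1, 2, 6, 7], [1, 2, 5, 6, 7], [2, 5, 6, 8, 9], [3, 4, 5, 6], [0, 3, 4, 5, 6, 8], [3, 4, 5, 6, 7, 9], [1, 3, 4, 5, 6, 7, 8, 9], [0, 1, 2, 5, 6, 7, 8], [1, 2, 5, 6, 9], [1, 5, 6, 9], [0, 2, 3, 4, 5, 6, 8], [2, 3, 4, 5, 6], [2, 3, 4, 5, 6, 7, 9], [0, 1, 5, 6, 7, 8], [5, 6, 8,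 9], [1, 2, 3, 4, 5, 6, 7, 8, 9], [1, 5, 6, 7], [0, 1, 2, 9], [0, 2, 8, 9], [0, 1, 3, 4, 7, 8, 9], [0, 3, 4, 7, 9], [0, 1, 2, 7], [1, 2, 7, 8], [3, 4, 8], [0, 3, 4], [0, 2, 3, 6], [1, 4, 6, 7], [2, 3, 6, 8], [4, 6, 8, 9], [0, 2, 3, 6, 7, 9], [0, 1, 2, 3, 6, 7, 8, 9], [1, 4, 6, 9], [0, 1, 4, 6, 7, 8], [1, 3, 4, 6, 8, 9], [3, 4, 6, 7], [0, 1, 2, 6, 7, 9], [1, 2, 6, 8], [3, 4, 6, 9], [0, 2, 6, 7, 8, 9], [0, 3, 4, 6, 7, 8], [0, 1, 2, 6], [0, 1, 2, 3, 4, 6, 9], [0, 2, 3, 4, 6, 8, 9], [6, 7, 9], [1, 6, 7, 8, 9], [6], [0, 6, 8], [1, 2, 3, 4, 6, 7, 8], [0, 1, 2, 3, 4, 6, 7], [0, 1, 7], [0, 2, 3, 4, 7, 9], [0, 1, 9], [1, 7, 8], [2, 3, 4, 8], [0, 8, 9], [0, 1, 2, 3, 4, 7, 8, 9], [0, 2, 3, 4], [1, 5, 8], [0, 1, 5, 7, 9], [2, 3, 4, 5, 9], [0, 1, 5], [0, 2, 3, 4, 5, 7, 8], [1, 2, 3, 4, 5, 8, 9],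 [0, 5, 7, 8, 9], [2, 3, 4, 5, 7], [1, 2, 4, 7], [0, 1, 3, 7, 8, 9], [1, 2, 4, 9], [2, 4, 8, 9], [0, 3], [0, 3, 7, 9], [0, 1, 2, 4, 7, 8], [3, 8], [1, 2, 3, 4, 6, 7], [0, 1, 2, 3, 4, 6, 7, 8], [0, 6], [6, 8], [0, 6, 7, 9], [0, 1, 6, 7, 8, 9], [2, 3, 4, 6, 8, 9], [1, 2, 3, 4, 6, 9], [0, 4, 6, 7, 9], [0, 2, 3, 6, 8, 9], [0, 1, 2, 3, 6, 9], [4, 6, 8], [0, 4, 6], [0, 1, 2, 3, 6, 7], [1, 2, 3, 6, 7, 8], [0, 1, 4, 6, 7, 8, 9], [2, 3, 4, 6], [0, 1, 6, 7, 8], [1, 2, 3, 4, 6, 7, 8, 9], [1, 6, 9], [2, 3, 4, 6, 7, 9], [0, 2, 3, 4, 6, 8], [6, 8, 9], [1, 6, 7]]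

/-- Words of elements. -/
def elts2_3 : List (List ℕ) :=
  [[1, 2, 7], [0, 1, 2, 7, 8], [0, 3, 4, 8], [3, 4], [1, 2, 9], [2, 8, 9], [1, 3, 4, 7, 8, 9], [3, 4, 7, 9], [0, 1, 3, 4, 6, 7], [2, 6, 7, 9], [1, 3, 4, 6, 7, 8], [1, 2, 6, 7, 8, 9], [2, 6], [0, 3, 4, 6, 8, 9], [0, 2, 6, 8], [0, 1, 3, 4, 6, 9], [1, 8, 9], [0, 1, 2, 3, 4, 8], [9], [7], [1, 2, 3, 4], [1, 2, 3, 4, 7, 9], [0, 7, 8], [2, 3, 4, 7, 8, 9], [0, 1, 2, 3, 4, 6, 8], [6, 9], [1, 2, 3, 4, 6], [1, 6, 8, 9], [6, 7], [0, 6, 7, 8], [2, 3, 4, 6, 7, 8, 9], [1, 2, 3, 4, 6, 7, 9], [3, 5, 6, 7, 8], [1, 2, 4, 5, 6, 8], [0, 1, 2, 4, 5, 6], [0, 3, 5, 6, 9], [0, 1, 2, 4, 5, 6, 7, 9], [0, 3, 5, 6, 7], [0, 1, 3, 5, 6, 8, 9], [0, 2, 4, 5, 6, 7, 8, 9], [5, 6, 7, 8, 9], [0, 1, 2, 3, 4, 5, 6, 8, 9], [2, 3, 4, 5, 6, 7, 8], [0, 2, 3, 4, 5, 6,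 9], [1, 5, 6, 7, 9], [1, 5, 6], [0, 2, 3, 4, 5, 6, 7], [0, 1, 5, 6, 8], [5, 7, 8, 9], [1, 5], [0, 2, 3, 4, 5, 7], [1, 5, 7, 9], [0, 1, 2, 3, 4, 5, 8, 9], [2, 3, 4, 5, 7, 8], [0, 1, 5, 8], [0, 2, 3, 4, 5, 9], [0, 2, 4, 5, 9], [1, 3, 5, 7, 9], [2, 4, 5, 7, 8], [0, 1, 2, 4, 5, 8, 9], [1, 3, 5], [0, 1, 3, 5, 8], [3, 5, 7, 8, 9], [0, 2, 4, 5, 7], [1], [0, 1, 2, 3, 4, 8, 9], [0, 2, 3, 4, 7], [7, 8, 9], [1, 7, 9], [0, 1, 8], [2, 3, 4, 7, 8], [0, 2, 3, 4, 9], [0, 4], [1, 2, 3, 7, 8], [4, 8], [0, 4, 7, 9], [0, 1, 2, 3, 7], [0, 1, 2, 3, 9], [0, 1, 4, 7, 8, 9], [0, 2, 3, 8, 9], [0, 1, 2, 4, 5, 7, 8, 9], [0, 1, 3, 5, 9], [2, 4, 5, 8], [0, 2, 4, 5, 7, 9], [0, 3, 5, 8, 9], [1, 3, 5, 7, 8], [0, 2, 4, 5], [0, 1, 3, 5, 7], [0, 1, 2, 3, 4, 5, 6, 7, 9], [0, 1, 5, 6, 8, 9], [0, 2, 3, 4, 5, 6, 7, 8, 9],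 [1, 2, 3, 4, 5, 6, 8], [0, 5, 6, 7], [0, 5, 6, 9], [5, 6, 7, 8], [0, 1, 2, 3, 4, 5, 6], [1, 3, 4, 5, 6], [0, 1, 3, 4, 5, 6, 8], [1, 2, 5, 6, 8, 9], [0, 2, 5, 6, 7, 8], [3, 4, 5, 6, 7, 8, 9], [2, 5, 6, 7], [2, 5, 6, 9], [1, 3, 4, 5, 6, 7, 9], [0, 4, 5, 6, 7, 8], [0, 2, 3, 5, 6, 7, 8, 9], [0, 1, 2, 3, 5, 6], [0, 1, 2, 3, 5, 6, 7, 9], [1, 2, 3, 5, 6, 8], [4, 5, 6, 7], [4, 5, 6, 9], [1, 4, 5, 6, 8, 9], [1, 3, 5, 6, 8, 9], [2, 4, 5, 6, 7, 8, 9], [1, 2, 4, 5, 6, 7, 9], [3, 5, 6, 7], [1, 2, 4, 5, 6], [3, 5, 6, 9], [0, 3, 5, 6, 7, 8], [0, 1, 2, 4, 5, 6, 8], [0, 1, 2, 4, 7, 9], [0, 1, 3, 8, 9], [0, 3, 9], [1, 2, 4, 8], [0, 1, 2, 4], [0, 2, 4, 7, 8, 9], [3, 7, 8], [0, 3, 7], [0, 2, 3, 4, 6, 7, 8, 9], [0, 6, 7], [0, 1, 2, 3, 4, 6, 7, 9], [6, 7, 8], [0, 6, 9], [0, 1, 6, 8, 9], [1, 2, 3, 4, 6,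 8], [0, 1, 2, 3, 4, 6], [0, 1, 2, 3, 4, 5, 7], [0, 5, 8], [1, 5, 7, 8, 9], [5, 7, 9], [0, 2, 3, 4, 5, 8, 9], [1, 2, 3, 4, 5, 7, 8], [0, 1, 2, 3, 4, 5, 9], [5], [0, 1, 2, 7, 9], [3, 4, 7], [1, 2, 8], [0, 3, 4, 7, 8], [0, 1, 2], [1, 3, 4, 8, 9], [0, 2, 7, 8, 9], [3, 4, 9], [0, 2, 3, 7, 8, 9], [0, 1, 2, 3], [0, 4, 7, 8], [4, 9], [4, 7], [1, 4, 8, 9], [1, 2, 3, 8], [0, 1, 2, 3, 7, 9], [2, 3, 6, 9], [0, 2, 3, 6, 7, 8], [4, 6, 7, 8, 9], [1, 4, 6, 7, 9], [0, 1, 4, 6, 8], [1, 2, 3, 6, 8, 9], [2, 3, 6, 7], [1, 4, 6], [1, 2, 3, 4, 5, 9], [0, 1, 5, 7, 8, 9], [5, 8], [0, 5], [0, 1, 2, 3, 4, 5, 7, 8], [2, 3, 4, 5, 8, 9], [1, 2, 3, 4, 5, 7], [0, 5, 7, 9], [2, 4, 7, 9], [1, 2, 4, 7, 8, 9], [3, 8, 9], [2, 4], [1, 3, 7], [1, 3, 9], [0, 1, 3, 7, 8], [0, 2, 4, 8], [0, 1, 4, 5], [0, 2, 3, 5, 7], [0,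 4, 5, 7, 8, 9], [1, 4, 5, 8], [0, 1, 4, 5, 7, 9], [2, 3, 5, 7, 8], [0, 1, 2, 3, 5, 8, 9], [0, 2, 3, 5, 9], [3, 4, 5, 6, 7, 8], [0, 1, 2, 5, 6, 8], [0, 3, 4, 5, 6, 7], [2, 5, 6, 7, 8, 9], [1, 2, 5, 6, 7, 9], [1, 2, 5, 6], [0, 3, 4, 5, 6, 9], [0, 1, 3, 4, 5, 6, 8, 9]]

/-- Words of elements. -/
def elts2_4 : List (List ℕ) :=
  [[5, 7, 8], [0, 1, 2, 3, 4, 5, 7, 9], [0, 5, 9], [0, 1, 2, 3, 4, 5], [0, 2, 3, 4, 5, 7, 8, 9], [1, 2, 3, 4, 5, 8], [0, 5, 7], [0, 1, 5, 8, 9], [0, 1, 4, 5, 7, 8], [1, 4, 5, 7], [4, 5, 8, 9], [0, 2, 3, 5], [0, 1, 2, 3, 5, 7, 8, 9], [2, 3, 5, 8], [1, 4, 5, 9], [0, 2, 3, 5, 7, 9], [0, 1, 7, 9], [0, 2, 3, 4, 7, 8], [2, 3, 4, 9], [1, 8], [0, 1], [0, 7, 8, 9], [1, 2, 3, 4, 8, 9], [2, 3, 4, 7], [2, 4, 7, 8], [1, 3, 7, 9], [3, 7, 8, 9], [0, 2, 4, 9], [0, 2, 4, 7], [0,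 1, 3, 8], [0, 1, 2, 4, 8, 9], [1, 3], [1, 2, 5, 7, 8, 9], [0, 1, 3, 4, 5, 9], [2, 5, 7, 9], [1, 3, 4, 5, 7, 8], [0, 3, 4, 5, 8, 9], [0, 2, 5, 8], [0, 1, 3, 4, 5, 7], [2, 5], [0, 3, 6, 9], [3, 6, 7, 8], [0, 1, 2, 4, 6], [1, 2, 4, 6, 8], [0, 1, 3, 6, 8, 9], [0, 2, 4, 6, 7, 8, 9], [0, 3, 6, 7], [0, 1, 2, 4, 6, 7, 9], [1, 5, 9], [5, 8, 9], [0, 1, 5, 7, 8], [2, 3, 4, 5], [0, 2, 3, 4, 5, 8], [1, 2, 3, 4, 5, 7, 8, 9], [1, 5, 7], [2, 3, 4, 5, 7, 9], [0, 1, 4, 7, 9], [0, 2, 3, 7], [1, 4, 8], [0, 1, 4], [0, 1, 2, 3, 8, 9], [2, 3, 7, 8], [0, 4, 7, 8, 9], [0, 2, 3, 9], [4, 5, 8], [0, 1, 2, 3, 5, 7], [0, 4, 5, 7, 9], [1, 2, 3, 5, 7, 8], [0, 1, 4, 5, 7, 8, 9], [0, 2, 3, 5, 8, 9], [0, 4, 5], [0, 1, 2, 3, 5, 9], [7, 8], [0, 2, 3, 4, 7, 8, 9], [0, 7], [0, 9], [0, 1, 2, 3, 4, 7, 9], [0, 1, 2, 3, 4],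 [0, 1, 8, 9], [1, 2, 3, 4, 8], [1, 2], [0, 3, 4, 9], [2, 7, 8, 9], [0, 1, 3, 4, 8, 9], [1, 2, 7, 9], [3, 4, 7, 8], [0, 1, 2, 8], [0, 3, 4, 7], [0, 1, 5, 7], [1, 5, 7, 8], [0, 5, 8, 9], [0, 2, 3, 4, 5, 7, 9], [0, 1, 2, 3, 4, 5, 7, 8, 9], [2, 3, 4, 5, 8], [0, 1, 5, 9], [0, 2, 3, 4, 5], [3, 4, 6, 7, 8], [0, 3, 4, 6, 9], [1, 2, 6], [2, 6, 7, 8, 9], [0, 3, 4, 6, 7], [0, 1, 2, 6, 8], [0, 1, 3, 4, 6, 8, 9], [1, 2, 6, 7, 9], [3, 6, 7, 8, 9], [0, 2, 4, 6, 7], [1, 3, 6, 7, 9], [0, 1, 2, 4, 6, 8, 9], [0, 1, 3, 6, 8], [2, 4, 6, 7, 8], [0, 2, 4, 6, 9], [1, 3, 6], [0, 1, 2, 5, 7, 8], [1, 2, 5, 7], [3, 4, 5], [0, 3, 4, 5, 8], [1, 3, 4, 5, 7, 8, 9], [2, 5, 8, 9], [1, 2, 5, 9], [3, 4, 5, 7, 9], [0, 2, 3, 6, 7, 8, 9], [0, 4, 6, 7, 8], [4, 6, 7], [0, 1, 2, 3, 6], [1, 4, 6, 8, 9], [1, 2, 3, 6, 8], [4,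 6, 9], [0, 1, 2, 3, 6, 7, 9], [2, 4, 5, 8, 9], [1, 2, 4, 5, 9], [0, 3, 5], [0, 1, 3, 5, 7, 8, 9], [3, 5, 8], [1, 2, 4, 5, 7], [0, 1, 2, 4, 5, 7, 8], [0, 3, 5, 7, 9], [1, 2, 5, 6, 7, 8, 9], [0, 1, 3, 4, 5, 6, 7], [2, 5, 6], [1, 3, 4, 5, 6, 7, 8], [0, 1, 3, 4, 5, 6, 9], [0, 3, 4, 5, 6, 8, 9], [2, 5, 6, 7, 9], [0, 2, 5, 6, 8], [0, 1, 3, 5, 6, 9], [1, 3, 5, 6, 7, 8], [0, 1, 3, 5, 6, 7], [0, 1, 2, 4, 5, 6, 7, 8, 9], [0, 3, 5, 6, 8, 9], [2, 4, 5, 6, 8], [0, 2, 4, 5, 6, 7, 9], [0, 2, 4, 5, 6], [0, 1, 2, 5, 7, 9], [0, 2, 5, 7, 8, 9], [3, 4, 5, 7], [1, 2, 5, 8], [1, 3, 4, 5, 8, 9], [0, 1, 2, 5], [0, 3, 4, 5, 7, 8], [3, 4, 5, 9], [0, 2], [3, 4, 8, 9], [2, 8], [0, 2, 7, 9], [1, 3, 4, 7], [1, 3, 4, 9], [0, 1, 2, 7, 8, 9], [0, 1, 3, 4, 7, 8], [0, 1, 2, 3, 4, 5, 6, 7, 8], [1, 2, 3, 4, 5, 6, 7],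 [0, 5, 6, 7, 9], [1, 2, 3, 4, 5, 6, 9], [0, 1, 5, 6, 7, 8, 9], [5, 6, 8], [0, 5, 6], [2, 3, 4, 5, 6, 8, 9], [1, 3, 4, 5, 6, 8, 9], [0, 2, 5, 6, 7, 8, 9], [3, 4, 5, 6, 9], [1, 2, 5, 6, 8], [0, 1, 2, 5, 6], [0, 1, 2, 5, 6, 7, 9], [3, 4, 5, 6, 7], [0, 3, 4, 5, 6, 7, 8], [1, 5, 6, 8], [0, 2, 3, 4, 5, 6, 7, 8], [1, 2, 3, 4, 5, 6, 8, 9], [2, 3, 4, 5, 6, 7], [0, 1, 5, 6], [0, 1, 5, 6, 7, 9], [2, 3, 4, 5, 6, 9], [0, 5, 6, 7, 8, 9], [1, 2, 6, 8, 9], [2, 6, 7], [3, 4, 6, 7, 8, 9], [1, 3, 4, 6], [0, 1, 3, 4, 6, 8], [2, 6, 9], [0, 2, 6, 7, 8], [1, 3, 4, 6, 7, 9]]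

/-- Words of elements. -/
def elts2_5 : List (List ℕ) :=
  [[1, 3, 4, 5], [0, 2, 5, 7, 8], [2, 5, 9], [1, 2, 5, 8, 9], [0, 1, 3, 4, 5, 8], [1, 3, 4, 5, 7, 9], [3, 4, 5, 7, 8, 9], [2, 5, 7], [0, 2, 3, 4, 6, 7, 8], [1, 6, 8], [2, 3, 4, 6, 9], [0, 1, 6, 7, 9], [2, 3, 4, 6, 7], [1, 2, 3, 4, 6, 8, 9], [0, 6, 7, 8, 9], [0, 1, 6], [0, 2, 7, 8], [3, 4, 7, 8, 9], [2, 7], [2, 9], [1, 3, 4], [1, 3, 4, 7, 9], [1, 2, 8, 9], [0, 1, 3, 4, 8]]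

/-- Words of the letters for the prime 2. -/
def letters2 : List (List ℕ) :=
  [[4, 0, 3, 6, 3, 0, 2, 2, 2, 5, 3, 6, 0, 0, 0, 6, 0, 0, 2, 0, 2, 1, 5, 5, 1, 3, 5, 6, 3, 1, 5, 1, 1, 1, 6],
    [0, 3, 6, 2, 0, 2, 2, 2, 5, 2, 6, 0, 0, 2, 0, 3, 3, 5, 5, 0, 6, 2, 5, 3, 5, 3, 4, 3, 6, 5, 0, 6, 4, 1, 6, 1],
    [5, 3, 1, 2, 0, 4, 2, 6, 0, 4, 1, 3, 3, 1, 2, 1, 5, 1, 6, 4, 3, 0, 4],
    [0, 3, 1, 6, 3, 1, 2, 0, 0, 3, 6, 3, 3, 5, 6, 2, 1, 3, 1, 1, 3, 0, 3, 0, 3, 3, 0, 3, 1, 4, 0, 4, 1, 5, 3, 3, 0, 6, 0, 6, 2, 4],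
    [1, 1, 5, 1, 3, 5, 6, 1, 4, 0, 5, 3, 4, 4, 3, 5, 3, 5, 0, 4, 2, 1, 6, 4, 3, 0, 5, 2, 5, 3, 0, 6, 5],
    [2, 2, 6, 5, 1, 6, 1, 2, 0, 3, 1, 3, 4, 3, 0, 0, 6, 4, 3, 1, 1],
    [5, 2, 5, 0, 3, 6, 0, 2, 2, 4, 2, 6, 0, 5, 2, 5, 3, 1, 6],
    [6, 5, 6, 5, 5, 0, 4, 3, 5, 3, 1, 4, 1, 3, 3, 4, 1, 3, 5],
    [2, 2, 4, 3, 1, 1, 3, 1, 1, 6, 4, 1, 6, 5, 1, 2, 5, 1, 6, 2, 2],
    [4, 4, 1, 4, 4, 0, 3, 5, 0, 5, 5, 1, 1, 1, 5, 0],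
    [2, 2, 6, 0, 3, 0, 3, 1, 3, 5, 1, 2, 1, 4, 1, 4, 1, 6, 1, 6, 1, 4],
    [1, 3, 3, 6, 4, 3, 0, 6, 2, 5, 6, 4, 6, 2, 1, 6, 2, 5, 0, 5, 5, 2, 4, 1, 3, 1, 4, 3, 5, 3, 1, 6, 1, 5, 1, 6],
    [5, 5, 0, 5, 2, 1, 5, 1, 5, 6, 3, 4, 1, 5, 2, 2, 1, 1, 1, 5, 6, 4, 1, 2, 1, 5, 5, 0, 6, 0, 6, 1],
    [1, 5, 3, 5, 0, 3, 1, 3, 5, 2, 0, 0, 6, 0, 5, 3, 1, 3, 0, 5, 5, 2, 4, 0, 5, 0, 0, 2, 5, 5, 0, 5, 5, 0, 6],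
    [0, 3, 3, 3, 3, 5, 6, 0, 6, 0, 4, 1, 3, 5, 0, 4, 6, 5, 0, 3, 5, 5, 3, 1, 4, 6, 3, 5, 0, 2, 5, 1, 4, 6, 0, 2, 2, 1, 4, 4, 1, 4, 0],
    [3, 6, 0, 5, 2, 5, 6, 0, 3, 5, 5, 6, 1, 6, 1, 4, 2, 5, 5, 6, 1, 2, 6, 4, 2, 2, 4, 6, 3, 1, 4, 4, 1, 6, 5, 2, 2, 0, 6, 0, 3, 3]]

/-- Their columns. -/
def lcols2 : List (List ℕ) :=
  [[766617343580210777541365855443962448, 686053159117210708217780947458212498, 686053159112530843028753529294049810, 686215418389204218302714012934750734, 771642310714257983655456133370956240, 686053159112379870263568276325417614, 766455084303532679905285506165455312, 686053159117215430579901096564113934, 686053164068970860743116831211405842, 686053159112375147901729876805698066, 771647386113827664531358115883989584, 691245455970909980281417109374255634, 766450018807483313312416926483958352,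 766612278084463642403400933324569040, 771809645390505762167157265332128208, 686053159117361966907499351514829326, 771804569991238312746158939844328016, 686058229874354273615508458552443406, 686053164064140032021283387589804558, 852206817041814512964783882193355278, 686058229869523140522397807313175058, 686215418394044786905418366601282066, 691245455975750253745223482951090702, 852206817046655090799867480567726610],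
    [769129829620772163085500892037268054, 602976488608818415395848331477926610, 683540673226707235273007092648593936, 688727904279863524581263032749472272, 688565640205865690833523517390670352, 769129829620772163085500892305703502, 688732974882113469345224649351842320, 688727899482845872494384524347132432, 683540678178320999197533542097177104, 688732969930499705708928292587391504, 769129829620772163094508091292009038, 688732970085095817258636403429292560, 769129829630443569642417925434917454, 683535607576071349581468317344283152, 683378413795140387083352890185169424, 683378418901643048991567671210887696, 769129829620772172308872928892043854, 688565645157772241479988159720147472, 688732975037002367616870403319347728, 769130146533422220142851266213069390, 688570715605435224279592496479554064,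 683535607421173006576865620171246096, 688570715760021891096326071946656272, 935283487555047383621800096548012498],
    [769210959259184337105073760476021270, 688651840291936268392454747316570704, 683459543588295061253434224209840720, 769210959259184337105073760476283406, 688646769844277864853096385829423568, 688646769844428980720155538022218320, 683454477937503194510057178942425680, 688646774641446632806752580029401680, 688651845243696430141162659334605264, 683454477782911800715295448734648912, 688651845243847545728998368342456912, 683459548539904107423304564353808976, 683459543433552561102925758623922640, 769210959259184632252978939828847118, 769210959268855743661990793873670670, 683459548540055223011140539649640912, 769210959259193781838039499766448654, 688651845398590046167455735371811280,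 688646774796189133254498621021764048, 769211276171834394162424134651822606, 688651840446829893642128647443204688, 603219877524064668103058619059749394, 688651845398438930300396849466980944, 935202357916635209602227228109259282],
    [645854731745539212838067633500243499, 731443883342586340845901019895807473, 726251591435962786090706309519756785, 726413850562734082090073577127132657, 645854731745539212838067633491854899, 726256656931709921228671231907577457, 726251591435811670214640232950120049, 726251586488882498745399449098894833, 806815934355283018470101913326630319, 726251586484197906578343876185669233, 726413845760876004214143025633807857, 811840901339272307368641528589764143, 731443883187994956274230126175567345, 645854731745538917690162454147417651, 812008072762328520843771264712099375,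 726256657086452430602551734348271089, 726256657091288129413294422599777777, 812008226266893387623883808196445743, 726251744785634036835236836716170737, 731449117353067717067084079876783601, 726251744945363360607704524187483633, 731606142619415554069544665586712049, 726414004217205759720982565174623857, 812008231373400776798365916484650543],
    [766617343580286261615863741752560208, 686053159117135224143283061149614738, 686053159112455358954255642985452050, 771804574788180333328697762421160400, 686053159117135219527093580538139150, 771642310714333615448017399255153232, 686053159117139946505403210255516174, 766455084303457195830787619856857552, 686053159267042025770998014537187858, 686053159112450631976227496826323474, 686053159112455354347073361620320910, 686053164064064395900754221152551442,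 771642315511351267534614441262336592, 686215418389279997525117078595912206, 771804569991162681241819254018820560, 766455089409959857739002400882575824, 766617348686788923523797056399882832, 686053159272033562531705073795809806, 686053164069046497151867577707348494, 852206817041739028890285995884757518, 691250526578222075800681892188471826, 686215418393969302830920480292684306, 691250526573239983772940297610805774, 852206817046730574874365366876324370],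
    [769127371071854218341036652457640470, 683538219474811660658299059416156624, 683538061173078025924530596601088592, 688730516488088993197501948503865936, 602978947157736655288217750410379794, 688730358031759246914034445549390288, 688730516488084275442564363962501712, 683375960352720229838960806811224656, 769127371071854218629267028609352206, 683538061018481914374831281852201552, 769127371071854218350043851712381454, 683538219629403054453069302517549520, 769137512276656044176248626083283470, 688568098754783635577987756970297936, 683375960352724956817270427947055696, 688568098600192251006308067425471056, 688568257056517279535128256899926480, 688730358031763964668690563712104912, 688568257211103946351861832367028688, 688730516333195377170927406079883856, 769127371081525624897953685855289870,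 688730516333190650192899251338955344, 769127380975374532624078851650634254, 935285946103965328366264336127640082],
    [769129908773978991373501352796242454, 683540757326843235318478438532598352, 683535681777366752814861777241717328, 683373268996123788398950359186885072, 769129908773978991373501352804631054, 688570789956788692446599990026521040, 688727983582826038918140874761652688, 688727983587812853307720860269365840, 769129908773988436106467092086669838, 688727820179727672253854791823215184, 602976409455611882255753050071777810, 683378498054849729849735128285657680, 769129908773978991373510148889264654, 688570636456908408610452457308899920, 688733049238453613695632370257443280, 688732895728901923302568070698580560, 683540757331527827485534002856151504, 688565724306147941282060250605238864,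 688732895733888737701155264050706896, 688570789961473284604648363685005904, 769129908773978991661731728947954190, 683540593918758054264331169719470672, 769129909083464001194846421521023502, 935283408401840555333799635789038098],
    [686053159114795289249681811012338192, 686053159114795289240674611757597456, 686053159115097520695578269051273744, 686377677668453715967457767778173456, 686053159114795584388579791110423056, 686053159114795289240674612026032656, 686053159114804733973640351048024592, 686053159114795289240674886635504144, 686053169018315603523716810950590992, 686053159114795289240956086734307856, 686053159114795289240674611757597208, 696437752831864944497735604416037392, 686053159124466695797591645155246608, 686053159114795289240674611765985808, 686053159114795289240674620347531792,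 686053159114795289240674611757605392, 686053159114795298464046648612373008, 686053159424280299062019680482378256, 686053159114795289240683407850619408, 686053476027445346298024985933398544, 686063300319597115075886585383240208, 686053159114795289240674611757859344, 686053159114795289528904987909308944, 1018360158061024257466626376827683344],
    [766531222645004582453333759575474646, 766531222645004582453333759575474894, 686134209450171828333523104545851920, 686134368056398931520747020852214288, 685971950327933999690284864088132112, 605575095584585996028015464208155218, 766541363849806408288545733201117646, 685972108779574445275131521312311824, 686134368056252690340772195399715344, 686134209445180434683696868888234512, 685972108629667791077258367441910288, 686134368061088389151796358627670544,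 685972108784254457894000738993392144, 686134209600078777688308362145905168, 685972108624832083331092818388535824, 686134209604914476210820674245708304, 686134368061234639554861471080335888, 685971950328080545232248231516781072, 766531232548524896736375958768468430, 686134367906345741283224513197718032, 766531222645004582453333768165409230, 686134367906492277602097043870403088, 776915816362074237710394752233914830, 937882094530814964253967229009805906],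
    [686053159114795289240674611765985808, 686053159114795289240674612026032656, 686053159114795289240674611757605392, 686377677668453715967457767778173456, 686053159114795289240674611757597208, 686053159114795289240674611757597456, 686053159124466695797591645155246608, 686053159114795289240674886635504144, 686053159114795289240683407850619408, 686053159114795289240956086734307856, 686053159114795584388579791110423056, 696437752831864944497735604416037392, 686053159114804733973640351048024592, 686053159114795289249681811012338192, 686053159114795298464046648612373008, 686053159115097520695578269051273744, 686053159114795289240674620347531792, 686063300319597115075886585383240208, 686053169018315603523716810950590992, 686053476027445346298024985933398544, 686053159424280299062019680482378256,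 686053159114795289240674611757859344, 686053159114795289528904987909308944, 1018360158061024257466626376827683344],
    [769208505741742378663848102637027920, 688649228318315679246590087694666386, 769046246310321780580303187074433616, 688811487590309189331523153431251470, 683457089911274899234759135828916878, 769046241513153012626646992874455504, 769051317067465193941006342416843216, 688649386924552231773962299526105614, 683462160513671089785886646743878162, 688649391726400864916927111997438478, 688649228313635814066569869045283346, 688649386769805009252607968877754898, 683456931459785578740343667643927054, 849610430928059780026529546873879054, 769213576189400791138348124835627472, 683457089916256995878690211018328590, 769213571392534254630588388666196560, 683456931614523356528732267591776786,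 683456936406710027847745785687460370, 769208500635390832334743572629111248, 688654298920721314530683346489981454, 683619349192939815876609226104781330, 769051311960811416166005354361602640, 854802886247760061828676621064227346],
    [602979026385901383159594588379361808, 683538140401389290123505689520785998, 769127291843689343039826811073151376, 769132520747677354367961332533641744, 688730437109866200392511076893739474, 688730437105181617448546065858579026, 688568177982943788805308100278504018, 688568336439419937529146546414176718, 769132367397855135465436629550187024, 769132525854175289297875288256496144, 768970103174101320520914828463260176, 769127455256610084410025425148264976, 688568177828352547047561938319460942, 683538140246495674097212613483579982, 769127296800289778252332309156545036,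 683375881124408965639985439022008914, 769132367402686116233292823763829264, 683538140401394012485625830036752850, 683375885921577733602648832476727762, 763940224048716160136031607158555152, 688735507862173919549372900120742350, 769127455251628135204934552629363216, 769127450304854797069187458806530576, 854883936733038606476838961605524050],
    [602976411856535979706845256038763024, 683540596474429669663905787706688082, 688570792512455442373173643896767058, 688727981031994844691428536054530642, 769129906373054598783511166739560976, 688732893332808659198505988219421138, 688570792357566691819600065589756370, 688733051789289378247159019020435918, 769129906373054598783792641707883024, 688570634055984168057477831171064398, 769129906373054608006883203585948176, 688732893178221844663700511701549650,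 769129906373054598783511166731180560, 683373266595199395808960173121814994, 688565721910059399540118308642046542, 683540754930598712524698226606555726, 688727981186883890392907568323838418, 683540754776012193137797654832038350, 683378495499178257552034134644703826, 683535684328202669403412506878624338, 769129916276574913066553365924166160, 688727822575816357097679428835164750, 769129906382726005340428200128821776, 935283410802764947923789821854108176],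
    [648369827286183409792138557521380913, 728766528525112935284103243053452911, 728928941306511594827038588474543599, 648531928111523145580204006078662193, 728933858249605279016407680970964463, 643177376923234678790341761661650481, 728766686981442681567579816710421999, 728934016860668089949524467446758895, 728934016855832382203631597277072879, 643339636354655276864879477969765937, 728928782845346288227519740258074095, 728928946258267029597718354333187695, 728928946103524667653670855316651631, 723736649244838728909519684298657263, 809330871444437885418154964754613805, 728928946258267177027551357757345263, 723736649399737071914122381471694319, 728928946253285080392627481814285935, 643177530427799545561446831282046513, 723741715050373105323724536343477871, 728771757583687613428980136074067439,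 809330871444437885418154956164679221, 643177372130901757068262856235402801, 895082445731381661289146032420601331],
    [728931402253936152007970945410450925, 643179986583042158401393816273272367, 728931397302175994866454376870360561, 643179991529815496537149705928818223, 728931402253785040748094340862625265, 809328415448768763016900776839069359, 723571933972496226627122465097696753, 728926331651530521331069038943061485, 728931560705425477109568961240417777, 648367217785954133758527137627356719, 728931402403838231273565749692122609, 809328415448769058164805956191894959, 728926331806277743852423103303431665, 728931560710261185143692207561553393, 648367212839024957384866497012682291, 728931560710256458165664061133997553, 643337175252639477935208158329294383, 723739105395250208647348818804262385,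 728931555913092412573846532741711341, 643337175252483639985524987689156147, 728769138020511082831786567951500785, 728769143131849443550752833321485809, 723739105550143833897295397814584817, 895084901727050783690400211746211441],
    [688649466077685861145372831584307726, 688649312573267235545235113552460302, 763859099362064000156101678752874960, 683457010608229893582578760882407954, 683619270039806186505198702636251666, 683457010608083500077639749474007566, 688649307466613462377416406862350866, 683457010762825857414214421186169490, 769051237764273794783886956061672016, 769213492089342855473187527342965200, 688649307471604999138123465852799502, 769046320666437757865116677125452368, 769213492084507152343484137785016908, 769208426438550979506719920197485008, 769213655337849828342703083980603984,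 769046167157037183059896882399035984, 603060156024313557179167452388934224, 688654378223757023167961361713543698, 688649307466769443437980401103485458, 683457010762972398349276707356625422, 769051391264002815323133536809533904, 769208584890191425091575098636779984, 769208579943262244110732176656974416, 854802807094626432457266089006025234]]

/-- Vectors with a regular orbit. -/
def base2 : List ℕ := [769213573790967670602540432549822992, 809412082864264052374172491855674929]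

/-- Words of the elements of the Sylow 2-subgroup, by increasing keys. -/
def elts2 : List (List ℕ) :=
  elts2_0 ++ elts2_1 ++ elts2_2 ++ elts2_3 ++ elts2_4 ++ elts2_5

/-- The certificate for the prime 2. -/
def cert2 : SchurPath.Cert where
  m := 10
  rels := [([0, 0], []),
    ([1, 0], [0, 1]),
    ([1, 1], []),
    ([2, 0], [0, 2]),
    ([2, 1], [1, 2]),
    ([2, 2], []),
    ([3, 0], [0, 3]),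
    ([3, 1], [1, 3]),
    ([3, 2], [2, 3]),
    ([3, 3], []),
    ([4, 0], [0, 4]),
    ([4, 1], [1, 4]),
    ([4, 2], [2, 4]),
    ([4, 3], [0, 3, 4]),
    ([4, 4], []),
    ([5, 0], [0, 5]),
    ([5, 1], [1, 5]),
    ([5, 2], [2, 5]),
    ([5, 3], [1, 3, 5]),
    ([5, 4], [1, 4, 5]),
    ([5, 5], [1]),
    ([6, 0], [0, 6]),
    ([6, 1], [1, 6]),
    ([6, 2], [2, 6]),
    ([6, 3], [1, 2, 3, 6]),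
    ([6, 4], [1, 2, 4, 6]),
    ([6, 5], [5, 6]),
    ([6, 6], [1, 2]),
    ([7, 0], [0, 7]),
    ([7, 1], [1, 7]),
    ([7, 2], [0, 2, 7]),
    ([7, 3], [0, 1, 3, 7]),
    ([7, 4], [0, 1, 4, 7]),
    ([7, 5], [1, 5, 7]),
    ([7, 6], [0, 1, 2, 3, 4, 6, 7]),
    ([7, 7], []),
    ([8, 0], [0, 8]),
    ([8, 1], [1, 8]),
    ([8, 2], [1, 2, 8]),
    ([8, 3], [1, 3, 8]),
    ([8, 4], [0, 1, 4, 8]),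
    ([8, 5], [5, 8]),
    ([8, 6], [1, 2, 5, 6, 8]),
    ([8, 7], [0, 1, 7, 8]),
    ([8, 8], []),
    ([9, 0], [0, 9]),
    ([9, 1], [0, 1, 9]),
    ([9, 2], [0, 2, 9]),
    ([9, 3], [1, 2, 3, 9]),
    ([9, 4], [0, 1, 2, 4, 9]),
    ([9, 5], [0, 1, 2, 3, 4, 5, 9]),
    ([9, 6], [1, 2, 6, 9]),
    ([9, 7], [7, 9]),
    ([9, 8], [0, 2, 3, 4, 7, 8, 9]),
    ([9, 9], []),
    ([10, 1], [1, 2, 3, 4, 7, 8, 10]),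
    ([10, 8], [0, 8, 10]),
    ([10, 2, 4, 5], [0, 3, 5, 7, 8, 10]),
    ([10, 3, 5, 7], [2, 4, 5, 8, 10]),
    ([11, 1, 4], [0, 8, 11]),
    ([11, 1, 2, 5, 8], [1, 2, 4, 11]),
    ([11, 1, 3, 5, 7], [0, 1, 4, 5, 7, 11]),
    ([12, 8], [2, 7, 9, 12]),
    ([12, 1, 2, 4, 5], [1, 2, 4, 5, 6, 12]),
    ([12, 1, 3, 5, 7], [0, 1, 2, 4, 5, 6, 7, 9, 12]),
    ([13, 1, 3, 5, 7], [2, 3, 6, 9, 13]),
    ([13, 2, 4, 5, 8], [2, 3, 4, 6, 9, 13]),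
    ([14, 2, 4], [1, 4, 14]),
    ([14, 2, 6, 9], [0, 2, 5, 6, 7, 9, 14]),
    ([14, 1, 2, 5, 7], [0, 1, 6, 9, 14]),
    ([15, 2], [1, 2, 3, 4, 9, 15]),
    ([15, 4], [0, 1, 2, 15]),
    ([15, 3, 6, 9], [1, 4, 6, 15]),
    ([15, 1, 3, 5, 7], [0, 4, 6, 9, 15])]
  paths := [([5, 5, 5], [([], [5], 20, false),
      ([], [], 16, true),
      ([5], [], 20, true)]),
    ([6, 6, 6], [([], [6], 27, false),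
      ([1], [], 23, true),
      ([], [2], 22, true),
      ([6], [], 27, true)]),
    ([5, 5, 0], [([], [0], 20, false),
      ([], [], 1, false),
      ([0], [], 20, true),
      ([], [5], 15, true),
      ([5], [], 15, true)]),
    ([5, 5, 2], [([], [2], 20, false),
      ([], [], 4, true),
      ([2], [], 20, true),
      ([], [5], 17, true),
      ([5], [], 17, true)]),
    ([6, 5, 5], [([], [5], 26, false),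
      ([5], [], 26, false),
      ([], [6], 20, false),
      ([], [], 22, true),
      ([6], [], 20, true)]),
    ([8, 5, 5], [([], [5], 41, false),
      ([5], [], 41, false),
      ([], [8], 20, false),
      ([], [], 37, true),
      ([8], [], 20, true)]),
    ([4, 4, 3], [([], [3], 14, false),
      ([3], [], 14, true),
      ([], [3, 4, 4], 0, true),
      ([0], [4], 13, true),
      ([], [3, 4], 10, true),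
      ([4], [], 13, true)]),
    ([4, 3, 3], [([], [3], 13, false),
      ([0, 3], [], 13, false),
      ([0], [3, 4], 6, false),
      ([], [3, 3, 4], 0, false),
      ([], [4], 9, false),
      ([4], [], 9, true)]),
    ([5, 3, 3], [([], [3], 18, false),
      ([1, 3], [], 18, false),
      ([1], [3, 5], 7, false),
      ([], [3, 3, 5], 2, false),
      ([], [5], 9, false),
      ([5], [], 9, true)]),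
    ([5, 4, 4], [([], [4], 19, false),
      ([1, 4], [], 19, false),
      ([1], [4, 5], 11, false),
      ([], [4, 4, 5], 2, false),
      ([], [5], 14, false),
      ([5], [], 14, true)]),
    ([6, 6, 0], [([], [0], 27, false),
      ([1], [], 3, false),
      ([], [2], 1, false),
      ([0], [], 27, true),
      ([], [6], 21, true),
      ([6], [], 21, true)]),
    ([6, 6, 5], [([], [5], 27, false),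
      ([1], [], 17, true),
      ([], [2], 16, true),
      ([5], [], 27, true),
      ([], [6], 26, true),
      ([6], [], 26, true)]),
    ([7, 7, 2], [([], [2], 35, false),
      ([2], [], 35, true),
      ([], [2, 7, 7], 0, true),
      ([0], [7], 30, true),
      ([], [2, 7], 28, true),
      ([7], [], 30, true)]),
    ([7, 2, 2], [([], [2], 30, false),
      ([0, 2], [], 30, false),
      ([0], [2, 7], 3, false),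
      ([], [2, 2, 7], 0, false),
      ([], [7], 5, false),
      ([7], [], 5, true)]),
    ([7, 7, 5], [([], [5], 35, false),
      ([5], [], 35, true),
      ([], [5, 7, 7], 2, true),
      ([1], [7], 33, true),
      ([], [5, 7], 29, true),
      ([7], [], 33, true)]),
    ([8, 8, 2], [([], [2], 44, false),
      ([2], [], 44, true),
      ([], [2, 8, 8], 2, true),
      ([1], [8], 38, true),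
      ([], [2, 8], 37, true),
      ([8], [], 38, true)]),
    ([9, 9, 1], [([], [1], 54, false),
      ([1], [], 54, true),
      ([], [1, 9, 9], 0, true),
      ([0], [9], 46, true),
      ([], [1, 9], 45, true),
      ([9], [], 46, true)]),
    ([10, 8, 8], [([], [8], 56, false),
      ([0, 8], [], 56, false),
      ([0], [8, 10], 36, false),
      ([], [8, 8, 10], 0, false),
      ([], [10], 44, false),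
      ([10], [], 44, true)]),
    ([11, 1, 4, 1, 4], [([], [1, 4], 59, false),
      ([0, 8], [], 59, false),
      ([0], [8, 11], 36, false),
      ([], [8, 8, 11], 0, false),
      ([], [11], 44, false),
      ([11], [], 14, true),
      ([11], [4, 4], 2, true),
      ([11, 1], [4], 11, true)]),
    ([14, 2, 4, 2, 4], [([], [2, 4], 67, false),
      ([1, 4], [], 67, false),
      ([1], [4, 14], 11, false),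
      ([], [4, 4, 14], 2, false),
      ([], [14], 14, false),
      ([14], [], 14, true),
      ([14], [4, 4], 5, true),
      ([14, 2], [4], 12, true)]),
    ([6, 3, 3], [([], [3], 24, false),
      ([1, 2, 3], [], 24, false),
      ([1, 2], [2, 3, 6], 7, false),
      ([1], [3, 2, 3, 6], 4, false),
      ([], [2, 3, 2, 3, 6], 2, false),
      ([2], [3, 6], 8, false),
      ([], [3, 3, 6], 5, false),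
      ([], [6], 9, false),
      ([6], [], 9, true)]),
    ([7, 5, 2], [([], [2], 33, false),
      ([1, 5], [], 30, false),
      ([1], [2, 7], 15, false),
      ([], [5, 2, 7], 1, false),
      ([0, 1], [7], 17, false),
      ([0], [5, 7], 4, true),
      ([0, 2], [], 33, true),
      ([], [5], 30, true),
      ([7], [], 17, true)]),
    ([15, 4, 4], [([], [4], 71, false),
      ([0, 1, 2], [], 71, false),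
      ([0, 1], [1, 2, 15], 3, false),
      ([0], [2, 1, 2, 15], 1, false),
      ([], [1, 2, 1, 2, 15], 0, false),
      ([1], [2, 15], 4, false),
      ([], [2, 2, 15], 2, false),
      ([], [15], 5, false),
      ([15], [], 14, true)]),
    ([9, 9, 3], [([], [3], 54, false),
      ([3], [], 54, true),
      ([], [3, 9, 9], 5, true),
      ([], [2, 2, 3, 9, 9], 2, true),
      ([1], [2, 3, 9, 9], 4, true),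
      ([1, 2], [9], 48, true),
      ([], [1, 2, 9, 3, 9], 0, true),
      ([0], [2, 9, 3, 9], 1, true),
      ([0, 1], [3, 9], 47, true),
      ([], [2, 3, 9], 46, true),
      ([9], [], 48, true)]),
    ([9, 6, 1], [([], [1], 51, false),
      ([1, 2, 6], [], 46, false),
      ([1, 2], [1, 9], 21, false),
      ([1], [6, 1, 9], 3, false),
      ([], [2, 6, 1, 9], 1, false),
      ([0, 1, 2], [9], 22, false),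
      ([0, 1], [6, 9], 4, false),
      ([0], [2, 6, 9], 2, false),
      ([0], [2, 6, 9], 2, true),
      ([0, 1], [], 51, true),
      ([], [6], 46, true),
      ([9], [], 22, true)]),
    ([12, 8, 8], [([], [8], 62, false),
      ([2, 7, 9], [], 62, false),
      ([2, 7], [7, 9, 12], 47, false),
      ([2], [2, 9, 7, 9, 12], 28, false),
      ([], [7, 2, 9, 7, 9, 12], 3, false),
      ([0, 2], [9, 7, 9, 12], 30, false),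
      ([0], [2, 7, 9, 7, 9, 12], 3, false),
      ([], [2, 2, 7, 9, 7, 9, 12], 0, false),
      ([], [7, 9, 7, 9, 12], 5, false),
      ([7], [9, 12], 52, false),
      ([], [9, 9, 12], 35, false),
      ([], [12], 54, false),
      ([12], [], 44, true)]),
    ([8, 8, 6], [([], [6], 44, false),
      ([6], [], 44, true),
      ([], [6, 8, 8], 2, true),
      ([1], [6, 8, 8], 20, true),
      ([1], [5, 5, 6, 8, 8], 5, true),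
      ([1, 2], [5, 6, 8, 8], 17, true),
      ([], [5, 2, 5, 6, 8, 8], 4, true),
      ([2], [2, 5, 6, 8, 8], 16, true),
      ([2, 5], [8], 42, true),
      ([2], [6, 8], 41, true),
      ([], [2, 8, 5, 6, 8], 2, true),
      ([1], [5, 6, 8], 38, true),
      ([], [2, 5, 6, 8], 37, true),
      ([8], [], 42, true)]),
    ([8, 6, 6], [([], [6], 42, false),
      ([1, 2, 5, 6], [], 42, false),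
      ([1, 2, 5], [2, 5, 6, 8], 22, false),
      ([1, 2], [6, 2, 5, 6, 8], 16, false),
      ([1], [5, 6, 2, 5, 6, 8], 4, false),
      ([], [2, 5, 6, 2, 5, 6, 8], 2, false),
      ([2, 5], [5, 6, 8], 23, false),
      ([2], [6, 5, 6, 8], 17, false),
      ([], [5, 6, 5, 6, 8], 5, false),
      ([5], [6, 8], 26, false),
      ([], [6, 6, 8], 20, false),
      ([1], [8], 27, false),
      ([], [2, 8], 2, false),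
      ([], [2, 8], 2, true),
      ([1], [], 38, true),
      ([], [2], 37, true),
      ([8], [], 27, true)]),
    ([9, 7, 3], [([], [3], 52, false),
      ([7], [], 48, false),
      ([], [2, 3, 9], 29, false),
      ([1], [3, 9], 30, false),
      ([], [2, 7, 3, 9], 1, false),
      ([0, 1, 2], [9], 31, false),
      ([0, 1], [1, 3, 7, 9], 3, false),
      ([0], [2, 1, 3, 7, 9], 1, false),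
      ([], [1, 2, 1, 3, 7, 9], 0, false),
      ([1], [3, 7, 9], 4, false),
      ([], [2, 3, 7, 9], 2, false),
      ([2, 3], [], 52, true),
      ([], [2, 3, 9, 7], 2, true),
      ([1], [7], 48, true),
      ([], [1, 9, 3, 7], 0, true),
      ([0], [3, 7], 46, true),
      ([], [1, 3, 7], 45, true),
      ([9], [], 31, true)]),
    ([7, 6, 5], [([], [5], 34, false),
      ([0, 1, 2, 3, 4, 6], [], 33, false),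
      ([0, 1, 2, 3, 4], [5, 7], 22, false),
      ([0, 1, 2, 3], [6, 5, 7], 11, false),
      ([0, 1, 2], [4, 6, 5, 7], 7, false),
      ([0, 1], [3, 4, 6, 5, 7], 4, false),
      ([0], [2, 3, 4, 6, 5, 7], 2, false),
      ([0, 2, 3, 4], [7], 26, false),
      ([0], [2, 3, 4, 5, 6, 7], 2, true),
      ([0, 1], [3, 4, 5, 6, 7], 4, true),
      ([0, 1, 2], [4, 5, 6, 7], 7, true),
      ([0, 1, 2, 3], [6, 7], 19, true),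
      ([0], [3, 5, 4, 6, 7], 4, true),
      ([0, 2], [4, 6, 7], 18, true),
      ([0], [3, 4, 6, 7], 17, true),
      ([0], [5, 2, 3, 4, 6, 7], 2, true),
      ([0, 1], [2, 3, 4, 6, 7], 16, true),
      ([], [5, 1, 2, 3, 4, 6, 7], 1, true),
      ([1], [1, 2, 3, 4, 6, 7], 15, true),
      ([1, 5], [], 34, true),
      ([], [6], 33, true),
      ([7], [], 26, true)]),
    ([8, 6, 3], [([], [3], 42, false),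
      ([1, 2, 5, 6], [], 39, false),
      ([1, 2, 5], [3, 8], 22, false),
      ([1, 2], [6, 3, 8], 16, false),
      ([1], [5, 6, 3, 8], 4, false),
      ([], [2, 5, 6, 3, 8], 2, false),
      ([2, 5], [8], 24, false),
      ([2], [2, 3, 6, 8], 16, false),
      ([], [5, 2, 3, 6, 8], 4, false),
      ([1, 2], [3, 6, 8], 17, false),
      ([1], [5, 3, 6, 8], 5, false),
      ([1], [6, 8], 18, false),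
      ([], [3, 5, 6, 8], 2, false),
      ([], [3, 5, 6, 8], 5, true),
      ([2], [5, 6, 8], 8, true),
      ([], [2, 3, 2, 5, 6, 8], 2, true),
      ([1], [3, 2, 5, 6, 8], 4, true),
      ([1, 2], [2, 5, 6, 8], 7, true),
      ([1, 2, 3], [], 42, true),
      ([], [3, 8, 6], 4, true),
      ([2], [6], 39, true),
      ([], [2, 8, 3, 6], 2, true),
      ([1], [3, 6], 38, true),
      ([], [2, 3, 6], 37, true),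
      ([8], [], 24, true)]),
    ([15, 3, 6, 9, 4], [([], [4], 72, false),
      ([1, 4, 6], [], 71, false),
      ([1, 4], [1, 2, 15], 21, false),
      ([1], [6, 1, 2, 15], 10, false),
      ([], [4, 6, 1, 2, 15], 1, false),
      ([0, 1, 4], [2, 15], 22, false),
      ([0, 1], [6, 2, 15], 11, false),
      ([0], [4, 6, 2, 15], 2, false),
      ([0, 4], [15], 23, false),
      ([0], [6, 15], 12, false),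
      ([0], [2, 4, 6, 15], 2, true),
      ([0, 1], [4, 6, 15], 4, true),
      ([0, 1, 2], [], 72, true),
      ([], [3, 6, 9], 71, true),
      ([15], [6, 9], 13, false),
      ([15, 0], [3, 4, 6, 9], 5, true),
      ([15, 0, 2], [4, 6, 9], 8, true),
      ([15, 0], [2, 3, 2, 4, 6, 9], 2, true),
      ([15, 0, 1], [3, 2, 4, 6, 9], 4, true),
      ([15, 0, 1, 2], [2, 4, 6, 9], 7, true),
      ([15, 0, 1, 2, 3], [9], 25, true),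
      ([15, 0, 1], [6, 4, 9], 8, true),
      ([15, 0, 1, 3], [4, 9], 23, true),
      ([15, 0], [6, 2, 4, 9], 7, true),
      ([15, 0, 3], [2, 4, 9], 22, true),
      ([15], [6, 1, 2, 4, 9], 6, true),
      ([15, 3], [1, 2, 4, 9], 21, true),
      ([15, 3, 6], [], 49, true)]),
    ([9, 6, 5], [([], [5], 51, false),
      ([1, 2, 6], [], 50, false),
      ([1, 2], [1, 2, 3, 4, 5, 9], 21, false),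
      ([1], [6, 1, 2, 3, 4, 5, 9], 3, false),
      ([], [2, 6, 1, 2, 3, 4, 5, 9], 1, false),
      ([0, 1, 2], [2, 3, 4, 5, 9], 22, false),
      ([0, 1], [6, 2, 3, 4, 5, 9], 4, false),
      ([0], [2, 6, 2, 3, 4, 5, 9], 2, false),
      ([0, 2], [3, 4, 5, 9], 23, false),
      ([0], [6, 3, 4, 5, 9], 5, false),
      ([0], [4, 5, 9], 24, false),
      ([0, 1, 2, 3], [5, 9], 25, false),
      ([0, 1, 2], [2, 4, 6, 5, 9], 7, false),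
      ([0, 1], [3, 2, 4, 6, 5, 9], 4, false),
      ([0], [2, 3, 2, 4, 6, 5, 9], 2, false),
      ([0, 2], [4, 6, 5, 9], 8, false),
      ([0], [3, 4, 6, 5, 9], 5, false),
      ([0, 3, 4], [9], 26, false),
      ([0], [3, 4, 5, 6, 9], 5, true),
      ([0, 2], [4, 5, 6, 9], 8, true),
      ([0, 2, 3], [5, 6, 9], 12, true),
      ([0, 2, 3, 4], [6, 9], 17, true),
      ([0], [2, 3, 4, 5, 2, 6, 9], 2, true),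
      ([0, 1], [3, 4, 5, 2, 6, 9], 4, true),
      ([0, 1, 2], [4, 5, 2, 6, 9], 7, true),
      ([0, 1, 2, 3], [5, 2, 6, 9], 11, true),
      ([0, 1, 2, 3, 4], [2, 6, 9], 16, true),
      ([0, 1, 2, 3, 4, 5], [], 51, true),
      ([], [6], 50, true),
      ([9], [], 26, true)]),
    ([9, 7, 5], [([], [5], 52, false),
      ([7], [], 50, false),
      ([], [1, 2, 3, 4, 5, 9], 28, false),
      ([0], [2, 3, 4, 5, 9], 29, false),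
      ([0, 1], [3, 4, 5, 9], 30, false),
      ([0], [2, 7, 3, 4, 5, 9], 1, false),
      ([], [1, 2, 7, 3, 4, 5, 9], 0, false),
      ([1, 2], [4, 5, 9], 31, false),
      ([1], [1, 3, 7, 4, 5, 9], 3, false),
      ([], [2, 1, 3, 7, 4, 5, 9], 1, false),
      ([0, 1], [3, 7, 4, 5, 9], 4, false),
      ([0], [2, 3, 7, 4, 5, 9], 2, false),
      ([0, 2, 3], [5, 9], 32, false),
      ([0, 2], [1, 4, 7, 5, 9], 6, false),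
      ([0], [3, 1, 4, 7, 5, 9], 3, false),
      ([], [2, 3, 1, 4, 7, 5, 9], 0, false),
      ([2], [4, 7, 5, 9], 7, false),
      ([], [3, 4, 7, 5, 9], 4, false),
      ([1, 2, 3, 4], [9], 33, false),
      ([1, 2, 3], [5, 7, 9], 11, false),
      ([1, 2], [4, 5, 7, 9], 7, false),
      ([1], [3, 4, 5, 7, 9], 4, false),
      ([], [2, 3, 4, 5, 7, 9], 2, false),
      ([2, 3, 4, 5], [], 52, true),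
      ([], [2, 3, 4, 5, 9, 7], 2, true),
      ([], [1, 1, 2, 3, 4, 5, 9, 7], 0, true),
      ([0], [1, 2, 3, 4, 5, 9, 7], 1, true),
      ([0, 1], [7], 50, true),
      ([], [5, 7], 46, true),
      ([9], [], 33, true)]),
    ([9, 5, 5], [([], [5], 50, false),
      ([0, 1, 2, 3, 4, 5], [], 50, false),
      ([0, 1, 2, 3, 4], [1, 2, 3, 4, 5, 9], 15, false),
      ([0, 1, 2, 3], [5, 1, 2, 3, 4, 5, 9], 10, false),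
      ([0, 1, 2], [4, 5, 1, 2, 3, 4, 5, 9], 6, false),
      ([0, 1], [3, 4, 5, 1, 2, 3, 4, 5, 9], 3, false),
      ([0], [2, 3, 4, 5, 1, 2, 3, 4, 5, 9], 1, false),
      ([], [1, 2, 3, 4, 5, 1, 2, 3, 4, 5, 9], 0, false),
      ([1, 2, 3, 4], [2, 3, 4, 5, 9], 16, false),
      ([1, 2, 3], [5, 2, 3, 4, 5, 9], 11, false),
      ([1, 2], [4, 5, 2, 3, 4, 5, 9], 7, false),
      ([1], [3, 4, 5, 2, 3, 4, 5, 9], 4, false),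
      ([], [2, 3, 4, 5, 2, 3, 4, 5, 9], 2, false),
      ([2, 3, 4], [3, 4, 5, 9], 17, false),
      ([2, 3], [5, 3, 4, 5, 9], 12, false),
      ([2], [4, 5, 3, 4, 5, 9], 8, false),
      ([], [3, 4, 5, 3, 4, 5, 9], 5, false),
      ([3, 4], [4, 5, 9], 18, false),
      ([3], [3, 5, 4, 5, 9], 11, false),
      ([], [4, 3, 5, 4, 5, 9], 7, false),
      ([1, 3], [5, 4, 5, 9], 13, false),
      ([1], [3, 4, 5, 4, 5, 9], 6, false),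
      ([], [3, 3, 4, 5, 4, 5, 9], 1, false),
      ([0, 1], [4, 5, 4, 5, 9], 9, false),
      ([0, 1, 4], [5, 9], 19, false),
      ([0, 1], [4, 5, 5, 9], 11, false),
      ([0], [4, 4, 5, 5, 9], 2, false),
      ([0], [5, 5, 9], 14, false),
      ([0], [9], 20, false),
      ([], [], 46, true),
      ([9], [], 20, true)]),
    ([9, 5, 3], [([], [3], 50, false),
      ([0, 1, 2, 3, 4, 5], [], 48, false),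
      ([0, 1, 2, 3, 4], [2, 3, 9], 16, false),
      ([0, 1, 2, 3], [5, 2, 3, 9], 11, false),
      ([0, 1, 2], [4, 5, 2, 3, 9], 7, false),
      ([0, 1], [3, 4, 5, 2, 3, 9], 4, false),
      ([0], [2, 3, 4, 5, 2, 3, 9], 2, false),
      ([0, 2, 3, 4], [3, 9], 17, false),
      ([0, 2, 3], [5, 3, 9], 12, false),
      ([0, 2], [4, 5, 3, 9], 8, false),
      ([0], [3, 4, 5, 3, 9], 5, false),
      ([0, 3, 4], [9], 18, false),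
      ([0, 3], [3, 5, 9], 11, false),
      ([0], [4, 3, 5, 9], 7, false),
      ([0, 1, 3], [5, 9], 13, false),
      ([0, 1], [3, 4, 5, 9], 6, false),
      ([0], [3, 3, 4, 5, 9], 1, false),
      ([], [1, 3, 3, 4, 5, 9], 0, false),
      ([1], [4, 5, 9], 9, false),
      ([1], [4, 5, 9], 9, true),
      ([1], [3, 3, 4, 5, 9], 5, true),
      ([1, 2], [3, 4, 5, 9], 8, true),
      ([], [3, 2, 3, 4, 5, 9], 4, true),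
      ([2], [2, 3, 4, 5, 9], 7, true),
      ([], [2, 3, 1, 2, 3, 4, 5, 9], 0, true),
      ([0], [3, 1, 2, 3, 4, 5, 9], 3, true),
      ([0, 2], [1, 2, 3, 4, 5, 9], 6, true),
      ([0, 2, 3], [], 50, true),
      ([0], [2, 3, 9, 5], 2, true),
      ([0, 1], [5], 48, true),
      ([], [3, 5], 46, true),
      ([9], [], 18, true)]),
    ([10, 8, 1], [([], [1], 56, false),
      ([0, 8], [], 55, false),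
      ([0], [2, 3, 4, 7, 8, 10], 37, false),
      ([0, 1], [3, 4, 7, 8, 10], 38, false),
      ([0], [2, 8, 3, 4, 7, 8, 10], 2, false),
      ([0, 2], [4, 7, 8, 10], 39, false),
      ([0], [3, 8, 4, 7, 8, 10], 4, false),
      ([0, 1, 2, 3], [7, 8, 10], 40, false),
      ([0, 1, 2], [1, 4, 8, 7, 8, 10], 6, false),
      ([0, 1], [3, 1, 4, 8, 7, 8, 10], 3, false),
      ([0], [2, 3, 1, 4, 8, 7, 8, 10], 1, false),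
      ([], [1, 2, 3, 1, 4, 8, 7, 8, 10], 0, false),
      ([1, 2], [4, 8, 7, 8, 10], 7, false),
      ([1], [3, 4, 8, 7, 8, 10], 4, false),
      ([], [2, 3, 4, 8, 7, 8, 10], 2, false),
      ([2, 3, 4], [8, 10], 43, false),
      ([2, 3], [1, 7, 8, 8, 10], 10, false),
      ([2], [4, 1, 7, 8, 8, 10], 6, false),
      ([], [3, 4, 1, 7, 8, 8, 10], 3, false),
      ([0, 2, 3], [7, 8, 8, 10], 11, false),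
      ([0, 2], [4, 7, 8, 8, 10], 7, false),
      ([0], [3, 4, 7, 8, 8, 10], 4, false),
      ([0, 1, 2, 3, 4, 7], [10], 44, false),
      ([0, 1, 2, 3, 4, 7], [10], 44, true),
      ([], [2, 3, 4, 7, 8, 8, 10], 1, true),
      ([1], [3, 4, 7, 8, 8, 10], 3, true),
      ([1, 2], [4, 7, 8, 8, 10], 6, true),
      ([1, 2, 3], [7, 8, 8, 10], 10, true),
      ([1, 2, 3, 4], [8, 8, 10], 28, true),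
      ([1, 2, 3, 4, 7], [8, 10], 36, true),
      ([1, 2, 3, 4, 7, 8], [], 56, true),
      ([], [8], 55, true),
      ([10], [], 37, true)]),
    ([15, 3, 6, 9, 3, 6, 9], [([], [3, 6, 9], 72, false),
      ([1, 4, 6], [], 72, false),
      ([1, 4], [4, 6, 15], 22, false),
      ([1], [6, 4, 6, 15], 11, false),
      ([], [4, 6, 4, 6, 15], 2, false),
      ([4], [6, 15], 25, false),
      ([], [2, 4, 6, 6, 15], 11, false),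
      ([1], [4, 6, 6, 15], 12, false),
      ([1, 2], [6, 6, 15], 14, false),
      ([1, 2], [15], 27, false),
      ([1], [2, 15], 4, false),
      ([], [2, 2, 15], 2, false),
      ([], [15], 5, false),
      ([15], [], 54, true),
      ([15], [9, 9], 5, true),
      ([15], [2, 2, 9, 9], 2, true),
      ([15, 1], [2, 9, 9], 4, true),
      ([15, 1, 2], [9, 9], 27, true),
      ([15, 1], [6, 9, 9], 23, true),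
      ([15], [2, 6, 9, 9], 22, true),
      ([15, 6], [9], 51, true),
      ([15], [6, 9, 6, 9], 9, true),
      ([15], [3, 3, 6, 9, 6, 9], 5, true),
      ([15, 2], [3, 6, 9, 6, 9], 8, true),
      ([15], [2, 3, 2, 3, 6, 9, 6, 9], 2, true),
      ([15, 1], [3, 2, 3, 6, 9, 6, 9], 4, true),
      ([15, 1, 2], [2, 3, 6, 9, 6, 9], 7, true),
      ([15, 1, 2, 3], [9, 6, 9], 24, true),
      ([15, 1], [6, 3, 9, 6, 9], 8, true),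
      ([15, 1, 3], [3, 9, 6, 9], 23, true),
      ([15], [6, 2, 3, 9, 6, 9], 7, true),
      ([15, 3], [2, 3, 9, 6, 9], 22, true),
      ([15, 3, 6], [6, 9], 48, true)]),
    ([9, 9, 5], [([], [5], 54, false),
      ([5], [], 54, true),
      ([], [5, 9, 9], 14, true),
      ([], [4, 4, 5, 9, 9], 9, true),
      ([], [3, 3, 4, 4, 5, 9, 9], 0, true),
      ([0], [3, 4, 4, 5, 9, 9], 6, true),
      ([0, 3], [4, 5, 9, 9], 13, true),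
      ([0], [3, 4, 3, 4, 5, 9, 9], 5, true),
      ([0, 2], [4, 3, 4, 5, 9, 9], 8, true),
      ([0, 2, 3], [3, 4, 5, 9, 9], 12, true),
      ([0], [2, 3, 4, 2, 3, 4, 5, 9, 9], 2, true),
      ([0, 1], [3, 4, 2, 3, 4, 5, 9, 9], 4, true),
      ([0, 1, 2], [4, 2, 3, 4, 5, 9, 9], 7, true),
      ([0, 1, 2, 3], [2, 3, 4, 5, 9, 9], 11, true),
      ([], [2, 3, 4, 1, 2, 3, 4, 5, 9, 9], 1, true),
      ([1], [3, 4, 1, 2, 3, 4, 5, 9, 9], 3, true),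
      ([1, 2], [4, 1, 2, 3, 4, 5, 9, 9], 6, true),
      ([1, 2, 3], [1, 2, 3, 4, 5, 9, 9], 10, true),
      ([1, 2, 3, 4], [9], 50, true),
      ([1], [4, 9, 5, 9], 8, true),
      ([], [2, 4, 9, 5, 9], 7, true),
      ([], [3, 1, 2, 4, 9, 5, 9], 0, true),
      ([0], [1, 2, 4, 9, 5, 9], 6, true),
      ([0, 3], [5, 9], 49, true),
      ([0], [3, 9, 4, 5, 9], 5, true),
      ([0], [2, 2, 3, 9, 4, 5, 9], 2, true),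
      ([0, 1], [2, 3, 9, 4, 5, 9], 4, true),
      ([0, 1, 2], [4, 5, 9], 48, true),
      ([], [2, 9, 3, 4, 5, 9], 1, true),
      ([1], [3, 4, 5, 9], 47, true),
      ([], [1, 9, 2, 3, 4, 5, 9], 0, true),
      ([0], [2, 3, 4, 5, 9], 46, true),
      ([], [1, 2, 3, 4, 5, 9], 45, true),
      ([9], [], 50, true)]),
    ([15, 1, 3, 5, 7, 4], [([], [4], 73, false),
      ([0, 4, 6, 9], [], 71, false),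
      ([0, 4, 6], [1, 2, 15], 45, false),
      ([0, 4], [9, 1, 2, 15], 21, false),
      ([0], [6, 9, 1, 2, 15], 10, false),
      ([], [4, 6, 9, 1, 2, 15], 0, false),
      ([4, 6], [2, 15], 46, false),
      ([4], [1, 9, 2, 15], 21, false),
      ([], [6, 1, 9, 2, 15], 10, false),
      ([0, 4], [9, 2, 15], 22, false),
      ([0], [6, 9, 2, 15], 11, false),
      ([0, 1, 4, 6], [15], 47, false),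
      ([0, 1, 4], [2, 9, 15], 21, false),
      ([0, 1], [6, 2, 9, 15], 10, false),
      ([0], [4, 6, 2, 9, 15], 1, false),
      ([], [1, 4, 6, 2, 9, 15], 0, false),
      ([1, 4], [9, 15], 23, false),
      ([1], [6, 9, 15], 12, false),
      ([], [1, 2, 4, 6, 9, 15], 0, true),
      ([0], [2, 4, 6, 9, 15], 1, true),
      ([0, 1], [4, 6, 9, 15], 3, true),
      ([0, 1, 2], [], 73, true),
      ([], [1, 3, 5, 7], 71, true),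
      ([15], [3, 5, 7], 11, false),
      ([15, 1], [5, 7], 13, false),
      ([15], [3, 4, 5, 7], 1, false),
      ([15, 0], [4, 5, 7], 7, true),
      ([15, 0, 3], [7], 19, true),
      ([15, 0], [3, 5, 4, 7], 2, true),
      ([15, 0, 1], [5, 4, 7], 7, true),
      ([15, 0, 1, 3], [4, 7], 16, true),
      ([15], [3, 5, 1, 4, 7], 1, true),
      ([15, 1], [5, 1, 4, 7], 6, true),
      ([15, 1, 3], [1, 4, 7], 15, true),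
      ([15, 1, 3, 5], [], 32, true)]),
    ([11, 1, 3, 5, 7, 1, 4], [([], [1, 4], 61, false),
      ([0, 1, 4, 5, 7], [], 59, false),
      ([0, 1, 4, 5], [8, 11], 28, false),
      ([0, 1, 4], [7, 8, 11], 15, false),
      ([0, 1], [5, 7, 8, 11], 10, false),
      ([0], [4, 5, 7, 8, 11], 1, false),
      ([], [1, 4, 5, 7, 8, 11], 0, false),
      ([], [5, 7, 8, 11], 11, true),
      ([4], [7, 8, 11], 16, true),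
      ([], [4, 5, 1, 7, 8, 11], 0, true),
      ([0], [5, 1, 7, 8, 11], 10, true),
      ([0, 4], [1, 7, 8, 11], 15, true),
      ([0, 4, 5], [11], 43, true),
      ([0, 4], [7, 11], 41, true),
      ([0], [4, 8, 5, 7, 11], 2, true),
      ([], [1, 4, 8, 5, 7, 11], 1, true),
      ([1], [5, 7, 11], 40, true),
      ([], [4, 5, 7, 11], 37, true),
      ([], [8, 1, 4, 5, 7, 11], 0, true),
      ([0], [1, 4, 5, 7, 11], 36, true),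
      ([0, 8], [], 61, true),
      ([], [1, 3, 5, 7], 59, true),
      ([11, 1], [3, 5, 7], 11, false),
      ([11], [4, 3, 5, 7], 2, false),
      ([11], [5, 7], 13, false),
      ([11, 0], [3, 4, 5, 7], 2, true),
      ([11, 0, 1], [4, 5, 7], 7, true),
      ([11, 0, 1, 3], [7], 19, true),
      ([11, 0], [5, 4, 7], 7, true),
      ([11, 0, 3], [4, 7], 16, true),
      ([11], [5, 1, 4, 7], 6, true),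
      ([11, 3], [1, 4, 7], 15, true),
      ([11, 3, 5], [], 32, true),
      ([11], [3, 5, 7, 4], 2, true),
      ([11, 1], [5, 7, 4], 7, true),
      ([11, 1, 3], [7, 4], 16, true),
      ([11, 1, 3, 5], [4], 29, true)]),
    ([12, 1, 2, 4, 5, 1, 2, 4, 5], [([], [1, 2, 4, 5], 63, false),
      ([1, 2, 4, 5, 6], [], 63, false),
      ([1, 2, 4, 5], [2, 4, 5, 6, 12], 22, false),
      ([1, 2, 4], [6, 2, 4, 5, 6, 12], 16, false),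
      ([1, 2], [5, 6, 2, 4, 5, 6, 12], 11, false),
      ([1], [4, 5, 6, 2, 4, 5, 6, 12], 4, false),
      ([], [2, 4, 5, 6, 2, 4, 5, 6, 12], 2, false),
      ([2, 4, 5], [4, 5, 6, 12], 23, false),
      ([2, 4], [6, 4, 5, 6, 12], 17, false),
      ([2], [5, 6, 4, 5, 6, 12], 12, false),
      ([], [4, 5, 6, 4, 5, 6, 12], 5, false),
      ([4, 5], [5, 6, 12], 25, false),
      ([4], [2, 4, 6, 5, 6, 12], 16, false),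
      ([], [5, 2, 4, 6, 5, 6, 12], 11, false),
      ([1, 4], [4, 6, 5, 6, 12], 17, false),
      ([1], [5, 4, 6, 5, 6, 12], 12, false),
      ([1, 2, 4], [6, 5, 6, 12], 19, false),
      ([1, 2], [4, 5, 6, 5, 6, 12], 11, false),
      ([1], [4, 4, 5, 6, 5, 6, 12], 4, false),
      ([], [2, 4, 4, 5, 6, 5, 6, 12], 2, false),
      ([2], [5, 6, 5, 6, 12], 14, false),
      ([2, 5], [6, 12], 26, false),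
      ([2], [6, 6, 12], 20, false),
      ([], [6, 6, 12], 4, false),
      ([1, 2], [12], 27, false),
      ([1], [2, 12], 4, false),
      ([], [2, 2, 12], 2, false),
      ([], [12], 5, false),
      ([12], [], 2, true),
      ([12, 1], [], 20, true),
      ([12, 1], [5, 5], 14, true),
      ([12], [4, 5, 5], 11, true),
      ([12, 4], [5], 19, true),
      ([12], [4, 5, 4, 5], 5, true),
      ([12, 2], [5, 4, 5], 12, true),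
      ([12, 2, 4], [4, 5], 17, true),
      ([12], [2, 4, 5, 2, 4, 5], 2, true),
      ([12, 1], [4, 5, 2, 4, 5], 4, true),
      ([12, 1, 2], [5, 2, 4, 5], 11, true),
      ([12, 1, 2, 4], [2, 4, 5], 16, true)]),
    ([10, 2, 4, 5, 2, 4, 5], [([], [2, 4, 5], 57, false),
      ([0, 3, 5, 7, 8], [], 57, false),
      ([0, 3, 5, 7], [3, 5, 7, 8, 10], 36, false),
      ([0, 3, 5], [8, 3, 5, 7, 8, 10], 28, false),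
      ([0, 3], [7, 8, 3, 5, 7, 8, 10], 15, false),
      ([0], [5, 7, 8, 3, 5, 7, 8, 10], 6, false),
      ([], [3, 5, 7, 8, 3, 5, 7, 8, 10], 0, false),
      ([3, 5, 7], [5, 7, 8, 10], 39, false),
      ([3, 5], [3, 8, 5, 7, 8, 10], 29, false),
      ([3], [7, 3, 8, 5, 7, 8, 10], 16, false),
      ([], [5, 7, 3, 8, 5, 7, 8, 10], 7, false),
      ([1, 3, 5], [8, 5, 7, 8, 10], 31, false),
      ([1, 3], [1, 3, 7, 8, 5, 7, 8, 10], 15, false),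
      ([1], [5, 1, 3, 7, 8, 5, 7, 8, 10], 6, false),
      ([], [3, 5, 1, 3, 7, 8, 5, 7, 8, 10], 1, false),
      ([0, 1, 3], [3, 7, 8, 5, 7, 8, 10], 16, false),
      ([0, 1], [5, 3, 7, 8, 5, 7, 8, 10], 7, false),
      ([0], [3, 5, 3, 7, 8, 5, 7, 8, 10], 2, false),
      ([0, 3], [7, 8, 5, 7, 8, 10], 18, false),
      ([0], [3, 5, 7, 8, 5, 7, 8, 10], 7, false),
      ([0, 1], [5, 7, 8, 5, 7, 8, 10], 9, false),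
      ([0, 1, 5, 7], [7, 8, 10], 41, false),
      ([0, 1, 5], [8, 7, 8, 10], 33, false),
      ([0, 1], [5, 7, 8, 7, 8, 10], 16, false),
      ([0], [5, 5, 7, 8, 7, 8, 10], 2, false),
      ([0], [7, 8, 7, 8, 10], 20, false),
      ([0, 1, 7], [8, 10], 43, false),
      ([0, 1], [1, 7, 8, 8, 10], 28, false),
      ([0], [7, 1, 7, 8, 8, 10], 1, false),
      ([], [1, 7, 1, 7, 8, 8, 10], 0, false),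
      ([1], [7, 8, 8, 10], 29, false),
      ([], [7, 7, 8, 8, 10], 2, false),
      ([], [8, 8, 10], 35, false),
      ([], [10], 44, false),
      ([10], [], 2, true),
      ([10, 1], [], 20, true),
      ([10, 1], [5, 5], 14, true),
      ([10], [4, 5, 5], 11, true),
      ([10, 4], [5], 19, true),
      ([10], [4, 5, 4, 5], 5, true),
      ([10, 2], [5, 4, 5], 12, true),
      ([10, 2, 4], [4, 5], 17, true)]),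
    ([15, 2, 2], [([], [2], 70, false),
      ([1, 2, 3, 4, 9], [], 70, false),
      ([1, 2, 3, 4], [2, 3, 4, 9, 15], 46, false),
      ([1, 2, 3], [1, 9, 2, 3, 4, 9, 15], 10, false),
      ([1, 2], [4, 1, 9, 2, 3, 4, 9, 15], 6, false),
      ([1], [3, 4, 1, 9, 2, 3, 4, 9, 15], 3, false),
      ([], [2, 3, 4, 1, 9, 2, 3, 4, 9, 15], 1, false),
      ([0, 1, 2, 3], [9, 2, 3, 4, 9, 15], 11, false),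
      ([0, 1, 2], [4, 9, 2, 3, 4, 9, 15], 7, false),
      ([0, 1], [3, 4, 9, 2, 3, 4, 9, 15], 4, false),
      ([0], [2, 3, 4, 9, 2, 3, 4, 9, 15], 2, false),
      ([0, 2, 3, 4], [3, 4, 9, 15], 47, false),
      ([0, 2, 3], [2, 9, 3, 4, 9, 15], 10, false),
      ([0, 2], [4, 2, 9, 3, 4, 9, 15], 6, false),
      ([0], [3, 4, 2, 9, 3, 4, 9, 15], 3, false),
      ([], [2, 3, 4, 2, 9, 3, 4, 9, 15], 0, false),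
      ([2, 3], [9, 3, 4, 9, 15], 12, false),
      ([2], [4, 9, 3, 4, 9, 15], 8, false),
      ([], [3, 4, 9, 3, 4, 9, 15], 5, false),
      ([3, 4], [4, 9, 15], 48, false),
      ([3], [2, 3, 9, 4, 9, 15], 11, false),
      ([], [4, 2, 3, 9, 4, 9, 15], 7, false),
      ([1, 3], [3, 9, 4, 9, 15], 12, false),
      ([1], [4, 3, 9, 4, 9, 15], 8, false),
      ([1, 2, 3], [9, 4, 9, 15], 13, false),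
      ([1, 2], [3, 4, 9, 4, 9, 15], 6, false),
      ([1], [3, 3, 4, 9, 4, 9, 15], 3, false),
      ([], [2, 3, 3, 4, 9, 4, 9, 15], 1, false),
      ([0, 1, 2], [4, 9, 4, 9, 15], 9, false),
      ([0, 1, 2, 4], [9, 15], 49, false),
      ([0, 1, 2], [1, 2, 4, 9, 9, 15], 10, false),
      ([0, 1], [4, 1, 2, 4, 9, 9, 15], 3, false),
      ([0], [2, 4, 1, 2, 4, 9, 9, 15], 1, false),
      ([], [1, 2, 4, 1, 2, 4, 9, 9, 15], 0, false),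
      ([1, 2], [2, 4, 9, 9, 15], 11, false),
      ([1], [4, 2, 4, 9, 9, 15], 4, false),
      ([], [2, 4, 2, 4, 9, 9, 15], 2, false),
      ([2], [4, 9, 9, 15], 12, false),
      ([], [4, 4, 9, 9, 15], 5, false),
      ([], [9, 9, 15], 14, false),
      ([], [15], 54, false),
      ([15], [], 5, true)]),
    ([10, 1, 8, 1], [([], [8, 1], 55, false),
      ([1, 2, 3, 4, 7, 8], [1], 56, false),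
      ([1, 2, 3, 4, 7, 8, 0, 8], [], 55, false),
      ([1, 2, 3, 4, 7], [8, 1, 2, 3, 4, 7, 8, 10], 36, false),
      ([1, 2, 3, 4], [8, 8, 1, 2, 3, 4, 7, 8, 10], 28, false),
      ([1, 2, 3], [7, 8, 8, 1, 2, 3, 4, 7, 8, 10], 10, false),
      ([1, 2], [4, 7, 8, 8, 1, 2, 3, 4, 7, 8, 10], 6, false),
      ([1], [3, 4, 7, 8, 8, 1, 2, 3, 4, 7, 8, 10], 3, false),
      ([], [2, 3, 4, 7, 8, 8, 1, 2, 3, 4, 7, 8, 10], 1, false),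
      ([0, 1, 2, 3, 4, 7], [1, 2, 3, 4, 7, 8, 10], 44, false),
      ([0, 1, 2, 3, 4], [2, 3, 4, 7, 8, 10], 29, false),
      ([0, 1, 2, 3], [7, 2, 3, 4, 7, 8, 10], 11, false),
      ([0, 1, 2], [4, 7, 2, 3, 4, 7, 8, 10], 7, false),
      ([0, 1], [3, 4, 7, 2, 3, 4, 7, 8, 10], 4, false),
      ([0], [2, 3, 4, 7, 2, 3, 4, 7, 8, 10], 2, false),
      ([0, 2, 3, 4], [3, 4, 7, 8, 10], 30, false),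
      ([0, 2, 3], [2, 7, 3, 4, 7, 8, 10], 10, false),
      ([0, 2], [4, 2, 7, 3, 4, 7, 8, 10], 6, false),
      ([0], [3, 4, 2, 7, 3, 4, 7, 8, 10], 3, false),
      ([], [2, 3, 4, 2, 7, 3, 4, 7, 8, 10], 0, false),
      ([2, 3], [7, 3, 4, 7, 8, 10], 12, false),
      ([2], [4, 7, 3, 4, 7, 8, 10], 8, false),
      ([], [3, 4, 7, 3, 4, 7, 8, 10], 5, false),
      ([3, 4], [4, 7, 8, 10], 31, false),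
      ([3], [1, 3, 7, 4, 7, 8, 10], 10, false),
      ([], [4, 1, 3, 7, 4, 7, 8, 10], 6, false),
      ([0, 3], [3, 7, 4, 7, 8, 10], 11, false),
      ([0], [4, 3, 7, 4, 7, 8, 10], 7, false),
      ([0, 1, 3], [7, 4, 7, 8, 10], 13, false),
      ([0, 1], [3, 4, 7, 4, 7, 8, 10], 6, false),
      ([0], [3, 3, 4, 7, 4, 7, 8, 10], 1, false),
      ([], [1, 3, 3, 4, 7, 4, 7, 8, 10], 0, false),
      ([1], [4, 7, 4, 7, 8, 10], 9, false),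
      ([1, 4], [7, 8, 10], 32, false),
      ([1], [1, 4, 7, 7, 8, 10], 10, false),
      ([], [4, 1, 4, 7, 7, 8, 10], 1, false),
      ([0, 1], [4, 7, 7, 8, 10], 11, false),
      ([0], [4, 4, 7, 7, 8, 10], 2, false),
      ([0], [7, 7, 8, 10], 14, false),
      ([0], [8, 10], 35, false),
      ([], [], 56, true),
      ([10], [8], 2, true),
      ([10, 1], [], 37, true)]),
    ([9, 8, 8], [([], [8], 53, false),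
      ([0, 2, 3, 4, 7, 8], [], 53, false),
      ([0, 2, 3, 4, 7], [2, 3, 4, 7, 8, 9], 36, false),
      ([0, 2, 3, 4], [8, 2, 3, 4, 7, 8, 9], 28, false),
      ([0, 2, 3], [7, 8, 2, 3, 4, 7, 8, 9], 10, false),
      ([0, 2], [4, 7, 8, 2, 3, 4, 7, 8, 9], 6, false),
      ([0], [3, 4, 7, 8, 2, 3, 4, 7, 8, 9], 3, false),
      ([], [2, 3, 4, 7, 8, 2, 3, 4, 7, 8, 9], 0, false),
      ([2, 3, 4, 7], [3, 4, 7, 8, 9], 38, false),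
      ([2, 3, 4], [2, 8, 3, 4, 7, 8, 9], 29, false),
      ([2, 3], [7, 2, 8, 3, 4, 7, 8, 9], 11, false),
      ([2], [4, 7, 2, 8, 3, 4, 7, 8, 9], 7, false),
      ([], [3, 4, 7, 2, 8, 3, 4, 7, 8, 9], 4, false),
      ([1, 2, 3, 4], [8, 3, 4, 7, 8, 9], 30, false),
      ([1, 2, 3], [2, 7, 8, 3, 4, 7, 8, 9], 10, false),
      ([1, 2], [4, 2, 7, 8, 3, 4, 7, 8, 9], 6, false),
      ([1], [3, 4, 2, 7, 8, 3, 4, 7, 8, 9], 3, false),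
      ([], [2, 3, 4, 2, 7, 8, 3, 4, 7, 8, 9], 1, false),
      ([0, 1, 2, 3], [7, 8, 3, 4, 7, 8, 9], 12, false),
      ([0, 1, 2], [4, 7, 8, 3, 4, 7, 8, 9], 8, false),
      ([0, 1], [3, 4, 7, 8, 3, 4, 7, 8, 9], 5, false),
      ([0, 1, 3, 4, 7], [4, 7, 8, 9], 39, false),
      ([0, 1, 3, 4], [3, 8, 4, 7, 8, 9], 29, false),
      ([0, 1, 3], [7, 3, 8, 4, 7, 8, 9], 11, false),
      ([0, 1], [4, 7, 3, 8, 4, 7, 8, 9], 7, false),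
      ([0], [3, 4, 7, 3, 8, 4, 7, 8, 9], 2, false),
      ([0, 3, 4], [8, 4, 7, 8, 9], 31, false),
      ([0, 3], [1, 3, 7, 8, 4, 7, 8, 9], 10, false),
      ([0], [4, 1, 3, 7, 8, 4, 7, 8, 9], 6, false),
      ([], [3, 4, 1, 3, 7, 8, 4, 7, 8, 9], 0, false),
      ([3], [3, 7, 8, 4, 7, 8, 9], 11, false),
      ([], [4, 3, 7, 8, 4, 7, 8, 9], 7, false),
      ([1, 3], [7, 8, 4, 7, 8, 9], 13, false),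
      ([1], [3, 4, 7, 8, 4, 7, 8, 9], 6, false),
      ([], [3, 3, 4, 7, 8, 4, 7, 8, 9], 1, false),
      ([0, 1], [4, 7, 8, 4, 7, 8, 9], 9, false),
      ([0, 1, 4, 7], [7, 8, 9], 40, false),
      ([0, 1, 4], [1, 4, 8, 7, 8, 9], 28, false),
      ([0, 1], [7, 1, 4, 8, 7, 8, 9], 10, false),
      ([0], [4, 7, 1, 4, 8, 7, 8, 9], 1, false),
      ([], [1, 4, 7, 1, 4, 8, 7, 8, 9], 0, false),
      ([1, 4], [4, 8, 7, 8, 9], 29, false),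
      ([1], [7, 4, 8, 7, 8, 9], 11, false),
      ([], [4, 7, 4, 8, 7, 8, 9], 2, false),
      ([4], [8, 7, 8, 9], 32, false),
      ([], [1, 4, 7, 8, 7, 8, 9], 10, false),
      ([0], [4, 7, 8, 7, 8, 9], 11, false),
      ([0, 1], [7, 8, 7, 8, 9], 14, false),
      ([0, 1, 7], [8, 9], 43, false),
      ([0, 1], [1, 7, 8, 8, 9], 28, false),
      ([0], [7, 1, 7, 8, 8, 9], 1, false),
      ([], [1, 7, 1, 7, 8, 8, 9], 0, false),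
      ([1], [7, 8, 8, 9], 29, false),
      ([], [7, 7, 8, 8, 9], 2, false),
      ([], [8, 8, 9], 35, false),
      ([], [9], 44, false),
      ([9], [], 44, true)]),
    ([15, 2, 1, 3, 5, 7, 2, 1, 3, 5, 7], path2_46_0 ++ path2_46_1),
    ([15, 1, 3, 5, 7, 3, 6, 9], path2_47_0 ++ path2_47_1),
    ([9, 8, 6], path2_48_0 ++ path2_48_1)]
  rows := [[0, 0, 0, 0, 0, 0, 0, 0, 0, 0, 0, 0, 0, 0, 0, 0, 1, 0, 0, 0, 0, 0, 0, 0, 0, 0, 0, 0, 0, 0, 0, 0, 0, 0, 0, 0, 0, 0, 0, 0, 0, 0, 0, 0, 0, 0, 0, 0, 0, 0, 0, 0, 0, 0, 0, 0, 0, 0, 0, 0, 0, 0, 0, 0, 0, 0, 0, 0, 0, 0, 0, 0, 0, 0],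
    [0, 0, 0, 0, 0, 0, 0, 0, 0, 0, 0, 0, 0, 0, 0, 0, 0, 0, 0, 0, 0, 0, 1, 1, 0, 0, 0, 0, 0, 0, 0, 0, 0, 0, 0, 0, 0, 0, 0, 0, 0, 0, 0, 0, 0, 0, 0, 0, 0, 0, 0, 0, 0, 0, 0, 0, 0, 0, 0, 0, 0, 0, 0, 0, 0, 0, 0, 0, 0, 0, 0, 0, 0, 0],
    [0, 1, 0, 0, 0, 0, 0, 0, 0, 0, 0, 0, 0, 0, 0, 0, 0, 0, 0, 0, 0, 0, 0, 0, 0, 0, 0, 0, 0, 0, 0, 0, 0, 0, 0, 0, 0, 0, 0, 0, 0, 0, 0, 0, 0, 0, 0, 0, 0, 0, 0, 0, 0, 0, 0, 0, 0, 0, 0, 0, 0, 0, 0, 0, 0, 0, 0, 0, 0, 0, 0, 0, 0, 0],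
    [0, 0, 0, 0, 1, 0, 0, 0, 0, 0, 0, 0, 0, 0, 0, 0, 0, 0, 0, 0, 0, 0, 0, 0, 0, 0, 0, 0, 0, 0, 0, 0, 0, 0, 0, 0, 0, 0, 0, 0, 0, 0, 0, 0, 0, 0, 0, 0, 0, 0, 0, 0, 0, 0, 0, 0, 0, 0, 0, 0, 0, 0, 0, 0, 0, 0, 0, 0, 0, 0, 0, 0, 0, 0],
    [0, 0, 0, 0, 0, 0, 0, 0, 0, 0, 0, 0, 0, 0, 0, 0, 0, 0, 0, 0, 0, 0, 1, 0, 0, 0, 0, 0, 0, 0, 0, 0, 0, 0, 0, 0, 0, 0, 0, 0, 0, 0, 0, 0, 0, 0, 0, 0, 0, 0, 0, 0, 0, 0, 0, 0, 0, 0, 0, 0, 0, 0, 0, 0, 0, 0, 0, 0, 0, 0, 0, 0, 0, 0],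
    [0, 0, 0, 0, 0, 0, 0, 0, 0, 0, 0, 0, 0, 0, 0, 0, 0, 0, 0, 0, 0, 0, 0, 0, 0, 0, 0, 0, 0, 0, 0, 0, 0, 0, 0, 0, 0, 1, 0, 0, 0, 0, 0, 0, 0, 0, 0, 0, 0, 0, 0, 0, 0, 0, 0, 0, 0, 0, 0, 0, 0, 0, 0, 0, 0, 0, 0, 0, 0, 0, 0, 0, 0, 0],
    [1, 0, 0, 0, 0, 0, 0, 0, 0, 0, 1, 0, 0, 0, 0, 0, 0, 0, 0, 0, 0, 0, 0, 0, 0, 0, 0, 0, 0, 0, 0, 0, 0, 0, 0, 0, 0, 0, 0, 0, 0, 0, 0, 0, 0, 0, 0, 0, 0, 0, 0, 0, 0, 0, 0, 0, 0, 0, 0, 0, 0, 0, 0, 0, 0, 0, 0, 0, 0, 0, 0, 0, 0, 0],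
    [1, 0, 0, 0, 0, 0, 1, 0, 0, 0, 0, 0, 0, 0, 0, 0, 0, 0, 0, 0, 0, 0, 0, 0, 0, 0, 0, 0, 0, 0, 0, 0, 0, 0, 0, 0, 0, 0, 0, 0, 0, 0, 0, 0, 0, 0, 0, 0, 0, 0, 0, 0, 0, 0, 0, 0, 0, 0, 0, 0, 0, 0, 0, 0, 0, 0, 0, 0, 0, 0, 0, 0, 0, 0],
    [0, 0, 1, 0, 0, 0, 0, 1, 0, 0, 0, 0, 0, 0, 0, 0, 0, 0, 0, 0, 0, 0, 0, 0, 0, 0, 0, 0, 0, 0, 0, 0, 0, 0, 0, 0, 0, 0, 0, 0, 0, 0, 0, 0, 0, 0, 0, 0, 0, 0, 0, 0, 0, 0, 0, 0, 0, 0, 0, 0, 0, 0, 0, 0, 0, 0, 0, 0, 0, 0, 0, 0, 0, 0],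
    [0, 0, 1, 0, 0, 0, 0, 0, 0, 0, 0, 1, 0, 0, 0, 0, 0, 0, 0, 0, 0, 0, 0, 0, 0, 0, 0, 0, 0, 0, 0, 0, 0, 0, 0, 0, 0, 0, 0, 0, 0, 0, 0, 0, 0, 0, 0, 0, 0, 0, 0, 0, 0, 0, 0, 0, 0, 0, 0, 0, 0, 0, 0, 0, 0, 0, 0, 0, 0, 0, 0, 0, 0, 0],
    [0, 1, 0, 1, 0, 0, 0, 0, 0, 0, 0, 0, 0, 0, 0, 0, 0, 0, 0, 0, 0, 0, 0, 0, 0, 0, 0, 0, 0, 0, 0, 0, 0, 0, 0, 0, 0, 0, 0, 0, 0, 0, 0, 0, 0, 0, 0, 0, 0, 0, 0, 0, 0, 0, 0, 0, 0, 0, 0, 0, 0, 0, 0, 0, 0, 0, 0, 0, 0, 0, 0, 0, 0, 0],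
    [0, 0, 0, 0, 0, 0, 0, 0, 0, 0, 0, 0, 0, 0, 0, 0, 1, 1, 0, 0, 0, 0, 0, 0, 0, 0, 0, 0, 0, 0, 0, 0, 0, 0, 0, 0, 0, 0, 0, 0, 0, 0, 0, 0, 0, 0, 0, 0, 0, 0, 0, 0, 0, 0, 0, 0, 0, 0, 0, 0, 0, 0, 0, 0, 0, 0, 0, 0, 0, 0, 0, 0, 0, 0],
    [1, 0, 0, 0, 0, 0, 0, 0, 0, 0, 0, 0, 0, 0, 0, 0, 0, 0, 0, 0, 0, 0, 0, 0, 0, 0, 0, 0, 1, 0, 0, 0, 0, 0, 0, 0, 0, 0, 0, 0, 0, 0, 0, 0, 0, 0, 0, 0, 0, 0, 0, 0, 0, 0, 0, 0, 0, 0, 0, 0, 0, 0, 0, 0, 0, 0, 0, 0, 0, 0, 0, 0, 0, 0],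
    [1, 0, 0, 1, 0, 0, 0, 0, 0, 0, 0, 0, 0, 0, 0, 0, 0, 0, 0, 0, 0, 0, 0, 0, 0, 0, 0, 0, 0, 0, 0, 0, 0, 0, 0, 0, 0, 0, 0, 0, 0, 0, 0, 0, 0, 0, 0, 0, 0, 0, 0, 0, 0, 0, 0, 0, 0, 0, 0, 0, 0, 0, 0, 0, 0, 0, 0, 0, 0, 0, 0, 0, 0, 0],
    [0, 0, 1, 0, 0, 0, 0, 0, 0, 0, 0, 0, 0, 0, 0, 0, 0, 0, 0, 0, 0, 0, 0, 0, 0, 0, 0, 0, 0, 1, 0, 0, 0, 0, 0, 0, 0, 0, 0, 0, 0, 0, 0, 0, 0, 0, 0, 0, 0, 0, 0, 0, 0, 0, 0, 0, 0, 0, 0, 0, 0, 0, 0, 0, 0, 0, 0, 0, 0, 0, 0, 0, 0, 0],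
    [0, 0, 1, 0, 0, 0, 0, 0, 0, 0, 0, 0, 0, 0, 0, 0, 0, 0, 0, 0, 0, 0, 0, 0, 0, 0, 0, 0, 0, 0, 0, 0, 0, 0, 0, 0, 0, 1, 0, 0, 0, 0, 0, 0, 0, 0, 0, 0, 0, 0, 0, 0, 0, 0, 0, 0, 0, 0, 0, 0, 0, 0, 0, 0, 0, 0, 0, 0, 0, 0, 0, 0, 0, 0],
    [1, 0, 0, 0, 0, 0, 0, 0, 0, 0, 0, 0, 0, 0, 0, 0, 0, 0, 0, 0, 0, 0, 0, 0, 0, 0, 0, 0, 0, 0, 0, 0, 0, 0, 0, 0, 0, 0, 0, 0, 0, 0, 0, 0, 0, 1, 0, 0, 0, 0, 0, 0, 0, 0, 0, 0, 0, 0, 0, 0, 0, 0, 0, 0, 0, 0, 0, 0, 0, 0, 0, 0, 0, 0],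
    [1, 0, 0, 0, 0, 0, 0, 0, 0, 0, 0, 0, 0, 0, 0, 0, 0, 0, 0, 0, 0, 0, 0, 0, 0, 0, 0, 0, 0, 0, 0, 0, 0, 0, 0, 0, 1, 0, 0, 0, 0, 0, 0, 0, 0, 0, 0, 0, 0, 0, 0, 0, 0, 0, 0, 0, 0, 0, 0, 0, 0, 0, 0, 0, 0, 0, 0, 0, 0, 0, 0, 0, 0, 0],
    [1, 0, 1, 0, 0, 0, 0, 0, 0, 0, 0, 1, 0, 0, 1, 0, 0, 0, 0, 0, 0, 0, 0, 0, 0, 0, 0, 0, 0, 0, 0, 0, 0, 0, 0, 0, 1, 0, 0, 0, 0, 0, 0, 0, 1, 0, 0, 0, 0, 0, 0, 0, 0, 0, 0, 0, 0, 0, 0, 0, 0, 0, 0, 0, 0, 0, 0, 0, 0, 0, 0, 0, 0, 0],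
    [0, 0, 1, 0, 0, 1, 0, 0, 0, 0, 0, 1, 1, 0, 0, 0, 0, 0, 0, 0, 0, 0, 0, 0, 0, 0, 0, 0, 0, 0, 0, 0, 0, 0, 0, 0, 0, 0, 0, 0, 0, 0, 0, 0, 0, 0, 0, 0, 0, 0, 0, 0, 0, 0, 0, 0, 0, 0, 0, 0, 0, 0, 0, 0, 0, 0, 0, 0, 0, 0, 0, 0, 0, 0],
    [0, 0, 1, 0, 1, 1, 0, 1, 1, 0, 0, 0, 0, 0, 0, 0, 0, 0, 0, 0, 0, 0, 0, 0, 0, 0, 0, 0, 0, 0, 0, 0, 0, 0, 0, 0, 0, 0, 0, 0, 0, 0, 0, 0, 0, 0, 0, 0, 0, 0, 0, 0, 0, 0, 0, 0, 0, 0, 0, 0, 0, 0, 0, 0, 0, 0, 0, 0, 0, 0, 0, 0, 0, 0],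
    [0, 1, 0, 0, 1, 0, 0, 0, 0, 0, 0, 0, 0, 0, 0, 1, 0, 0, 0, 0, 0, 0, 0, 0, 0, 0, 0, 0, 0, 0, 0, 0, 0, 0, 0, 0, 0, 0, 0, 0, 0, 0, 0, 0, 0, 0, 0, 0, 0, 0, 0, 0, 0, 0, 0, 0, 0, 0, 0, 0, 0, 0, 0, 0, 0, 0, 0, 0, 0, 0, 0, 0, 0, 0],
    [1, 1, 1, 1, 1, 1, 0, 0, 0, 0, 0, 0, 0, 0, 1, 0, 0, 0, 0, 0, 0, 0, 0, 0, 0, 0, 0, 0, 0, 0, 0, 0, 0, 0, 0, 0, 0, 0, 0, 0, 0, 0, 0, 0, 0, 0, 0, 0, 0, 0, 0, 0, 0, 0, 0, 0, 0, 0, 0, 0, 0, 0, 0, 0, 0, 0, 0, 0, 0, 0, 0, 0, 0, 0],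
    [1, 1, 1, 0, 1, 1, 0, 0, 0, 0, 0, 0, 0, 0, 0, 0, 0, 0, 0, 0, 0, 0, 0, 0, 0, 0, 0, 0, 0, 0, 0, 0, 0, 0, 0, 0, 0, 0, 0, 0, 0, 0, 0, 0, 0, 0, 1, 1, 0, 0, 0, 0, 0, 0, 0, 0, 0, 0, 0, 0, 0, 0, 0, 0, 0, 0, 0, 0, 0, 0, 0, 0, 0, 0],
    [0, 1, 0, 1, 1, 0, 0, 0, 0, 0, 0, 0, 0, 0, 0, 0, 0, 0, 0, 0, 0, 1, 0, 0, 0, 0, 0, 0, 0, 0, 0, 0, 0, 0, 0, 0, 0, 0, 0, 0, 0, 0, 0, 0, 0, 0, 0, 0, 0, 0, 0, 0, 0, 0, 0, 0, 0, 0, 0, 0, 0, 0, 0, 0, 0, 0, 0, 0, 0, 0, 0, 0, 0, 0],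
    [1, 0, 0, 0, 0, 1, 0, 0, 0, 0, 0, 0, 0, 0, 0, 0, 0, 0, 0, 0, 0, 0, 0, 0, 0, 0, 0, 0, 1, 0, 1, 0, 0, 0, 0, 1, 0, 0, 0, 0, 0, 0, 0, 0, 1, 0, 0, 1, 0, 0, 0, 0, 1, 0, 1, 0, 0, 0, 0, 0, 0, 0, 0, 0, 0, 0, 0, 0, 0, 0, 0, 0, 0, 0],
    [0, 0, 0, 0, 1, 1, 0, 0, 0, 0, 0, 0, 0, 0, 0, 0, 1, 1, 0, 0, 1, 0, 0, 0, 0, 0, 0, 0, 0, 0, 0, 0, 0, 0, 0, 0, 0, 1, 1, 0, 0, 1, 0, 0, 0, 0, 0, 0, 0, 0, 0, 0, 0, 0, 0, 0, 0, 0, 0, 0, 0, 0, 0, 0, 0, 0, 0, 0, 0, 0, 0, 0, 0, 0],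
    [0, 0, 1, 0, 1, 1, 0, 0, 0, 0, 0, 0, 0, 0, 0, 0, 1, 1, 0, 0, 1, 0, 1, 1, 0, 0, 1, 0, 0, 0, 0, 0, 0, 0, 0, 0, 0, 1, 1, 0, 0, 0, 0, 0, 0, 0, 0, 0, 0, 0, 0, 0, 0, 0, 0, 0, 0, 0, 0, 0, 0, 0, 0, 0, 0, 0, 0, 0, 0, 0, 0, 0, 0, 0],
    [0, 0, 0, 1, 1, 0, 0, 0, 0, 0, 0, 0, 0, 0, 0, 0, 0, 0, 0, 0, 0, 0, 0, 0, 0, 0, 0, 0, 0, 1, 1, 0, 0, 0, 0, 0, 0, 0, 0, 0, 0, 0, 0, 0, 0, 1, 1, 0, 0, 0, 0, 0, 0, 0, 0, 0, 0, 0, 0, 0, 0, 0, 0, 0, 0, 0, 0, 0, 0, 0, 0, 0, 0, 0],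
    [0, 1, 1, 0, 1, 0, 0, 0, 0, 0, 0, 1, 0, 0, 0, 1, 1, 1, 1, 1, 0, 0, 1, 0, 0, 0, 0, 0, 0, 0, 0, 0, 0, 0, 0, 0, 0, 0, 0, 0, 0, 0, 0, 0, 0, 0, 0, 0, 0, 0, 0, 0, 0, 0, 0, 0, 0, 0, 0, 0, 0, 0, 0, 0, 0, 0, 0, 0, 0, 0, 0, 0, 0, 0],
    [0, 0, 0, 0, 0, 0, 0, 1, 1, 0, 0, 0, 0, 0, 0, 0, 0, 1, 1, 0, 0, 0, 1, 0, 0, 0, 0, 0, 0, 0, 0, 0, 0, 0, 0, 0, 0, 1, 1, 0, 0, 0, 0, 0, 0, 0, 0, 0, 0, 0, 0, 0, 0, 0, 0, 0, 0, 0, 0, 0, 0, 0, 0, 0, 0, 0, 0, 0, 0, 0, 0, 0, 0, 0],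
    [0, 1, 1, 0, 0, 1, 1, 0, 0, 0, 1, 1, 1, 1, 0, 0, 0, 0, 0, 0, 0, 0, 0, 0, 0, 1, 0, 0, 0, 0, 0, 0, 0, 0, 0, 0, 0, 0, 0, 0, 0, 0, 0, 0, 0, 0, 0, 0, 0, 1, 0, 0, 0, 0, 0, 0, 0, 0, 0, 0, 0, 0, 0, 0, 0, 0, 0, 0, 0, 0, 0, 0, 0, 0],
    [0, 1, 1, 1, 1, 1, 0, 0, 0, 0, 0, 1, 1, 0, 0, 0, 1, 1, 0, 0, 0, 1, 1, 1, 1, 1, 0, 0, 0, 0, 0, 0, 0, 0, 0, 0, 0, 0, 0, 0, 0, 0, 0, 0, 0, 0, 0, 0, 0, 0, 0, 0, 0, 0, 0, 0, 0, 0, 0, 0, 0, 0, 0, 0, 0, 0, 0, 0, 0, 0, 0, 0, 0, 0],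
    [1, 1, 1, 0, 1, 0, 1, 0, 0, 0, 0, 1, 0, 0, 0, 0, 0, 0, 0, 0, 0, 0, 0, 0, 0, 0, 0, 0, 1, 1, 1, 1, 1, 0, 0, 0, 0, 0, 0, 0, 0, 0, 0, 0, 0, 0, 1, 0, 0, 0, 0, 0, 0, 0, 0, 0, 0, 0, 0, 0, 0, 0, 0, 0, 0, 0, 0, 0, 0, 0, 0, 0, 0, 0],
    [1, 0, 0, 1, 1, 1, 0, 0, 1, 1, 1, 1, 1, 1, 1, 1, 1, 1, 1, 1, 0, 0, 0, 0, 0, 0, 0, 0, 0, 0, 0, 0, 0, 0, 0, 0, 0, 0, 0, 0, 0, 0, 0, 0, 0, 0, 1, 0, 0, 0, 0, 0, 0, 0, 0, 0, 0, 0, 0, 0, 0, 0, 0, 0, 0, 0, 0, 0, 0, 0, 0, 0, 0, 0],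
    [0, 1, 0, 1, 0, 0, 0, 1, 0, 0, 0, 0, 1, 1, 0, 0, 1, 1, 0, 0, 0, 0, 0, 0, 0, 0, 0, 0, 0, 0, 0, 0, 0, 0, 0, 0, 0, 0, 0, 0, 0, 0, 0, 0, 0, 0, 1, 0, 0, 0, 0, 0, 0, 0, 0, 0, 0, 0, 0, 0, 0, 0, 0, 0, 0, 0, 0, 0, 0, 0, 0, 0, 0, 0],
    [1, 0, 0, 1, 1, 0, 1, 0, 0, 0, 0, 1, 0, 0, 0, 0, 0, 0, 0, 0, 0, 0, 0, 0, 0, 0, 0, 0, 1, 0, 0, 0, 0, 0, 0, 0, 1, 0, 1, 1, 1, 0, 0, 1, 0, 0, 0, 0, 0, 0, 0, 0, 0, 0, 0, 0, 0, 0, 0, 0, 0, 0, 0, 0, 0, 0, 0, 0, 0, 0, 0, 0, 0, 0],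
    [0, 0, 0, 0, 1, 1, 0, 0, 0, 1, 0, 0, 1, 0, 1, 0, 0, 0, 0, 0, 0, 0, 1, 0, 1, 1, 0, 0, 0, 0, 0, 0, 0, 0, 0, 0, 0, 0, 0, 0, 0, 0, 0, 0, 0, 0, 0, 0, 1, 0, 0, 1, 0, 0, 1, 0, 0, 0, 0, 0, 0, 0, 0, 0, 0, 0, 0, 0, 0, 0, 0, 0, 0, 0],
    [1, 0, 0, 1, 0, 0, 1, 0, 0, 1, 1, 1, 1, 1, 1, 0, 0, 0, 0, 0, 0, 0, 0, 0, 0, 0, 0, 0, 0, 0, 0, 0, 0, 0, 0, 0, 0, 0, 0, 0, 0, 0, 0, 0, 0, 1, 1, 1, 1, 1, 0, 0, 0, 0, 0, 0, 0, 0, 0, 0, 0, 0, 0, 0, 0, 0, 0, 0, 0, 0, 0, 0, 0, 0],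
    [1, 0, 1, 1, 0, 0, 1, 0, 0, 0, 1, 0, 1, 1, 0, 1, 1, 0, 0, 1, 0, 1, 1, 1, 0, 0, 0, 0, 0, 0, 0, 0, 1, 0, 0, 0, 0, 0, 0, 0, 0, 0, 0, 0, 0, 1, 1, 1, 0, 0, 0, 0, 0, 0, 0, 0, 0, 0, 0, 0, 0, 0, 0, 0, 0, 0, 0, 0, 0, 0, 0, 0, 0, 0],
    [1, 0, 0, 0, 0, 0, 1, 1, 0, 0, 0, 0, 0, 1, 0, 1, 1, 0, 0, 1, 0, 0, 0, 0, 0, 0, 0, 0, 1, 1, 0, 0, 1, 0, 0, 0, 1, 1, 0, 0, 1, 1, 0, 1, 0, 0, 0, 0, 0, 0, 0, 0, 0, 0, 0, 0, 0, 0, 0, 0, 0, 0, 0, 0, 0, 0, 0, 0, 0, 0, 0, 0, 0, 0],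
    [0, 0, 1, 0, 1, 1, 0, 0, 0, 0, 0, 1, 1, 0, 0, 0, 1, 1, 0, 0, 0, 0, 1, 1, 0, 1, 1, 1, 0, 0, 0, 0, 0, 0, 0, 0, 0, 0, 0, 0, 0, 0, 0, 0, 0, 0, 0, 0, 0, 0, 0, 0, 0, 0, 0, 0, 0, 0, 0, 0, 0, 0, 0, 0, 0, 0, 0, 0, 0, 0, 0, 0, 0, 0],
    [0, 0, 0, 0, 0, 1, 0, 1, 0, 1, 0, 1, 1, 0, 1, 0, 1, 1, 1, 1, 0, 0, 0, 0, 0, 0, 0, 0, 0, 0, 0, 1, 0, 1, 0, 1, 1, 0, 0, 1, 0, 1, 0, 1, 1, 0, 0, 0, 0, 0, 0, 0, 0, 0, 0, 0, 0, 0, 0, 0, 0, 0, 0, 0, 0, 0, 0, 0, 0, 0, 0, 0, 0, 0],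
    [0, 1, 0, 0, 0, 1, 1, 0, 0, 1, 1, 1, 1, 1, 1, 0, 0, 0, 0, 0, 0, 0, 0, 0, 0, 0, 0, 0, 0, 0, 0, 0, 0, 0, 0, 0, 0, 0, 0, 0, 0, 0, 0, 0, 0, 0, 1, 1, 1, 1, 0, 0, 0, 0, 1, 0, 0, 0, 0, 0, 0, 0, 0, 0, 0, 0, 0, 0, 0, 0, 0, 0, 0, 0],
    [0, 1, 1, 0, 1, 1, 0, 0, 1, 1, 0, 1, 1, 1, 1, 0, 0, 0, 0, 0, 0, 0, 0, 0, 0, 0, 0, 0, 1, 1, 1, 1, 1, 0, 0, 1, 1, 1, 0, 0, 0, 0, 0, 0, 1, 0, 0, 0, 0, 0, 0, 0, 0, 0, 0, 0, 0, 0, 0, 0, 0, 0, 0, 0, 0, 0, 0, 0, 0, 0, 0, 0, 0, 0],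
    [0, 0, 1, 0, 1, 1, 0, 1, 1, 1, 1, 1, 1, 1, 1, 0, 0, 0, 0, 0, 0, 0, 0, 0, 0, 0, 0, 0, 1, 0, 1, 1, 1, 0, 0, 1, 1, 0, 1, 1, 1, 0, 0, 1, 0, 0, 0, 0, 0, 0, 0, 0, 0, 0, 0, 0, 0, 0, 0, 0, 0, 0, 0, 0, 0, 0, 0, 0, 0, 0, 0, 0, 0, 0],
    [1, 1, 0, 1, 0, 0, 0, 1, 1, 0, 0, 1, 1, 0, 0, 0, 1, 1, 1, 0, 1, 0, 1, 1, 1, 0, 0, 1, 0, 1, 1, 1, 0, 1, 0, 1, 0, 0, 0, 0, 0, 0, 0, 0, 0, 0, 0, 0, 0, 0, 0, 0, 0, 0, 0, 0, 0, 0, 0, 0, 0, 0, 0, 0, 0, 0, 0, 0, 0, 0, 0, 0, 0, 0],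
    [1, 1, 1, 0, 1, 1, 0, 1, 1, 0, 1, 0, 1, 0, 0, 0, 0, 1, 0, 1, 0, 1, 0, 0, 0, 1, 1, 0, 0, 0, 0, 1, 0, 0, 1, 0, 0, 0, 0, 0, 0, 0, 0, 0, 0, 0, 0, 0, 1, 1, 1, 1, 1, 0, 0, 0, 0, 0, 0, 0, 0, 0, 0, 0, 0, 0, 0, 0, 0, 0, 0, 0, 0, 0],
    [0, 1, 0, 1, 1, 1, 0, 1, 0, 0, 0, 0, 1, 0, 0, 0, 0, 1, 0, 0, 0, 1, 0, 1, 1, 1, 0, 0, 0, 1, 0, 0, 0, 1, 1, 0, 0, 1, 1, 0, 0, 0, 0, 0, 0, 0, 1, 1, 0, 0, 1, 0, 0, 0, 0, 0, 0, 0, 0, 0, 0, 0, 0, 0, 0, 0, 0, 0, 0, 0, 0, 0, 0, 0]]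
  mu := [[0, 0, 0, 0, 0, 0, 0, 0, 0, 0, 0, 0, 0, 0, 0, 0, 0, 0, 0, 0, 0, 0, 0, 0, 0, 0, 0, 0, 0, 0, 0, 0, 0, 0, 0, 0, 0, 0, 0, 0, 0, 0, 0, 0, 0, 0, 0, 0, 0, 1, 0, 1, 0, 0, 0, 0, 0, 0, 0, 0, 0, 0, 0, 0, 0, 0, 0, 0, 0, 0, 0, 0, 0, 0],
    [0, 0, 0, 0, 0, 0, 0, 0, 0, 0, 0, 0, 0, 0, 0, 0, 0, 0, 0, 0, 0, 0, 0, 0, 0, 0, 0, 0, 0, 0, 0, 0, 0, 0, 0, 0, 0, 0, 0, 0, 0, 0, 0, 1, 0, 0, 0, 0, 0, 1, 0, 1, 0, 0, 0, 0, 0, 0, 0, 0, 0, 0, 0, 0, 0, 0, 0, 0, 0, 0, 0, 0, 0, 0],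
    [0, 0, 0, 0, 0, 0, 0, 0, 0, 0, 0, 0, 0, 0, 0, 0, 0, 0, 0, 0, 0, 0, 0, 0, 0, 0, 0, 0, 0, 0, 0, 0, 0, 0, 0, 0, 0, 0, 0, 0, 0, 0, 0, 1, 0, 0, 0, 0, 0, 1, 0, 0, 0, 0, 0, 0, 0, 0, 0, 0, 0, 0, 0, 0, 0, 0, 0, 0, 0, 0, 0, 0, 0, 0],
    [0, 0, 0, 0, 0, 0, 0, 0, 0, 0, 0, 0, 0, 0, 0, 0, 0, 0, 0, 0, 0, 0, 0, 0, 0, 0, 0, 0, 0, 0, 0, 0, 0, 0, 0, 0, 0, 0, 0, 0, 0, 0, 0, 0, 0, 0, 0, 0, 0, 1, 1, 0, 0, 0, 0, 0, 0, 0, 0, 0, 0, 0, 0, 0, 0, 0, 0, 0, 0, 0, 0, 0, 0, 0],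
    [0, 0, 0, 0, 0, 0, 0, 0, 0, 0, 0, 0, 0, 0, 0, 0, 0, 0, 0, 0, 0, 0, 0, 0, 0, 0, 0, 0, 0, 0, 0, 0, 0, 0, 0, 0, 0, 0, 0, 0, 0, 0, 0, 0, 0, 0, 0, 0, 0, 0, 0, 0, 0, 0, 0, 0, 0, 0, 0, 0, 0, 0, 0, 0, 0, 0, 0, 0, 0, 0, 0, 0, 0, 0],
    [0, 0, 0, 0, 0, 0, 0, 0, 0, 0, 0, 0, 0, 0, 0, 0, 0, 0, 0, 0, 0, 0, 0, 0, 0, 0, 0, 0, 0, 0, 0, 0, 0, 0, 0, 0, 0, 0, 0, 0, 0, 0, 1, 0, 0, 0, 0, 0, 0, 0, 0, 1, 0, 0, 0, 0, 0, 0, 0, 0, 0, 0, 0, 0, 0, 0, 0, 0, 0, 0, 0, 0, 0, 0],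
    [0, 0, 0, 0, 0, 0, 0, 0, 0, 0, 0, 0, 0, 0, 0, 0, 0, 0, 0, 0, 0, 0, 0, 0, 0, 0, 0, 0, 0, 0, 0, 0, 0, 0, 0, 0, 0, 0, 0, 0, 0, 0, 0, 0, 0, 0, 0, 0, 0, 0, 0, 0, 0, 0, 0, 0, 0, 0, 0, 0, 0, 0, 0, 0, 0, 0, 0, 0, 0, 0, 0, 0, 0, 0],
    [0, 0, 0, 0, 0, 0, 0, 0, 0, 0, 0, 0, 0, 0, 0, 0, 0, 0, 0, 0, 0, 0, 0, 0, 0, 0, 0, 0, 0, 0, 0, 0, 0, 0, 0, 0, 0, 0, 0, 0, 0, 0, 0, 1, 0, 0, 0, 0, 0, 1, 1, 1, 0, 1, 0, 0, 0, 0, 0, 0, 0, 0, 0, 0, 0, 0, 0, 0, 0, 0, 0, 0, 0, 0],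
    [0, 0, 0, 0, 0, 0, 0, 0, 0, 0, 0, 0, 0, 0, 0, 0, 0, 0, 0, 0, 0, 0, 0, 0, 0, 0, 0, 0, 0, 0, 0, 0, 0, 0, 0, 0, 0, 0, 0, 0, 0, 0, 0, 0, 0, 0, 0, 0, 0, 0, 0, 0, 0, 0, 0, 0, 0, 0, 0, 0, 0, 0, 0, 0, 0, 0, 0, 0, 0, 0, 0, 0, 0, 0],
    [0, 0, 0, 0, 0, 0, 0, 0, 0, 0, 0, 0, 0, 0, 0, 0, 0, 0, 0, 0, 0, 0, 0, 0, 0, 0, 0, 0, 0, 0, 0, 0, 0, 0, 0, 0, 0, 0, 0, 0, 0, 0, 0, 0, 0, 0, 0, 0, 0, 0, 0, 0, 0, 0, 0, 0, 0, 0, 0, 0, 0, 0, 0, 0, 0, 0, 0, 0, 0, 0, 0, 0, 0, 0]]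
  comb := [[0, 0, 1, 0, 0, 0, 0, 0, 0, 0, 1, 0, 0, 1, 0, 0, 0, 0, 0, 0, 0, 0, 0, 0, 0, 0, 0, 0, 0, 0, 0, 0, 0, 0, 0, 0, 0, 0, 0, 0, 0, 0, 0, 0, 0, 0, 0, 0, 0],
    [0, 0, 1, 0, 0, 0, 0, 0, 0, 0, 0, 0, 0, 0, 0, 0, 0, 0, 0, 0, 0, 0, 0, 0, 0, 0, 0, 0, 0, 0, 0, 0, 0, 0, 0, 0, 0, 0, 0, 0, 0, 0, 0, 0, 0, 0, 0, 0, 0],
    [0, 0, 0, 0, 0, 1, 0, 0, 0, 0, 0, 0, 0, 0, 0, 1, 0, 0, 0, 0, 0, 0, 0, 0, 0, 0, 0, 0, 0, 0, 0, 0, 0, 0, 0, 0, 0, 0, 0, 0, 0, 0, 0, 0, 0, 0, 0, 0, 0],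
    [0, 0, 1, 0, 0, 0, 0, 0, 0, 0, 1, 0, 0, 0, 0, 0, 0, 0, 0, 0, 0, 0, 0, 0, 0, 0, 0, 0, 0, 0, 0, 0, 0, 0, 0, 0, 0, 0, 0, 0, 0, 0, 0, 0, 0, 0, 0, 0, 0],
    [0, 0, 0, 1, 0, 0, 0, 0, 0, 0, 0, 0, 0, 0, 0, 0, 0, 0, 0, 0, 0, 0, 0, 0, 0, 0, 0, 0, 0, 0, 0, 0, 0, 0, 0, 0, 0, 0, 0, 0, 0, 0, 0, 0, 0, 0, 0, 0, 0],
    [0, 0, 0, 0, 0, 1, 1, 1, 1, 0, 0, 0, 1, 0, 1, 0, 0, 0, 1, 0, 0, 0, 1, 0, 0, 0, 0, 0, 0, 0, 0, 0, 0, 0, 0, 0, 1, 0, 0, 0, 0, 0, 0, 0, 1, 1, 0, 0, 0],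
    [0, 0, 1, 0, 0, 0, 0, 1, 0, 0, 1, 0, 0, 1, 0, 0, 0, 0, 0, 0, 0, 0, 0, 0, 0, 0, 0, 0, 0, 0, 0, 0, 0, 0, 0, 0, 0, 0, 0, 0, 0, 0, 0, 0, 0, 0, 0, 0, 0],
    [0, 0, 0, 0, 0, 1, 0, 0, 1, 0, 0, 0, 0, 0, 0, 1, 0, 0, 0, 0, 0, 0, 0, 0, 0, 0, 0, 0, 0, 0, 0, 0, 0, 0, 0, 0, 0, 0, 0, 0, 0, 0, 0, 0, 0, 0, 0, 0, 0],
    [0, 0, 0, 1, 0, 1, 1, 1, 0, 0, 0, 0, 1, 0, 1, 0, 0, 0, 1, 0, 1, 0, 1, 0, 0, 0, 0, 0, 0, 0, 0, 0, 0, 0, 0, 0, 1, 0, 0, 0, 0, 0, 0, 0, 1, 1, 0, 0, 0],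
    [0, 0, 1, 0, 1, 0, 0, 1, 1, 0, 0, 1, 1, 1, 1, 1, 0, 0, 1, 0, 1, 0, 0, 0, 0, 0, 0, 0, 0, 1, 0, 0, 0, 0, 1, 1, 1, 0, 0, 0, 0, 0, 0, 0, 1, 1, 0, 0, 0],
    [0, 0, 1, 0, 0, 0, 1, 0, 0, 0, 1, 0, 0, 1, 0, 0, 0, 0, 0, 0, 0, 0, 0, 0, 0, 0, 0, 0, 0, 0, 0, 0, 0, 0, 0, 0, 0, 0, 0, 0, 0, 0, 0, 0, 0, 0, 0, 0, 0],
    [0, 0, 0, 0, 0, 1, 0, 0, 0, 1, 0, 0, 0, 0, 0, 1, 0, 0, 0, 0, 0, 0, 0, 0, 0, 0, 0, 0, 0, 0, 0, 0, 0, 0, 0, 0, 0, 0, 0, 0, 0, 0, 0, 0, 0, 0, 0, 0, 0],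
    [0, 0, 0, 0, 0, 1, 1, 1, 1, 1, 0, 0, 1, 0, 1, 0, 0, 0, 1, 1, 0, 0, 1, 0, 0, 0, 0, 0, 0, 0, 0, 0, 0, 0, 0, 0, 1, 0, 0, 0, 0, 0, 0, 0, 1, 1, 0, 0, 0],
    [0, 1, 1, 0, 1, 1, 0, 0, 1, 1, 1, 1, 1, 1, 1, 0, 0, 0, 1, 1, 0, 0, 1, 1, 1, 0, 0, 0, 0, 0, 0, 0, 1, 0, 0, 0, 1, 1, 0, 0, 0, 0, 0, 1, 1, 1, 0, 0, 0],
    [0, 0, 1, 1, 0, 0, 1, 1, 1, 0, 0, 0, 1, 1, 1, 1, 0, 0, 1, 0, 0, 0, 0, 0, 0, 0, 0, 0, 0, 0, 0, 0, 0, 0, 0, 0, 1, 0, 0, 0, 0, 0, 0, 0, 1, 1, 0, 0, 0],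
    [0, 0, 1, 1, 0, 0, 0, 0, 0, 0, 0, 0, 0, 0, 0, 0, 0, 0, 0, 0, 0, 1, 0, 0, 0, 0, 0, 0, 0, 0, 0, 0, 0, 0, 0, 0, 0, 0, 0, 0, 0, 0, 0, 0, 0, 0, 0, 0, 0],
    [1, 0, 0, 0, 0, 0, 0, 0, 0, 0, 0, 0, 0, 0, 0, 0, 0, 0, 0, 0, 0, 0, 0, 0, 0, 0, 0, 0, 0, 0, 0, 0, 0, 0, 0, 0, 0, 0, 0, 0, 0, 0, 0, 0, 0, 0, 0, 0, 0],
    [1, 0, 0, 0, 0, 0, 0, 0, 0, 0, 0, 1, 0, 0, 0, 0, 0, 0, 0, 0, 0, 0, 0, 0, 0, 0, 0, 0, 0, 0, 0, 0, 0, 0, 0, 0, 0, 0, 0, 0, 0, 0, 0, 0, 0, 0, 0, 0, 0],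
    [0, 0, 0, 1, 1, 0, 1, 0, 1, 0, 1, 1, 0, 0, 1, 0, 0, 0, 1, 1, 0, 1, 1, 0, 1, 0, 0, 1, 1, 0, 0, 0, 0, 0, 1, 0, 1, 1, 0, 1, 1, 1, 1, 1, 0, 0, 1, 0, 0],
    [0, 0, 0, 1, 0, 0, 1, 0, 1, 1, 1, 0, 0, 0, 1, 0, 0, 0, 1, 1, 0, 0, 1, 0, 1, 0, 0, 1, 1, 1, 0, 0, 0, 0, 1, 0, 1, 1, 0, 1, 1, 1, 1, 1, 0, 0, 1, 0, 0],
    [1, 0, 0, 0, 0, 1, 1, 0, 0, 0, 1, 0, 0, 0, 0, 0, 0, 1, 1, 1, 0, 0, 1, 0, 0, 1, 0, 1, 1, 0, 1, 1, 1, 0, 0, 0, 0, 0, 0, 1, 1, 0, 1, 1, 1, 1, 0, 1, 1],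
    [0, 0, 0, 1, 0, 0, 0, 0, 0, 0, 1, 0, 0, 0, 0, 0, 0, 0, 0, 0, 0, 0, 0, 0, 1, 0, 0, 0, 0, 0, 0, 0, 0, 0, 0, 0, 0, 0, 0, 0, 0, 0, 0, 0, 0, 0, 0, 0, 0],
    [0, 0, 0, 0, 1, 0, 0, 0, 0, 0, 0, 0, 0, 0, 0, 0, 0, 0, 0, 0, 0, 0, 0, 0, 0, 0, 0, 0, 0, 0, 0, 0, 0, 0, 0, 0, 0, 0, 0, 0, 0, 0, 0, 0, 0, 0, 0, 0, 0],
    [0, 1, 0, 0, 1, 0, 0, 0, 0, 0, 0, 0, 0, 0, 0, 0, 0, 0, 0, 0, 0, 0, 0, 0, 0, 0, 0, 0, 0, 0, 0, 0, 0, 0, 0, 0, 0, 0, 0, 0, 0, 0, 0, 0, 0, 0, 0, 0, 0],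
    [0, 0, 0, 0, 1, 1, 1, 1, 1, 1, 1, 0, 1, 1, 1, 0, 0, 0, 1, 1, 0, 0, 1, 1, 0, 0, 0, 0, 0, 0, 0, 1, 0, 0, 0, 0, 1, 1, 0, 0, 0, 0, 0, 1, 1, 1, 0, 0, 0],
    [0, 1, 0, 0, 1, 1, 1, 1, 1, 1, 1, 1, 1, 1, 1, 0, 0, 0, 1, 0, 0, 0, 1, 1, 1, 0, 0, 0, 0, 0, 0, 1, 1, 0, 0, 0, 1, 1, 0, 0, 0, 0, 0, 1, 1, 1, 0, 0, 0],
    [0, 1, 0, 1, 0, 1, 0, 0, 1, 0, 0, 1, 0, 0, 1, 0, 0, 1, 0, 0, 1, 1, 0, 0, 1, 1, 0, 1, 0, 0, 0, 1, 1, 0, 1, 0, 1, 1, 0, 0, 0, 1, 0, 0, 1, 1, 1, 1, 1],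
    [0, 1, 0, 0, 1, 0, 1, 1, 0, 1, 1, 1, 1, 1, 0, 0, 0, 1, 1, 1, 1, 1, 1, 1, 0, 1, 0, 1, 0, 0, 0, 0, 0, 0, 1, 0, 0, 0, 0, 0, 0, 0, 0, 1, 0, 0, 1, 1, 1],
    [0, 0, 1, 0, 0, 0, 0, 0, 0, 0, 1, 0, 1, 1, 0, 0, 0, 0, 0, 0, 0, 0, 0, 0, 0, 0, 0, 0, 0, 0, 0, 0, 0, 0, 0, 0, 0, 0, 0, 0, 0, 0, 0, 0, 0, 0, 0, 0, 0],
    [0, 0, 0, 0, 0, 1, 0, 0, 0, 0, 0, 0, 0, 0, 1, 1, 0, 0, 0, 0, 0, 0, 0, 0, 0, 0, 0, 0, 0, 0, 0, 0, 0, 0, 0, 0, 0, 0, 0, 0, 0, 0, 0, 0, 0, 0, 0, 0, 0],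
    [0, 1, 1, 1, 1, 0, 1, 1, 1, 0, 0, 0, 0, 0, 1, 0, 1, 0, 0, 0, 0, 0, 0, 1, 1, 0, 0, 0, 1, 0, 0, 0, 1, 0, 0, 1, 0, 1, 0, 0, 0, 0, 0, 1, 0, 0, 0, 0, 0],
    [1, 0, 1, 0, 1, 1, 0, 0, 0, 0, 0, 1, 0, 0, 0, 0, 0, 0, 0, 1, 0, 1, 0, 0, 1, 0, 0, 1, 0, 1, 0, 0, 1, 1, 1, 0, 0, 0, 0, 0, 1, 1, 1, 0, 1, 1, 1, 0, 0],
    [1, 0, 1, 0, 1, 1, 0, 1, 0, 1, 1, 1, 1, 0, 0, 0, 1, 0, 0, 1, 0, 1, 0, 0, 1, 0, 0, 1, 1, 1, 0, 0, 1, 0, 1, 0, 0, 0, 0, 0, 1, 1, 1, 0, 1, 1, 1, 0, 0],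
    [0, 1, 1, 0, 0, 0, 1, 1, 0, 1, 0, 0, 1, 1, 1, 1, 1, 0, 0, 0, 0, 1, 0, 1, 1, 0, 0, 0, 1, 0, 1, 0, 1, 0, 0, 1, 1, 1, 0, 0, 1, 0, 1, 1, 1, 0, 0, 0, 0],
    [0, 1, 1, 1, 1, 0, 0, 1, 0, 0, 0, 0, 1, 0, 1, 1, 1, 0, 1, 1, 1, 0, 1, 0, 0, 0, 0, 1, 0, 0, 0, 0, 0, 0, 1, 1, 0, 0, 0, 1, 0, 1, 0, 0, 1, 0, 1, 0, 1],
    [0, 0, 0, 1, 1, 0, 0, 0, 1, 1, 0, 0, 1, 0, 1, 0, 0, 0, 0, 0, 0, 0, 0, 0, 0, 0, 0, 0, 0, 1, 0, 0, 0, 1, 1, 0, 1, 0, 0, 0, 0, 0, 0, 0, 0, 1, 0, 0, 0],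
    [0, 0, 1, 0, 0, 0, 0, 0, 0, 0, 1, 0, 0, 1, 0, 0, 0, 1, 0, 0, 0, 0, 0, 0, 0, 0, 0, 0, 0, 0, 0, 0, 0, 0, 0, 0, 0, 0, 0, 0, 0, 0, 0, 0, 0, 0, 0, 0, 0],
    [0, 0, 0, 0, 0, 1, 0, 0, 0, 0, 0, 0, 0, 0, 0, 0, 0, 0, 0, 0, 0, 0, 0, 0, 0, 0, 0, 0, 0, 0, 0, 0, 0, 0, 0, 0, 0, 0, 0, 0, 0, 0, 0, 0, 0, 0, 0, 0, 0],
    [1, 0, 0, 0, 0, 1, 0, 1, 0, 0, 1, 0, 1, 0, 0, 1, 0, 0, 0, 1, 1, 1, 0, 0, 1, 0, 0, 1, 1, 0, 1, 0, 0, 0, 1, 0, 0, 1, 0, 1, 1, 1, 1, 1, 1, 1, 1, 0, 0],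
    [1, 1, 0, 0, 0, 1, 1, 0, 0, 0, 1, 1, 1, 1, 0, 1, 1, 1, 0, 0, 0, 0, 0, 1, 1, 1, 1, 1, 1, 0, 1, 1, 1, 0, 0, 0, 0, 0, 0, 0, 0, 0, 1, 1, 0, 0, 0, 1, 1],
    [0, 1, 1, 1, 0, 1, 1, 0, 0, 1, 1, 1, 1, 1, 0, 1, 1, 0, 0, 1, 1, 1, 0, 1, 0, 1, 1, 0, 0, 0, 0, 1, 1, 0, 1, 0, 1, 1, 0, 1, 1, 1, 0, 0, 1, 1, 1, 1, 1],
    [0, 0, 0, 1, 0, 0, 0, 0, 1, 0, 0, 1, 0, 0, 1, 1, 0, 1, 0, 0, 1, 1, 0, 0, 1, 1, 1, 0, 0, 0, 0, 1, 1, 0, 1, 0, 1, 1, 0, 0, 0, 1, 0, 0, 1, 1, 1, 1, 1],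
    [0, 0, 0, 0, 0, 0, 0, 0, 0, 0, 0, 0, 0, 0, 0, 0, 0, 0, 0, 0, 0, 0, 0, 0, 0, 0, 0, 0, 0, 0, 0, 0, 0, 0, 0, 0, 0, 0, 0, 0, 0, 0, 0, 0, 0, 0, 0, 0, 0],
    [0, 0, 0, 0, 0, 0, 0, 0, 0, 0, 0, 0, 0, 0, 0, 0, 0, 0, 0, 0, 0, 0, 0, 0, 0, 0, 0, 0, 0, 0, 0, 0, 0, 0, 0, 0, 0, 0, 0, 0, 0, 0, 0, 0, 0, 0, 0, 0, 0],
    [0, 0, 1, 1, 0, 0, 1, 1, 1, 1, 0, 0, 1, 1, 1, 1, 0, 1, 0, 0, 0, 0, 0, 0, 0, 0, 0, 0, 0, 0, 0, 0, 0, 0, 0, 0, 1, 0, 0, 0, 0, 0, 0, 0, 1, 1, 0, 0, 0],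
    [0, 0, 1, 0, 0, 0, 0, 0, 0, 0, 1, 0, 0, 1, 0, 0, 1, 0, 0, 0, 0, 0, 0, 0, 0, 0, 0, 0, 0, 0, 0, 0, 0, 0, 0, 0, 0, 0, 0, 0, 0, 0, 0, 0, 0, 0, 0, 0, 0],
    [0, 1, 1, 0, 1, 1, 1, 1, 1, 0, 0, 0, 0, 1, 0, 1, 0, 0, 0, 0, 0, 0, 0, 1, 1, 0, 0, 0, 0, 0, 0, 0, 1, 0, 0, 1, 0, 1, 0, 0, 0, 0, 0, 1, 0, 0, 0, 0, 0],
    [0, 1, 1, 1, 1, 1, 0, 0, 0, 0, 1, 0, 1, 0, 1, 0, 0, 0, 1, 0, 0, 0, 1, 0, 1, 0, 0, 0, 0, 0, 0, 0, 1, 0, 0, 1, 1, 1, 0, 0, 0, 0, 0, 1, 1, 1, 0, 0, 0],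
    [0, 1, 0, 0, 0, 1, 0, 1, 1, 1, 1, 0, 1, 0, 1, 0, 1, 0, 1, 0, 1, 0, 1, 0, 1, 0, 0, 0, 0, 1, 0, 0, 1, 0, 1, 1, 1, 1, 1, 0, 0, 0, 0, 1, 1, 1, 0, 0, 0],
    [0, 0, 0, 0, 0, 0, 0, 0, 0, 0, 0, 0, 0, 0, 0, 0, 0, 0, 0, 0, 0, 0, 0, 0, 0, 0, 0, 0, 0, 0, 0, 0, 0, 0, 0, 0, 0, 0, 0, 0, 0, 0, 0, 0, 0, 0, 0, 0, 0],
    [0, 0, 0, 0, 0, 0, 0, 0, 0, 0, 0, 0, 0, 0, 0, 0, 0, 0, 0, 0, 0, 0, 0, 0, 0, 0, 0, 0, 0, 0, 0, 0, 0, 0, 0, 0, 0, 0, 0, 0, 0, 0, 0, 0, 0, 0, 0, 0, 0],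
    [0, 0, 0, 0, 0, 0, 0, 0, 0, 0, 0, 0, 0, 0, 0, 0, 0, 0, 0, 0, 0, 0, 0, 0, 0, 0, 0, 0, 0, 0, 0, 0, 0, 0, 0, 0, 0, 0, 0, 0, 0, 0, 0, 0, 0, 0, 0, 0, 0],
    [0, 0, 1, 0, 1, 1, 0, 0, 1, 0, 0, 0, 0, 1, 0, 1, 0, 1, 1, 0, 0, 0, 1, 1, 0, 1, 0, 0, 1, 1, 0, 0, 0, 1, 1, 0, 1, 0, 1, 0, 0, 0, 0, 1, 0, 1, 0, 0, 0],
    [0, 0, 0, 0, 0, 0, 0, 0, 0, 0, 0, 0, 0, 0, 0, 0, 0, 0, 0, 0, 0, 0, 0, 0, 0, 0, 0, 0, 0, 0, 0, 0, 0, 0, 0, 0, 0, 0, 0, 0, 0, 0, 0, 0, 0, 0, 0, 0, 0],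
    [0, 0, 0, 0, 0, 1, 1, 1, 1, 0, 1, 0, 1, 0, 1, 0, 1, 0, 1, 0, 0, 0, 1, 0, 0, 0, 0, 0, 0, 0, 0, 0, 0, 0, 0, 0, 1, 0, 1, 0, 0, 0, 0, 1, 1, 1, 0, 0, 0]]

end CfsgLib.SchurCoThree
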