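import Cfsg.Agent.Lib.Leech.Aut.Co3Out
import Cfsg.Agent.Lib.Leech.Aut.Bridge
import Cfsg.Agent.Lib.Schur.CoThree.Eval
import Cfsg.Agent.Lib.Schur.CoThree.Data
import Cfsg.Agent.Lib.Schur.CoThree.Prim
import Cfsg.Agent.Lib.Schur.Trivial
import Mathlib.Tactic.NormNum.Prime

/-!
The Schur multiplier of the group Co3 is trivial.
-/

set_option autoImplicit false
set_option maxRecDepth 20000

namespace CfsgLib.SchurCoThree

open Cfsg CfsgLib CfsgLib.Leech CfsgLib.Leech.Stab CfsgLib.Leech.Aut CfsgLib.SchurLeech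

/-- The stabiliser in Co0 of the fixed vector. -/
noncomputable abbrev G3 : Subgroup Co0 := MulAction.stabilizer Co0 vecCo3

/-- The seven generating columns. -/
def primCols : List (List ℕ) := primSlp.map Prod.snd ++ [CoThree.cert.tC]

theorem prim_slp : slpB primSlp = true := by decide +kernel

theorem prim_valid : ∃ e : ℕ → Co0, ∀ a < primCols.length, Valid (e a) (primCols.getD a idC) := by
  have h : ∀ a, ∃ g : Co0, a < primCols.length → Valid g (primCols.getD a idC) := by
    intro a
    by_cases ha : a < primSlp.length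
    · obtain ⟨g, hg⟩ := slp_sound prim_slp a ha
      refine ⟨g, fun h => ?_⟩
      have e : primCols.getD a idC = colsAt primSlp a := by
        rw [List.getD_eq_getElem _ _ h, colsAt, List.getD_eq_getElem _ _ ha]
        simp [primCols, List.getElem_append_left, ha]
      rw [e]
      exact hg
    · obtain ⟨g, hg⟩ := CoThree.t_exists
      refine ⟨g, fun h => ?_⟩
      have ha' : a = primSlp.length := by
        simp [primCols] at h
        omega
      have e : primCols.getD a idC = CoThree.cert.tC := by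
        rw [List.getD_eq_getElem _ _ h]
        simp [primCols, ha']
      rw [e]
      exact hg
  choose e he using h
  exact ⟨e, he⟩

/-- The packed fixed vector. -/
def vC : ℕ := packL (lin (listOf (oneVec 5)))

theorem vC_rep : Stab.Rep (vecCo3 : GolayPt → ℤ) vC :=
  rep_packL (f := oneVec 5) (by decide +kernel)

/-- The checks of the data at one prime against the group. -/
def dataOK (W L : List (List ℕ)) (base : List ℕ) (E : List (List ℕ)) (C : SchurPath.Cert) (q : ℕ) : Bool :=
  (Nat.beq W.length L.length && (List.range W.length).all fun i =>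
    evalB primCols (W.getD i []) && eqC (evalC primCols (W.getD i [])) (L.getD i idC) &&
      applyB (L.getD i idC) vC vC) &&
  (C.rels.all fun r => evalB L r.1 && evalB L r.2 && eqC (evalC L r.1) (evalC L r.2)) &&
  base.all latB && Nat.beq E.length q &&
  (E.all fun w => (w.all fun a => Nat.blt a C.m) && base.all fun n => vecB L w n) &&
  incr (E.map (keyV L base)) && Nat.ble C.m L.length

theorem coe_wv (e : ℕ → G3) : ∀ w, ((SchurPath.wv e w : G3) : Co0) = SchurPath.wv (fun a => (e a : Co0)) w
  | [] => rfl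
  | a :: w => by
    show (e a : Co0) * ((SchurPath.wv e w : G3) : Co0) = _
    rw [coe_wv e w]
    rfl

/-- The certificate at one prime, applied. -/
theorem not_dvd_of_data (W L : List (List ℕ)) (base : List ℕ) (E : List (List ℕ)) (C : SchurPath.Cert)
    {p : ℕ} [Fact p.Prime] (hC : C.check p = true) (hD : dataOK W L base E C (p ^ C.m) = true) {i : ℕ}
    (hNi : 495766656000 = p ^ C.m * i) (hi : ¬ p ∣ i) {Γ : Type} [Group Γ] [Finite Γ]
    (σ : Γ →* G3) (hσ : Function.Surjective σ) (hc : σ.ker ≤ Subgroup.center Γ)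
    (hd : σ.ker ≤ commutator Γ) : ¬ p ∣ Nat.card σ.ker := by
  classical
  have : Finite G3 := Finite.of_surjective σ hσ
  simp only [dataOK, Bool.and_eq_true, Nat.beq_eq, Nat.ble_eq, List.all_eq_true, List.mem_range] at hD
  obtain ⟨⟨⟨⟨⟨⟨⟨hWL, hlet⟩, hR⟩, hbase⟩, hlen⟩, hE⟩, hincr⟩, hm⟩ := hD
  obtain ⟨e₀, he₀⟩ := prim_valid
  have hex : ∀ a, ∃ g : G3, a < L.length → Valid (g : Co0) (L.getD a idC) := by
    intro a
    by_cases ha : a < L.length
    · obtain ⟨⟨h1, h2⟩, h3⟩ := hlet a (hWL ▸ ha)
      have hv := valid_evalC e₀ he₀ _ h1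
      rw [eqC_iff.1 h2] at hv
      have hn : sqNorm (vecCo3 : GolayPt → ℤ) ≤ 80 := by rw [sqNorm_vecCo3]; norm_num
      refine ⟨⟨_, MulAction.mem_stabilizer_iff.2 (Subtype.ext (rep_inj
        (rep_smul hv vC_rep hn (applyC_of_applyB h3)) vC_rep ?_ hn))⟩, fun _ => hv⟩
      rw [sqNorm_smul]; exact hn
    · exact ⟨1, fun h => absurd h ha⟩
  choose e he using hex
  refine SchurPath.not_dvd_card_ker_of_check C hC e ?_ ?_
    (card_stabilizer48 sqNorm_vecCo3) hNi hi σ hσ hc hd
  · intro r hr
    obtain ⟨⟨h1, h2⟩, h3⟩ := hR _ (List.getElem_mem hr)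
    rw [List.getD_eq_getElem _ _ hr]
    refine Subtype.ext ?_
    rw [coe_wv, coe_wv]
    exact eq_of_eqC (valid_evalC (fun a => (e a : Co0)) he _ h1)
      (valid_evalC (fun a => (e a : Co0)) he _ h2) h3
  · simp only [Nat.blt_eq] at hE
    set S := Subgroup.closure {x | ∃ a < C.m, e a = x}
    have hmem : ∀ w ∈ E, SchurPath.wv e w ∈ S := fun w hw => list_prod_mem fun x hx => by
      obtain ⟨a, ha, rfl⟩ := List.mem_map.1 hx
      exact Subgroup.subset_closure ⟨a, (hE w hw).1 a ha, rfl⟩
    let f : Fin E.length → S := fun j => ⟨_, hmem _ (List.getElem_mem j.2)⟩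
    have hf : Function.Injective f := by
      intro j k h
      have hjk : SchurPath.wv (fun a => (e a : Co0)) E[(j : ℕ)] = SchurPath.wv (fun a => (e a : Co0)) E[(k : ℕ)] := by
        rw [← coe_wv, ← coe_wv]
        exact congrArg Subtype.val (congrArg Subtype.val h : (f j : G3) = (f k : G3))
      have hkey := keyV_eq (fun a => (e a : Co0)) he _ _ hjk base fun n hn =>
        ⟨⟨lat n, (listOf_lat (hbase n hn)).2.2, (listOf_lat (hbase n hn)).2.1⟩,
          (hE _ (List.getElem_mem j.2)).2 n hn, (hE _ (List.getElem_mem k.2)).2 n hn⟩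
      have hnd : (E.map (keyV L base)).Nodup :=
        (incr_pairwise _ hincr).imp fun hab => Nat.ne_of_lt hab
      exact Fin.ext ((List.Nodup.getElem_inj_iff hnd (hi := by simp) (hj := by simp)).1
        (by simpa using hkey))
    have := Nat.card_le_card_of_injective f hf
    rw [Nat.card_fin, hlen] at this
    exact this

theorem data5 : dataOK letters5 lcols5 base5 elts5 cert5 (5 ^ cert5.m) = true := by decide +kernel
theorem data3 : dataOK letters3 lcols3 base3 elts3 cert3 (3 ^ cert3.m) = true := by decide +kernel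
theorem data2 : dataOK letters2 lcols2 base2 elts2 cert2 (2 ^ cert2.m) = true := by decide +kernel
theorem check2 : cert2.check 2 = true := by decide +kernel
theorem check3 : cert3.check 3 = true := by decide +kernel
theorem check5 : cert5.check 5 = true := by decide +kernel

theorem prime_cases {r : ℕ} (hr : r.Prime) (h : r ∣ 495766656000) :
    r = 2 ∨ r = 3 ∨ r = 5 ∨ r = 7 ∨ r = 11 ∨ r = 23 := by
  rw [show 495766656000 = 2 ^ 10 * 3 ^ 7 * 5 ^ 3 * 7 * 11 * 23 by norm_num] at h
  rcases hr.dvd_mul.1 h with h | h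
  · rcases hr.dvd_mul.1 h with h | h
    · rcases hr.dvd_mul.1 h with h | h
      · rcases hr.dvd_mul.1 h with h | h
        · rcases hr.dvd_mul.1 h with h | h
          · exact Or.inl ((Nat.prime_dvd_prime_iff_eq hr Nat.prime_two).1 (hr.dvd_of_dvd_pow h))
          · exact Or.inr (Or.inl ((Nat.prime_dvd_prime_iff_eq hr Nat.prime_three).1 (hr.dvd_of_dvd_pow h)))
        · exact Or.inr (Or.inr (Or.inl ((Nat.prime_dvd_prime_iff_eq hr Nat.prime_five).1 (hr.dvd_of_dvd_pow h))))
      · exact Or.inr (Or.inr (Or.inr (Or.inl ((Nat.prime_dvd_prime_iff_eq hr (by norm_num)).1 h))))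
    · exact Or.inr (Or.inr (Or.inr (Or.inr (Or.inl ((Nat.prime_dvd_prime_iff_eq hr (by norm_num)).1 h)))))
  · exact Or.inr (Or.inr (Or.inr (Or.inr (Or.inr ((Nat.prime_dvd_prime_iff_eq hr (by norm_num)).1 h)))))

theorem hasCyclic_stab : Cfsg.HasCyclicSchurMultiplier G3 1 := by
  have hcard : Nat.card G3 = 495766656000 := card_stabilizer48 sqNorm_vecCo3
  have : Finite G3 := Nat.finite_of_card_ne_zero (by rw [hcard]; norm_num)
  refine SchurTrivial.hasCyclic_one fun Γ _ _ σ hσ hc hd r hr hdvd => ?_
  rw [hcard] at hdvd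
  have h2 : Fact (Nat.Prime 2) := ⟨Nat.prime_two⟩
  have h3 : Fact (Nat.Prime 3) := ⟨Nat.prime_three⟩
  have h5 : Fact (Nat.Prime 5) := ⟨Nat.prime_five⟩
  have h7 : Fact (Nat.Prime 7) := ⟨by norm_num⟩
  have h11 : Fact (Nat.Prime 11) := ⟨by norm_num⟩
  have h23 : Fact (Nat.Prime 23) := ⟨by norm_num⟩
  rcases prime_cases hr hdvd with rfl | rfl | rfl | rfl | rfl | rfl
  · exact not_dvd_of_data letters2 lcols2 base2 elts2 cert2 check2 data2 (i := 484147125)
      (by norm_num [cert2]) (by norm_num) σ hσ hc hd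
  · exact not_dvd_of_data letters3 lcols3 base3 elts3 cert3 check3 data3 (i := 226688000)
      (by norm_num [cert3]) (by norm_num) σ hσ hc hd
  · exact not_dvd_of_data letters5 lcols5 base5 elts5 cert5 check5 data5 (i := 3966133248)
      (by norm_num [cert5]) (by norm_num) σ hσ hc hd
  all_goals exact SchurBound.not_dvd_card_ker_of_sq_not_dvd σ hσ hc hd (by rw [hcard]; norm_num)

end CfsgLib.SchurCoThree
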